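import Mathlib
import Groth.Agent.GrMod.StarInj
import Groth.Agent.GrMod.Hgr
import Groth.Agent.GrMod.Ext
import Groth.Prelude.Def_GrLC

/-!
The torsion of a *injective module is a graded direct summand.
-/

set_option autoImplicit false

universe u

open DirectSum GrLC

namespace Groth.Misc15.SegLC

variable {ι : Type} [AddCommGroup ι] [DecidableEq ι]
variable {R : Type u} [CommRing R]

/-- The pieces of a grading as additive subgroups. -/
def cls {σ : Type u} [SetLike σ R] [AddSubgroupClass σ R] (𝒜 : ι → σ) : ι → AddSubgroup R :=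
  fun i => AddSubgroup.ofClass (𝒜 i)

section

variable {σ : Type u} [SetLike σ R] [AddSubgroupClass σ R] (𝒜 : ι → σ) [GradedRing 𝒜]

noncomputable instance clsGradedRing : GradedRing (cls 𝒜) where
  one_mem := SetLike.GradedOne.one_mem (A := 𝒜)
  mul_mem {i j a b} ha hb := SetLike.GradedMul.mul_mem (A := 𝒜) (i := i) (j := j) ha hb
  decompose' := (decompose 𝒜 : R → _)
  left_inv x := (decompose 𝒜).left_inv x
  right_inv x := (decompose 𝒜).right_inv x

instance clsGradedSMul {M : Type u} [AddCommGroup M] [Module R M] {τ : Type u} [SetLike τ M]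
    (pc : ι → τ) [SetLike.GradedSMul 𝒜 pc] : SetLike.GradedSMul (cls 𝒜) pc :=
  ⟨fun {a g r m} hr hm => SetLike.GradedSMul.smul_mem (A := 𝒜) (B := pc) (i := a) (j := g) hr hm⟩

theorem isHomogeneous_cls {J : Ideal R} (hJ : J.IsHomogeneous 𝒜) : J.IsHomogeneous (cls 𝒜) :=
  fun i _ hr => hJ i hr

theorem gam_isHomogeneous (a : HomogeneousIdeal 𝒜) {M : Type u} [AddCommGroup M] [Module R M]
    (ℳ : ι → AddSubgroup M) [Decomposition ℳ] [SetLike.GradedSMul 𝒜 ℳ] :
    (gam a.toIdeal M).IsHomogeneous ℳ :=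
  GrothGr.isHomogeneous_gam (cls 𝒜) ℳ (isHomogeneous_cls 𝒜 a.isHomogeneous)

/-- A graded retraction of a *injective module onto its torsion. -/
theorem exists_retraction [IsNoetherianRing R] (a : HomogeneousIdeal 𝒜) (X : GMod.{u} 𝒜)
    (hX : IsStarInj 𝒜 X.gr) :
    ∃ p : X.carrier →ₗ[R] X.carrier, IsGrHom X.gr X.gr p ∧
      (∀ x, p x ∈ gam a.toIdeal X.carrier) ∧ ∀ x ∈ gam a.toIdeal X.carrier, p x = x := by
  classical
  have hΓh := gam_isHomogeneous 𝒜 a X.gr
  obtain ⟨K, -, hK, hdis, hmax⟩ := GrothGr.exists_maximal_homogeneous_disjoint (𝒩 := X.gr)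
    (gam a.toIdeal X.carrier) ⊥ GrothGr.isHomogeneous_bot disjoint_bot_right
  letI := (GrothGr.quotPc_isInternal X.gr hK).chooseDecomposition
  haveI := GrothGr.quotPc_gradedSMul 𝒜 X.gr K
  letI := (GrothGr.subPc_isInternal X.gr hΓh).chooseDecomposition
  haveI := GrothGr.subPc_gradedSMul 𝒜 X.gr (gam a.toIdeal X.carrier)
  let φ : gam a.toIdeal X.carrier →ₗ[R] X.carrier ⧸ K :=
    K.mkQ ∘ₗ (gam a.toIdeal X.carrier).subtype
  have hφg : IsGrHom (GrothGr.subPc X.gr (gam a.toIdeal X.carrier)) (GrothGr.quotPc X.gr K) φ :=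
    GrothGr.IsGrHom.comp (GrothGr.mkQ_isGrHom X.gr K) (GrothGr.subtype_isGrHom X.gr _)
  have hφi : Function.Injective φ := by
    rw [← LinearMap.ker_eq_bot, Submodule.eq_bot_iff]
    intro m hm
    exact Subtype.ext (Submodule.disjoint_def.1 hdis _ m.2 ((Submodule.Quotient.mk_eq_zero K).1 hm))
  have hess : ∀ P : Submodule R (X.carrier ⧸ K), P.IsHomogeneous (GrothGr.quotPc X.gr K) →
      (∀ z ∈ P, z ∈ LinearMap.range φ → z = 0) → P = ⊥ := by
    intro P hP hdisj
    have hSK := hmax (P.comap K.mkQ)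
      (fun x hx => by
        show K.mkQ x ∈ P
        rw [Submodule.mkQ_apply, (Submodule.Quotient.mk_eq_zero K).2 hx]
        exact zero_mem P)
      (GrothGr.isHomogeneous_comap (GrothGr.mkQ_isGrHom X.gr K) hP) (by
        rw [Submodule.disjoint_def]
        intro x hx hxP
        have h0 : K.mkQ x = 0 := hdisj _ hxP ⟨⟨x, hx⟩, rfl⟩
        exact Submodule.disjoint_def.1 hdis _ hx ((Submodule.Quotient.mk_eq_zero K).1 h0))
    refine (Submodule.eq_bot_iff _).2 fun q hq => ?_
    obtain ⟨x, rfl⟩ := K.mkQ_surjective q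
    have hx : x ∈ P.comap K.mkQ := hq
    rw [hSK] at hx
    exact (Submodule.Quotient.mk_eq_zero K).2 hx
  -- the quotient is torsion
  have htor : ∀ q : X.carrier ⧸ K, q ∈ gam a.toIdeal (X.carrier ⧸ K) := by
    intro q
    induction q using DirectSum.Decomposition.inductionOn (GrothGr.quotPc X.gr K) with
    | zero => exact zero_mem _
    | add x y hx hy => exact add_mem hx hy
    | @homogeneous g q =>
      let J : Submodule R (X.carrier ⧸ K) := R ∙ (q : X.carrier ⧸ K)
      let W : Submodule R J := (LinearMap.range φ).comap J.subtype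
      obtain ⟨s, hs⟩ : W.FG := IsNoetherian.noetherian W
      have hWtor : ∀ w ∈ W, w ∈ gam a.toIdeal J := by
        rintro w ⟨z, hz⟩
        obtain ⟨n, hn⟩ := z.2
        refine ⟨n, fun r hr => Subtype.ext ?_⟩
        change r • (w : X.carrier ⧸ K) = 0
        rw [show (w : X.carrier ⧸ K) = φ z from hz.symm, ← map_smul,
          show r • z = 0 from Subtype.ext (hn r hr), map_zero]
      choose! n hn using hWtor
      let c := s.sup n
      have hWc : ∀ w ∈ W, ∀ r ∈ a.toIdeal ^ c, r • w = 0 := by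
        intro w hw r hr
        rw [← hs] at hw
        induction hw using Submodule.span_induction with
        | zero => exact smul_zero r
        | add x y _ _ hx hy => rw [smul_add, hx, hy, add_zero]
        | smul b x _ hx => rw [smul_comm, hx, smul_zero]
        | mem x hx =>
          exact hn x (hs ▸ Submodule.subset_span hx) r
            (Ideal.pow_le_pow_right (Finset.le_sup (f := n) hx) hr)
      obtain ⟨k, hk⟩ := a.toIdeal.exists_pow_inf_eq_pow_smul W
      have hzero : ∀ y : J, y ∈ (a.toIdeal ^ (c + k)) • (⊤ : Submodule R J) → y ∈ W → y = 0 := by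
        intro y hy hyW
        have h1 : y ∈ a.toIdeal ^ (c + k - k) • (a.toIdeal ^ k • ⊤ ⊓ W) := by
          rw [← hk (c + k) (by omega)]; exact ⟨hy, hyW⟩
        rw [Nat.add_sub_cancel] at h1
        exact Submodule.smul_induction_on h1 (fun r hr w hw => hWc w hw.2 r hr)
          (fun x z hx hz => by rw [hx, hz, add_zero])
      refine ⟨c + k, fun r hr => ?_⟩
      have hhom := GrothGr.isHomogeneous_pow (cls 𝒜) (isHomogeneous_cls 𝒜 a.isHomogeneous) (c + k)
      rw [← sum_support_decompose (cls 𝒜) r, Finset.sum_smul]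
      refine Finset.sum_eq_zero fun i _ => ?_
      have hri := hhom i hr
      refine (Submodule.span_singleton_eq_bot (R := R)).1 (hess _
        (GrothGr.isHomogeneous_span_singleton (cls 𝒜)
          (GrothGr.smul_mem (GrothGr.quotPc X.gr K) (cls 𝒜) (decompose (cls 𝒜) r i).2 q.2)) ?_)
      intro z hz hzφ
      obtain ⟨b, rfl⟩ := Submodule.mem_span_singleton.1 hz
      let y : J := (b * (decompose (cls 𝒜) r i : R)) •
        (⟨(q : X.carrier ⧸ K), Submodule.mem_span_singleton_self _⟩ : J)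
      have hy : (y : X.carrier ⧸ K) =
          b • (decompose (cls 𝒜) r i : R) • (q : X.carrier ⧸ K) := mul_smul _ _ _
      have := hzero y (Submodule.smul_mem_smul (Ideal.mul_mem_left _ _ hri) Submodule.mem_top)
        (show (y : X.carrier ⧸ K) ∈ LinearMap.range φ by rw [hy]; exact hzφ)
      rw [← hy, this]
      rfl
  obtain ⟨h, hh, hhφ⟩ := hX (GMod.of 𝒜 _ (GrothGr.subPc X.gr (gam a.toIdeal X.carrier)))
    (GMod.of 𝒜 _ (GrothGr.quotPc X.gr K)) φ hφg hφi (gam a.toIdeal X.carrier).subtype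
    (GrothGr.subtype_isGrHom X.gr _)
  refine ⟨h ∘ₗ K.mkQ, GrothGr.IsGrHom.comp hh (GrothGr.mkQ_isGrHom X.gr K), fun x => ?_,
    fun x hx => LinearMap.congr_fun hhφ ⟨x, hx⟩⟩
  obtain ⟨n, hn⟩ := htor (K.mkQ x)
  exact ⟨n, fun r hr => by
    show r • h (K.mkQ x) = 0
    exact (map_smul h r _).symm.trans ((congrArg h (hn r hr)).trans (map_zero h))⟩

end

end Groth.Misc15.SegLC
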