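import Mathlib
import Groth.Agent.LocCohBase.Torsion
import Groth.Agent.Gorenstein.InjDim
import Groth.Prelude.Def_GrLC

/-!
Modules all of whose local cohomology vanishes, and complexes of such modules.
-/

set_option autoImplicit false

universe u

open CategoryTheory

namespace Groth.Misc15.SegLC

open Groth.LocCohBase

variable {R : Type u} [CommRing R]

/-- All local cohomology modules vanish, including the zeroth one. -/
def TA (I : Ideal R) (X : Type u) [AddCommGroup X] [Module R X] : Prop :=
  ∀ j : ℕ, Subsingleton (LocCoh.H I j X)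

variable {I : Ideal R}

theorem TA.of_equiv {X Y : Type u} [AddCommGroup X] [Module R X] [AddCommGroup Y] [Module R Y]
    (h : TA I X) (e : X ≃ₗ[R] Y) : TA I Y := fun j =>
  haveI := h j
  ((localCohomology I j).mapIso e.toModuleIso).toLinearEquiv.toEquiv.symm.subsingleton

theorem map_id_sum {X : Type u} [AddCommGroup X] [Module R X] (j : ℕ) {ι : Type*} (s : Finset ι)
    (f : ι → (X →ₗ[R] X)) (x : HH' I j (ModuleCat.of R X)) :
    (localCohomology I j).map (ModuleCat.ofHom (∑ i ∈ s, f i)) x =
      ∑ i ∈ s, (localCohomology I j).map (ModuleCat.ofHom (f i)) x := by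
  obtain ⟨n, α, rfl⟩ := exists_rep j _ x
  simp only [ι_naturality]
  rw [← map_sum]
  congr 1
  classical
  induction s using Finset.induction with
  | empty => simp
  | @insert a t ha ih =>
    rw [Finset.sum_insert ha, Finset.sum_insert ha, ← ih,
      show ModuleCat.ofHom (f a + ∑ i ∈ t, f i) =
        ModuleCat.ofHom (f a) + ModuleCat.ofHom (∑ i ∈ t, f i) from rfl,
      Abelian.Ext.mk₀_add, Abelian.Ext.comp_add]

/-- Retracts of totally acyclic modules. -/
theorem TA.of_sum {X : Type u} [AddCommGroup X] [Module R X] {ι : Type*} [Fintype ι]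
    (Y : ι → Type u) [∀ i, AddCommGroup (Y i)] [∀ i, Module R (Y i)] (hY : ∀ i, TA I (Y i))
    (f : ∀ i, X →ₗ[R] Y i) (g : ∀ i, Y i →ₗ[R] X) (hfg : ∀ x, ∑ i, g i (f i x) = x) :
    TA I X := by
  intro j
  refine subsingleton_of_forall_eq 0 fun x => ?_
  have h1 : (localCohomology I j).map (ModuleCat.ofHom (∑ i, (g i).comp (f i))) x = x := by
    rw [show (∑ i, (g i).comp (f i)) = LinearMap.id from LinearMap.ext fun y => by simp [hfg],
      ModuleCat.ofHom_id, CategoryTheory.Functor.map_id]
    rfl
  rw [← h1, map_id_sum]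
  refine Finset.sum_eq_zero fun i _ => ?_
  rw [show ModuleCat.ofHom ((g i).comp (f i)) = ModuleCat.ofHom (f i) ≫ ModuleCat.ofHom (g i)
    from rfl, Functor.map_comp, ConcreteCategory.comp_apply]
  haveI : Subsingleton (HH' I j (ModuleCat.of R (Y i))) := hY i j
  rw [Subsingleton.elim ((localCohomology I j).map (ModuleCat.ofHom (f i)) x) 0, map_zero]

theorem TA.retract {X Y : Type u} [AddCommGroup X] [Module R X] [AddCommGroup Y] [Module R Y]
    (hY : TA I Y) (f : X →ₗ[R] Y) (g : Y →ₗ[R] X) (hfg : ∀ x, g (f x) = x) : TA I X :=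
  TA.of_sum (ι := Unit) (fun _ => Y) (fun _ => hY) (fun _ => f) (fun _ => g) (by simpa using hfg)

theorem TA.pi {ι : Type*} [Fintype ι] (Y : ι → Type u) [∀ i, AddCommGroup (Y i)]
    [∀ i, Module R (Y i)] (X : Type u) [AddCommGroup X] [Module R X] (e : X ≃ₗ[R] ∀ i, Y i)
    (hY : ∀ i, TA I (Y i)) : TA I X := by
  classical
  refine TA.of_sum Y hY (fun i => (LinearMap.proj i).comp e.toLinearMap)
    (fun i => e.symm.toLinearMap.comp (LinearMap.single R Y i)) fun x => ?_
  simp only [LinearMap.comp_apply, LinearEquiv.coe_coe, LinearMap.proj_apply,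
    LinearMap.coe_single]
  rw [← map_sum, Finset.univ_sum_single, LinearEquiv.symm_apply_apply]

theorem TA.prod {X Y : Type u} [AddCommGroup X] [Module R X] [AddCommGroup Y] [Module R Y]
    (hX : TA I X) (hY : TA I Y) : TA I (X × Y) := fun j =>
  subsingleton_X₂ (GrothGoren.seqCx_shortExact (LinearMap.inl R X Y) (LinearMap.snd R X Y)
    Function.Exact.inl_snd LinearMap.inl_injective LinearMap.snd_surjective) j (hX j) (hY j)

/-- A module on which an element of the radical acts bijectively. -/
theorem TA.of_bijective {X : Type u} [AddCommGroup X] [Module R X] {t : R} (ht : t ∈ I.radical)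
    (hb : Function.Bijective fun x : X => t • x) : TA I X := by
  intro j
  refine subsingleton_of_forall_eq 0 fun x => ?_
  obtain ⟨l, hl⟩ := ht
  let μ : X ≃ₗ[R] X := LinearEquiv.ofBijective (t • LinearMap.id) hb
  have hinj : Function.Injective fun y : HH' I j (ModuleCat.of R X) => t • y := by
    intro y z hyz
    simp only [smul_eq_map] at hyz
    have he : t • 𝟙 (ModuleCat.of R X) = μ.toModuleIso.hom := rfl
    rw [he] at hyz
    exact ((localCohomology I j).mapIso μ.toModuleIso).toLinearEquiv.injective hyz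
  obtain ⟨n, hn⟩ := exists_pow_smul_eq_zero j (ModuleCat.of R X) x
  have h0 : (t ^ (l * n)) • x = 0 := hn _ (by rw [pow_mul]; exact Ideal.pow_mem_pow hl n)
  have key : ∀ m : ℕ, t ^ m • x = 0 → x = 0 := by
    intro m
    induction m with
    | zero => intro h; rwa [pow_zero, one_smul] at h
    | succ m ih =>
      intro h
      refine ih (hinj ?_)
      show t • t ^ m • x = t • (0 : HH' I j (ModuleCat.of R X))
      rw [smul_zero, smul_smul, ← pow_succ', h]
  exact key _ h0

theorem TA.torsionFree {X : Type u} [AddCommGroup X] [Module R X] (h : TA I X) {x : X}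
    (hx : x ∈ GrLC.gam I X) : x = 0 := by
  have h0 := (subsingleton_H_zero_iff I X).1 (h 0)
  have hx' : x ∈ DRing.torsionSub I X := hx
  rwa [h0, Submodule.mem_bot] at hx'

/-- Quotient of totally acyclic modules. -/
theorem TA.quotient {X : Type u} [AddCommGroup X] [Module R X] (N : Submodule R X)
    (hX : TA I X) (hN : TA I N) : TA I (X ⧸ N) := fun j =>
  subsingleton_X₃ (subSeq_shortExact N) j (hX j) (hN (j + 1))

/-- Dividing out the torsion of an acyclic module. -/
theorem TA.quot_gam [IsNoetherianRing R] {X : Type u} [AddCommGroup X] [Module R X]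
    (hX : ∀ j, Subsingleton (LocCoh.H I (j + 1) X)) : TA I (X ⧸ GrLC.gam I X) := by
  intro j
  cases j with
  | zero =>
    exact (subsingleton_H_zero_iff I _).2
      (torsionSub_quotient_eq_bot (IsNoetherian.noetherian I) X)
  | succ j =>
    haveI := hX j
    exact (map_mkQ_torsion_bijective I j X).2.subsingleton

section Complex

variable {A : Type u} [AddCommGroup A] [Module R A] (C : ℕ → Type u) [∀ n, AddCommGroup (C n)]
  [∀ n, Module R (C n)] (ι : A →ₗ[R] C 0) (d : ∀ n, C n →ₗ[R] C (n + 1))

/-- An augmented complex of totally acyclic modules with torsion cohomology is exact. -/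
theorem exact_of_TA (hA : TA I A) (hC : ∀ n, TA I (C n)) (hdι : ∀ a, d 0 (ι a) = 0)
    (hdd : ∀ n x, d (n + 1) (d n x) = 0) (htorι : ∀ a, ι a = 0 → a ∈ GrLC.gam I A)
    (htor0 : ∀ x, d 0 x = 0 → ∃ N : ℕ, ∀ r ∈ I ^ N, r • x ∈ LinearMap.range ι)
    (htor : ∀ n x, d (n + 1) x = 0 → ∃ N : ℕ, ∀ r ∈ I ^ N, r • x ∈ LinearMap.range (d n)) :
    Function.Injective ι ∧ LinearMap.ker (d 0) = LinearMap.range ι ∧
      ∀ n, LinearMap.ker (d (n + 1)) = LinearMap.range (d n) := by
  have hinj : Function.Injective ι := by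
    rw [← LinearMap.ker_eq_bot, Submodule.eq_bot_iff]
    exact fun a ha => hA.torsionFree (htorι a ha)
  have step : ∀ (n : ℕ) (B : Submodule R (C n)), TA I B → (∀ x ∈ B, d n x = 0) →
      (∀ x, d n x = 0 → ∃ N : ℕ, ∀ r ∈ I ^ N, r • x ∈ B) →
      LinearMap.ker (d n) = B ∧ TA I (LinearMap.range (d n)) := by
    intro n B hB hle htB
    have hW := (hC n).quotient B hB
    have heq : LinearMap.ker (d n) = B := by
      refine le_antisymm (fun x hx => ?_) hle
      obtain ⟨N, hN⟩ := htB x hx
      refine (Submodule.Quotient.mk_eq_zero _).1 (hW.torsionFree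
        (x := (Submodule.Quotient.mk x : C n ⧸ B)) ⟨N, fun r hr => ?_⟩)
      rw [← Submodule.Quotient.mk_smul, Submodule.Quotient.mk_eq_zero]
      exact hN r hr
    exact ⟨heq, hW.of_equiv
      ((Submodule.quotEquivOfEq _ _ heq.symm).trans (d n).quotKerEquivRange)⟩
  have h0 := step 0 _ (hA.of_equiv (LinearEquiv.ofInjective ι hinj))
    (by rintro _ ⟨a, rfl⟩; exact hdι a) htor0
  have hall : ∀ n, TA I (LinearMap.range (d n)) := by
    intro n
    induction n with
    | zero => exact h0.2
    | succ n ih => exact (step (n + 1) _ ih (by rintro _ ⟨a, rfl⟩; exact hdd n a) (htor n)).2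
  exact ⟨hinj, h0.1, fun n =>
    (step (n + 1) _ (hall n) (by rintro _ ⟨a, rfl⟩; exact hdd n a) (htor n)).1⟩

end Complex

end Groth.Misc15.SegLC
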