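import Mathlib
import Groth.Agent.Misc15.SegLC.TotAcyc
import Groth.Agent.Misc15.SegLC.Retraction
import Groth.Agent.GrMod.Compare

/-!
Graded local cohomology from a resolution up to torsion by totally acyclic modules.
-/

set_option autoImplicit false

universe u

open DirectSum GrLC

namespace Groth.Misc15.SegLC

variable {ι : Type} [AddCommGroup ι] [DecidableEq ι]
variable {R : Type u} [CommRing R] {σ : Type u} [SetLike σ R] [AddSubgroupClass σ R]
  {𝒜 : ι → σ} [GradedRing 𝒜]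
variable {M : Type u} [AddCommGroup M] [Module R M] {τ : Type u} [SetLike τ M]
  [AddSubgroupClass τ M]

/-- The pieces of a module as additive subgroups. -/
def clsM (ℳ : ι → τ) : ι → AddSubgroup M := fun i => AddSubgroup.ofClass (ℳ i)

noncomputable instance clsMDecomposition (ℳ : ι → τ) [Decomposition ℳ] :
    Decomposition (clsM ℳ) where
  decompose' := (decompose ℳ : M → _)
  left_inv x := (decompose ℳ).left_inv x
  right_inv x := (decompose ℳ).right_inv x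

instance clsMGradedSMul (ℳ : ι → τ) [SetLike.GradedSMul 𝒜 ℳ] :
    SetLike.GradedSMul 𝒜 (clsM ℳ) :=
  ⟨fun {a g r m} hr hm => SetLike.GradedSMul.smul_mem (A := 𝒜) (B := ℳ) (i := a) (j := g) hr hm⟩

theorem IsStarInj.toCls {X : GMod.{u} 𝒜} (hX : IsStarInj 𝒜 X.gr) :
    IsStarInj (cls 𝒜) X.gr := by
  intro A B f hf hfi g hg
  haveI hA : SetLike.GradedSMul 𝒜 A.gr :=
    ⟨fun {a j r m} hr hm =>
      SetLike.GradedSMul.smul_mem (A := cls 𝒜) (B := A.gr) (i := a) (j := j) hr hm⟩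
  haveI hB : SetLike.GradedSMul 𝒜 B.gr :=
    ⟨fun {a j r m} hr hm =>
      SetLike.GradedSMul.smul_mem (A := cls 𝒜) (B := B.gr) (i := a) (j := j) hr hm⟩
  exact hX (GMod.of 𝒜 A.carrier A.gr) (GMod.of 𝒜 B.carrier B.gr) f hf hfi g hg

theorem subsingleton_H_of_gMod [IsNoetherianRing R] (a : HomogeneousIdeal 𝒜) {X : GMod.{u} 𝒜}
    (hX : IsStarInj 𝒜 X.gr) (j : ℕ) : Subsingleton (LocCoh.H a.toIdeal (j + 1) X.carrier) :=
  GrothGr.subsingleton_H_of_isStarInj (cls 𝒜) X.gr (IsStarInj.toCls hX)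
    ⟨a.toIdeal, isHomogeneous_cls 𝒜 a.isHomogeneous⟩ j

/-- An augmented complex of totally acyclic modules with torsion cohomology. -/
structure TorRes (a : HomogeneousIdeal 𝒜) (ℳ : ι → τ) [Decomposition ℳ]
    [SetLike.GradedSMul 𝒜 ℳ] : Type (u + 1) where
  /-- the terms -/
  C : ℕ → GMod.{u} 𝒜
  /-- the differentials -/
  d : ∀ n : ℕ, (C n).carrier →ₗ[R] (C (n + 1)).carrier
  /-- the augmentation -/
  aug : M →ₗ[R] (C 0).carrier
  d_grHom : ∀ n : ℕ, IsGrHom (C n).gr (C (n + 1)).gr (d n)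
  aug_grHom : IsGrHom ℳ (C 0).gr aug
  d_aug : ∀ m, d 0 (aug m) = 0
  d_d : ∀ n x, d (n + 1) (d n x) = 0
  ta : ∀ n, TA a.toIdeal (C n).carrier
  tor_aug : ∀ m, aug m = 0 → m ∈ gam a.toIdeal M
  tor_zero : ∀ z, d 0 z = 0 → ∃ N : ℕ, ∀ r ∈ a.toIdeal ^ N, r • z ∈ LinearMap.range aug
  tor_succ : ∀ n z, d (n + 1) z = 0 → ∃ N : ℕ, ∀ r ∈ a.toIdeal ^ N, r • z ∈ LinearMap.range (d n)

theorem map_gam' {A B : Type u} [AddCommGroup A] [Module R A] [AddCommGroup B] [Module R B]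
    (f : A →ₗ[R] B) {J : Ideal R} {x : A} (hx : x ∈ gam J A) : f x ∈ gam J B :=
  GrothGr.map_gam f J hx

/-- An element multiplied into the torsion by a power of the ideal is torsion. -/
theorem mem_gam_of_smul_mem [IsNoetherianRing R] {J : Ideal R} {X : Type u} [AddCommGroup X]
    [Module R X] {x : X} {N : ℕ} (h : ∀ r ∈ J ^ N, r • x ∈ gam J X) : x ∈ gam J X := by
  have hbot := Groth.LocCohBase.torsionSub_quotient_eq_bot (IsNoetherian.noetherian J) X
  have hx : (Submodule.Quotient.mk x : X ⧸ DRing.torsionSub J X) ∈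
      DRing.torsionSub J (X ⧸ DRing.torsionSub J X) :=
    ⟨N, fun r hr => by rw [← Submodule.Quotient.mk_smul, Submodule.Quotient.mk_eq_zero]; exact h r hr⟩
  rw [hbot, Submodule.mem_bot, Submodule.Quotient.mk_eq_zero] at hx
  exact hx

/-- Torsion modulo a submodule can be detected after a power of the ideal. -/
theorem exists_pow_mem [IsNoetherianRing R] {J : Ideal R} {X : Type u} [AddCommGroup X]
    [Module R X] {B : Submodule R X} {x : X} {N : ℕ}
    (h : ∀ r ∈ J ^ N, ∃ N' : ℕ, ∀ s ∈ J ^ N', s • r • x ∈ B) :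
    ∃ N : ℕ, ∀ r ∈ J ^ N, r • x ∈ B := by
  have hx : (Submodule.Quotient.mk x : X ⧸ B) ∈ gam J (X ⧸ B) :=
    mem_gam_of_smul_mem (N := N) fun r hr => by
      obtain ⟨N', hN'⟩ := h r hr
      exact ⟨N', fun s hs => by
        rw [← Submodule.Quotient.mk_smul, ← Submodule.Quotient.mk_smul,
          Submodule.Quotient.mk_eq_zero]
        exact hN' s hs⟩
  obtain ⟨N', hN'⟩ := hx
  exact ⟨N', fun r hr => by
    rw [← Submodule.Quotient.mk_eq_zero B, Submodule.Quotient.mk_smul]; exact hN' r hr⟩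

variable {ℳ : ι → τ} [Decomposition ℳ] [SetLike.GradedSMul 𝒜 ℳ] {a : HomogeneousIdeal 𝒜}

/-- A map into a *injective resolution commuting with the differentials up to torsion. -/
structure CompMap (E : StarInjRes 𝒜 ℳ) (D : TorRes a ℳ) : Type u where
  /-- the components -/
  f : ∀ n, (D.C n).carrier →ₗ[R] (E.X n).carrier
  grHom : ∀ n, IsGrHom (D.C n).gr (E.X n).gr (f n)
  comm_ε : ∀ m, f 0 (D.aug m) - E.ε m ∈ gam a.toIdeal (E.X 0).carrier
  comm : ∀ n x, f (n + 1) (D.d n x) - E.d n (f n x) ∈ gam a.toIdeal (E.X (n + 1)).carrier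

variable [IsNoetherianRing R]

theorem nonempty_compMap (E : StarInjRes 𝒜 ℳ) (D : TorRes a ℳ) : Nonempty (CompMap E D) := by
  choose p hp hpΓ hpfix using fun n => exists_retraction 𝒜 a (E.X n) (E.starInj n)
  have hπ : ∀ n, IsGrHom (E.X n).gr (E.X n).gr (LinearMap.id - p n) := fun n g x hx =>
    sub_mem hx (hp n g x hx)
  have hker : ∀ n x, x ∈ gam a.toIdeal (E.X n).carrier → (LinearMap.id - p n : _ →ₗ[R] _) x = 0 :=
    fun n x hx => by rw [LinearMap.sub_apply, LinearMap.id_apply, hpfix n x hx, sub_self]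
  obtain ⟨f₀, hf₀, hf₀ε⟩ := GrothGr.exists_lift_of_ker_le (cls 𝒜) (clsM ℳ) (D.C 0).gr (E.X 0).gr
    (IsStarInj.toCls (E.starInj 0)) (g := D.aug) D.aug_grHom
    (f := (LinearMap.id - p 0) ∘ₗ E.ε) (fun g m hm => hπ 0 g _ (E.ε_grHom g m hm))
    (fun m hm => LinearMap.mem_ker.2 (hker 0 _ (map_gam' E.ε (D.tor_aug m hm))))
  have hf₀ε' : ∀ m, f₀ (D.aug m) - E.ε m ∈ gam a.toIdeal (E.X 0).carrier := fun m => by
    rw [show f₀ (D.aug m) = E.ε m - p 0 (E.ε m) from LinearMap.congr_fun hf₀ε m, sub_sub_cancel_left]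
    exact neg_mem (hpΓ 0 _)
  let P : ∀ n, ((D.C n).carrier →ₗ[R] (E.X n).carrier) → Prop := fun n f =>
    IsGrHom (D.C n).gr (E.X n).gr f ∧
      ∀ z, D.d n z = 0 → E.d n (f z) ∈ gam a.toIdeal (E.X (n + 1)).carrier
  have h0 : P 0 f₀ := by
    refine ⟨hf₀, fun z hz => ?_⟩
    obtain ⟨N, hN⟩ := D.tor_zero z hz
    refine mem_gam_of_smul_mem (N := N) fun r hr => ?_
    obtain ⟨m, hm⟩ := hN r hr
    rw [← map_smul, ← map_smul, ← hm, ← sub_add_cancel (f₀ (D.aug m)) (E.ε m), map_add,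
      show E.d 0 (E.ε m) = 0 from LinearMap.mem_ker.1 (E.exact_zero.ge ⟨m, rfl⟩), add_zero]
    exact map_gam' _ (hf₀ε' m)
  have hstep : ∀ n f, P n f → ∃ g, P (n + 1) g ∧
      ∀ x, g (D.d n x) - E.d n (f x) ∈ gam a.toIdeal (E.X (n + 1)).carrier := by
    intro n f hf
    obtain ⟨g, hg, hgd⟩ := GrothGr.exists_lift_of_ker_le (cls 𝒜) (D.C n).gr (D.C (n + 1)).gr
      (E.X (n + 1)).gr (IsStarInj.toCls (E.starInj (n + 1))) (g := D.d n) (D.d_grHom n)
      (f := (LinearMap.id - p (n + 1)) ∘ₗ E.d n ∘ₗ f)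
      (fun i x hx => hπ (n + 1) i _ (E.d_grHom n i _ (hf.1 i x hx)))
      (fun z hz => LinearMap.mem_ker.2 (hker (n + 1) _ (hf.2 z hz)))
    have hg' : ∀ x, g (D.d n x) - E.d n (f x) ∈ gam a.toIdeal (E.X (n + 1)).carrier := fun x => by
      rw [show g (D.d n x) = E.d n (f x) - p (n + 1) (E.d n (f x)) from LinearMap.congr_fun hgd x,
        sub_sub_cancel_left]
      exact neg_mem (hpΓ _ _)
    refine ⟨g, ⟨hg, fun z hz => ?_⟩, hg'⟩
    obtain ⟨N, hN⟩ := D.tor_succ n z hz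
    refine mem_gam_of_smul_mem (N := N) fun r hr => ?_
    obtain ⟨w, hw⟩ := hN r hr
    rw [← map_smul, ← map_smul, ← hw, ← sub_add_cancel (g (D.d n w)) (E.d n (f w)), map_add,
      show E.d (n + 1) (E.d n (f w)) = 0 from LinearMap.mem_ker.1 ((E.exact_succ n).ge ⟨_, rfl⟩),
      add_zero]
    exact map_gam' _ (hg' w)
  choose g hg hgd using hstep
  let seq : ∀ n, {f // P n f} := fun n => Nat.rec (motive := fun n => {f // P n f}) ⟨f₀, h0⟩
    (fun k q => ⟨g k q.1 q.2, hg k q.1 q.2⟩) n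
  exact ⟨⟨fun n => (seq n).1, fun n => (seq n).2.1, hf₀ε',
    fun n x => hgd n (seq n).1 (seq n).2 x⟩⟩

namespace CompMap

variable {E : StarInjRes 𝒜 ℳ} {D : TorRes a ℳ} (φ : CompMap E D)

theorem d_mem_zero {z : (D.C 0).carrier} (hz : D.d 0 z = 0) :
    E.d 0 (φ.f 0 z) ∈ gam a.toIdeal (E.X 1).carrier := by
  obtain ⟨N, hN⟩ := D.tor_zero z hz
  refine mem_gam_of_smul_mem (N := N) fun r hr => ?_
  obtain ⟨m, hm⟩ := hN r hr
  rw [← map_smul, ← map_smul, ← hm, ← sub_add_cancel (φ.f 0 (D.aug m)) (E.ε m), map_add,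
    show E.d 0 (E.ε m) = 0 from LinearMap.mem_ker.1 (E.exact_zero.ge ⟨m, rfl⟩), add_zero]
  exact map_gam' _ (φ.comm_ε m)

theorem d_mem_succ {n : ℕ} {z : (D.C (n + 1)).carrier} (hz : D.d (n + 1) z = 0) :
    E.d (n + 1) (φ.f (n + 1) z) ∈ gam a.toIdeal (E.X (n + 2)).carrier := by
  obtain ⟨N, hN⟩ := D.tor_succ n z hz
  refine mem_gam_of_smul_mem (N := N) fun r hr => ?_
  obtain ⟨w, hw⟩ := hN r hr
  rw [← map_smul, ← map_smul, ← hw, ← sub_add_cancel (φ.f (n + 1) (D.d n w)) (E.d n (φ.f n w)),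
    map_add, show E.d (n + 1) (E.d n (φ.f n w)) = 0 from
      LinearMap.mem_ker.1 ((E.exact_succ n).ge ⟨_, rfl⟩), add_zero]
  exact map_gam' _ (φ.comm n w)

theorem d_mem : ∀ {n : ℕ} {z : (D.C n).carrier}, D.d n z = 0 →
    E.d n (φ.f n z) ∈ gam a.toIdeal (E.X (n + 1)).carrier
  | 0, _, hz => φ.d_mem_zero hz
  | _ + 1, _, hz => φ.d_mem_succ hz

/-- The class in local cohomology of a cocycle of the resolution up to torsion. -/
noncomputable def psi (n : ℕ) : LinearMap.ker (D.d n) →ₗ[R] E.H a (n + 1) :=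
  E.toH a (n + 1) ∘ₗ
    ((E.d n ∘ₗ φ.f n ∘ₗ (LinearMap.ker (D.d n)).subtype).codRestrict (E.cocyc a (n + 1)) fun z =>
      ⟨φ.d_mem z.2, LinearMap.mem_ker.2 (LinearMap.mem_ker.1
        ((E.exact_succ n).ge ⟨φ.f n z, rfl⟩))⟩)

/-- The quotient of a term of the resolution by its torsion. -/
abbrev F (E : StarInjRes 𝒜 ℳ) (a : HomogeneousIdeal 𝒜) (n : ℕ) : Type u :=
  (E.X n).carrier ⧸ gam a.toIdeal (E.X n).carrier

/-- The differential modulo torsion. -/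
noncomputable def dF (E : StarInjRes 𝒜 ℳ) (a : HomogeneousIdeal 𝒜) (n : ℕ) :
    F E a n →ₗ[R] F E a (n + 1) :=
  Submodule.mapQ _ _ (E.d n) fun _ hx => map_gam' _ hx

theorem dF_mk (n : ℕ) (y : (E.X n).carrier) :
    dF E a n (Submodule.Quotient.mk y) = Submodule.Quotient.mk (E.d n y) := rfl

/-- The comparison of terms modulo torsion. -/
noncomputable def fF (n : ℕ) : (D.C n).carrier →ₗ[R] F E a n :=
  (gam a.toIdeal (E.X n).carrier).mkQ ∘ₗ φ.f n

theorem fF_d (n : ℕ) (x : (D.C n).carrier) : φ.fF (n + 1) (D.d n x) = dF E a n (φ.fF n x) :=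
  (Submodule.Quotient.eq _).2 (φ.comm n x)

theorem dF_dF (n : ℕ) (y : F E a n) : dF E a (n + 1) (dF E a n y) = 0 := by
  obtain ⟨y, rfl⟩ := Submodule.Quotient.mk_surjective _ y
  rw [dF_mk, dF_mk, show E.d (n + 1) (E.d n y) = 0 from
    LinearMap.mem_ker.1 ((E.exact_succ n).ge ⟨_, rfl⟩), Submodule.Quotient.mk_zero]

/-- The differential of the cone. -/
noncomputable def dK (n : ℕ) :
    (D.C (n + 1)).carrier × F E a n →ₗ[R] (D.C (n + 2)).carrier × F E a (n + 1) :=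
  LinearMap.prod (D.d (n + 1) ∘ₗ LinearMap.fst R _ _)
    (φ.fF (n + 1) ∘ₗ LinearMap.fst R _ _ - dF E a n ∘ₗ LinearMap.snd R _ _)

/-- The augmentation of the cone. -/
noncomputable def augK : (D.C 0).carrier →ₗ[R] (D.C 1).carrier × F E a 0 :=
  LinearMap.prod (D.d 0) (φ.fF 0)

theorem ta_F (n : ℕ) : TA a.toIdeal (F E a n) :=
  TA.quot_gam (subsingleton_H_of_gMod a (E.starInj n))

theorem exact_cone :
    Function.Injective φ.augK ∧ LinearMap.ker (φ.dK 0) = LinearMap.range φ.augK ∧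
      ∀ n, LinearMap.ker (φ.dK (n + 1)) = LinearMap.range (φ.dK n) := by
  refine exact_of_TA (I := a.toIdeal) (fun n => (D.C (n + 1)).carrier × F E a n) φ.augK φ.dK
    (D.ta 0) (fun n => TA.prod (D.ta (n + 1)) (ta_F n)) ?_ ?_ ?_ ?_ ?_
  · intro c
    refine Prod.ext (D.d_d 0 c) ?_
    show φ.fF 1 (D.d 0 c) - dF E a 0 (φ.fF 0 c) = 0
    rw [fF_d, sub_self]
  · rintro n ⟨c, e⟩
    refine Prod.ext (D.d_d (n + 1) c) ?_
    show φ.fF (n + 2) (D.d (n + 1) c) - dF E a (n + 1) (φ.fF (n + 1) c - dF E a n e) = 0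
    rw [fF_d, map_sub, dF_dF, sub_zero, sub_self]
  · intro c hc
    obtain ⟨hc1, hc2⟩ := Prod.mk.inj hc
    obtain ⟨N, hN⟩ := D.tor_zero c hc1
    refine ⟨N, fun r hr => ?_⟩
    obtain ⟨m, hm⟩ := hN r hr
    have h2 : φ.f 0 (D.aug m) ∈ gam a.toIdeal (E.X 0).carrier := by
      rw [hm, map_smul]
      exact Submodule.smul_mem _ r ((Submodule.Quotient.mk_eq_zero _).1 hc2)
    have h3 : E.ε m ∈ gam a.toIdeal (E.X 0).carrier := by
      rw [← sub_sub_cancel (φ.f 0 (D.aug m)) (E.ε m)]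
      exact sub_mem h2 (φ.comm_ε m)
    obtain ⟨N', hN'⟩ := h3
    have hm' : m ∈ gam a.toIdeal M :=
      ⟨N', fun s hs => E.ε_injective (by rw [map_smul, hN' s hs, map_zero])⟩
    rw [← hm]
    exact (D.ta 0).torsionFree (map_gam' D.aug hm')
  · rintro ⟨c, e⟩ hce
    obtain ⟨hc1, hc2⟩ := Prod.mk.inj hce
    obtain ⟨y, rfl⟩ := Submodule.Quotient.mk_surjective _ e
    change φ.fF 1 c - dF E a 0 (Submodule.Quotient.mk y) = 0 at hc2
    obtain ⟨N, hN⟩ := D.tor_succ 0 c hc1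
    refine exists_pow_mem (N := N) fun r hr => ?_
    obtain ⟨c', hc'⟩ := hN r hr
    obtain ⟨N', hN'⟩ : E.d 0 (r • y - φ.f 0 c') ∈ gam a.toIdeal (E.X 1).carrier := by
      refine (Submodule.Quotient.mk_eq_zero _).1 ?_
      rw [← dF_mk, Submodule.Quotient.mk_sub, Submodule.Quotient.mk_smul, map_sub, map_smul,
        ← sub_eq_zero.1 hc2, ← map_smul, ← hc', fF_d]
      exact sub_self _
    refine ⟨N', fun s hs => ?_⟩
    obtain ⟨m, hm⟩ : s • (r • y - φ.f 0 c') ∈ LinearMap.range E.ε :=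
      E.exact_zero ▸ LinearMap.mem_ker.2 ((map_smul _ _ _).trans (hN' s hs))
    refine ⟨s • c' + D.aug m, Prod.ext ?_ ?_⟩
    · show D.d 0 (s • c' + D.aug m) = s • r • c
      rw [map_add, map_smul, hc', D.d_aug, add_zero]
    · show φ.fF 0 (s • c' + D.aug m) = s • r • Submodule.Quotient.mk y
      have h1 : φ.fF 0 (D.aug m) = Submodule.Quotient.mk (E.ε m) :=
        (Submodule.Quotient.eq _).2 (φ.comm_ε m)
      rw [map_add, map_smul, h1, hm, Submodule.Quotient.mk_smul, ← smul_add,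
        Submodule.Quotient.mk_sub, Submodule.Quotient.mk_smul]
      congr 1
      exact add_sub_cancel _ _
  · rintro n ⟨c, e⟩ hce
    obtain ⟨hc1, hc2⟩ := Prod.mk.inj hce
    obtain ⟨y, rfl⟩ := Submodule.Quotient.mk_surjective _ e
    change φ.fF (n + 2) c - dF E a (n + 1) (Submodule.Quotient.mk y) = 0 at hc2
    obtain ⟨N, hN⟩ := D.tor_succ (n + 1) c hc1
    refine exists_pow_mem (N := N) fun r hr => ?_
    obtain ⟨c', hc'⟩ := hN r hr
    obtain ⟨N', hN'⟩ :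
        E.d (n + 1) (r • y - φ.f (n + 1) c') ∈ gam a.toIdeal (E.X (n + 2)).carrier := by
      refine (Submodule.Quotient.mk_eq_zero _).1 ?_
      rw [← dF_mk, Submodule.Quotient.mk_sub, Submodule.Quotient.mk_smul, map_sub, map_smul,
        ← sub_eq_zero.1 hc2, ← map_smul, ← hc', fF_d]
      exact sub_self _
    refine ⟨N', fun s hs => ?_⟩
    obtain ⟨w, hw⟩ : s • (r • y - φ.f (n + 1) c') ∈ LinearMap.range (E.d n) :=
      E.exact_succ n ▸ LinearMap.mem_ker.2 ((map_smul _ _ _).trans (hN' s hs))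
    refine ⟨(s • c', -Submodule.Quotient.mk w), Prod.ext ?_ ?_⟩
    · show D.d (n + 1) (s • c') = s • r • c
      rw [map_smul, hc']
    · show φ.fF (n + 1) (s • c') - dF E a n (-Submodule.Quotient.mk w) =
        s • r • Submodule.Quotient.mk y
      rw [map_neg, sub_neg_eq_add, map_smul, dF_mk, hw, Submodule.Quotient.mk_smul, ← smul_add,
        Submodule.Quotient.mk_sub, Submodule.Quotient.mk_smul]
      congr 1
      exact add_sub_cancel _ _

theorem psi_apply (n : ℕ) (z : LinearMap.ker (D.d n))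
    (h : E.d n (φ.f n z) ∈ E.cocyc a (n + 1)) :
    φ.psi n z = E.toH a (n + 1) ⟨E.d n (φ.f n z), h⟩ := rfl

theorem psi_eq_zero_iff (n : ℕ) (z : LinearMap.ker (D.d n)) :
    φ.psi n z = 0 ↔ ∃ γ ∈ gam a.toIdeal (E.X n).carrier, E.d n γ = E.d n (φ.f n z) := by
  refine (Submodule.Quotient.mk_eq_zero _).trans ?_
  exact ⟨fun ⟨γ, h, he⟩ => ⟨γ, h, he⟩, fun ⟨γ, h, he⟩ => ⟨γ, h, he⟩⟩

/-- The kernel in degree one. -/
theorem psi_zero_eq_zero_iff (z : LinearMap.ker (D.d 0)) :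
    φ.psi 0 z = 0 ↔ (z : (D.C 0).carrier) ∈ LinearMap.range D.aug := by
  rw [psi_eq_zero_iff]
  constructor
  · rintro ⟨γ, hγ, hd⟩
    obtain ⟨m, hm⟩ : φ.f 0 z - γ ∈ LinearMap.range E.ε :=
      E.exact_zero ▸ LinearMap.mem_ker.2 (by rw [map_sub, hd, sub_self])
    refine ⟨m, (φ.exact_cone).1 (Prod.ext ?_ ?_)⟩
    · show D.d 0 (D.aug m) = D.d 0 z
      rw [D.d_aug, show D.d 0 z = 0 from z.2]
    · show φ.fF 0 (D.aug m) = φ.fF 0 z
      refine (Submodule.Quotient.eq _).2 ?_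
      rw [show φ.f 0 (D.aug m) - φ.f 0 z = φ.f 0 (D.aug m) - E.ε m + -γ by rw [hm]; abel]
      exact add_mem (φ.comm_ε m) (neg_mem hγ)
  · rintro ⟨m, hm⟩
    refine ⟨_, φ.comm_ε m, ?_⟩
    rw [map_sub, show E.d 0 (E.ε m) = 0 from LinearMap.mem_ker.1 (E.exact_zero.ge ⟨m, rfl⟩),
      sub_zero, hm]

/-- The kernel in higher degrees. -/
theorem psi_succ_eq_zero_iff (n : ℕ) (z : LinearMap.ker (D.d (n + 1))) :
    φ.psi (n + 1) z = 0 ↔ (z : (D.C (n + 1)).carrier) ∈ LinearMap.range (D.d n) := by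
  rw [psi_eq_zero_iff]
  constructor
  · rintro ⟨γ, hγ, hd⟩
    obtain ⟨y, hy⟩ : φ.f (n + 1) z - γ ∈ LinearMap.range (E.d n) :=
      E.exact_succ n ▸ LinearMap.mem_ker.2 (by rw [map_sub, hd, sub_self])
    have hker : ((z : (D.C (n + 1)).carrier), (Submodule.Quotient.mk y : F E a n)) ∈
        LinearMap.ker (φ.dK n) := by
      refine LinearMap.mem_ker.2 (Prod.ext (show D.d (n + 1) z = 0 from z.2) ?_)
      show φ.fF (n + 1) z - dF E a n (Submodule.Quotient.mk y) = 0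
      rw [dF_mk, hy, Submodule.Quotient.mk_sub, (Submodule.Quotient.mk_eq_zero _).2 hγ, sub_zero]
      exact sub_self _
    cases n with
    | zero =>
      rw [φ.exact_cone.2.1] at hker
      obtain ⟨w, hw⟩ := hker
      exact ⟨w, congrArg Prod.fst hw⟩
    | succ n =>
      rw [φ.exact_cone.2.2 n] at hker
      obtain ⟨w, hw⟩ := hker
      exact ⟨w.1, congrArg Prod.fst hw⟩
  · rintro ⟨w, hw⟩
    refine ⟨_, φ.comm n w, ?_⟩
    rw [map_sub, show E.d (n + 1) (E.d n (φ.f n w)) = 0 from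
      LinearMap.mem_ker.1 ((E.exact_succ n).ge ⟨_, rfl⟩), sub_zero, hw]

theorem psi_surjective (n : ℕ) : Function.Surjective (φ.psi n) := by
  intro x
  obtain ⟨⟨v, hvΓ, hvd⟩, rfl⟩ := Submodule.Quotient.mk_surjective _ x
  obtain ⟨y, rfl⟩ : v ∈ LinearMap.range (E.d n) := E.exact_succ n ▸ hvd
  have hker : ((0 : (D.C (n + 1)).carrier), (Submodule.Quotient.mk y : F E a n)) ∈
      LinearMap.ker (φ.dK n) := by
    refine LinearMap.mem_ker.2 (Prod.ext (map_zero (D.d (n + 1))) ?_)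
    show φ.fF (n + 1) 0 - dF E a n (Submodule.Quotient.mk y) = 0
    rw [map_zero, zero_sub, neg_eq_zero, dF_mk]
    exact (Submodule.Quotient.mk_eq_zero _).2 hvΓ
  obtain ⟨w, hw, e, he, hwe⟩ : ∃ w : (D.C n).carrier, D.d n w = 0 ∧
      ∃ e : (E.X n).carrier, E.d n e ∈ E.cobdy a (n + 1) ∧
        φ.f n w - y - e ∈ gam a.toIdeal (E.X n).carrier := by
    cases n with
    | zero =>
      rw [φ.exact_cone.2.1] at hker
      obtain ⟨w, hw⟩ := hker
      refine ⟨w, congrArg Prod.fst hw, 0, ?_, ?_⟩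
      · rw [map_zero]; exact zero_mem _
      · rw [sub_zero]; exact (Submodule.Quotient.eq _).1 (congrArg Prod.snd hw :)
    | succ n =>
      rw [φ.exact_cone.2.2 n] at hker
      obtain ⟨⟨w, e⟩, hw⟩ := hker
      obtain ⟨e, rfl⟩ := Submodule.Quotient.mk_surjective _ e
      refine ⟨w, congrArg Prod.fst hw, E.d n e, ?_, ?_⟩
      · rw [show E.d (n + 1) (E.d n e) = 0 from
          LinearMap.mem_ker.1 ((E.exact_succ n).ge ⟨_, rfl⟩)]
        exact zero_mem _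
      · have h2 : φ.fF (n + 1) w - dF E a n (Submodule.Quotient.mk e) = Submodule.Quotient.mk y :=
          congrArg Prod.snd hw
        rw [dF_mk] at h2
        change Submodule.Quotient.mk (φ.f (n + 1) w) - Submodule.Quotient.mk (E.d n e) =
          Submodule.Quotient.mk y at h2
        rw [← Submodule.Quotient.mk_sub, Submodule.Quotient.eq] at h2
        rwa [sub_right_comm]
  refine ⟨⟨w, hw⟩, (Submodule.Quotient.eq _).2 ?_⟩
  show E.d n (φ.f n w) - E.d n y ∈ E.cobdy a (n + 1)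
  rw [show E.d n (φ.f n w) - E.d n y = E.d n (φ.f n w - y - e) + E.d n e by
    rw [map_sub, map_sub]; abel]
  exact add_mem ⟨_, hwe, rfl⟩ he

theorem psi_mem_Hgr (n : ℕ) {g : ι} {z : LinearMap.ker (D.d n)}
    (hz : (z : (D.C n).carrier) ∈ (D.C n).gr g) : φ.psi n z ∈ E.Hgr a (n + 1) g :=
  ⟨_, E.d_grHom n g _ (φ.grHom n g _ hz), rfl⟩

theorem exists_psi_of_mem_Hgr (n : ℕ) {g : ι} {x : E.H a (n + 1)}
    (hx : x ∈ E.Hgr a (n + 1) g) :
    ∃ z : LinearMap.ker (D.d n), (z : (D.C n).carrier) ∈ (D.C n).gr g ∧ φ.psi n z = x := by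
  obtain ⟨v, hv, rfl⟩ := hx
  obtain ⟨⟨w, hw⟩, hwv⟩ := φ.psi_surjective n (E.toH a (n + 1) v)
  obtain ⟨γ, hγ, hd⟩ : ∃ γ ∈ gam a.toIdeal (E.X n).carrier,
      E.d n γ = E.d n (φ.f n w) - (v : (E.X (n + 1)).carrier) :=
    (Submodule.Quotient.eq _).1 hwv
  have hw' : D.d n (GrothGr.pr (D.C n).gr g w) = 0 := by
    rw [GrothGr.map_pr _ _ (D.d_grHom n), show D.d n w = 0 from hw, map_zero]
  refine ⟨⟨_, hw'⟩, GrothGr.pr_mem _ _ _, (Submodule.Quotient.eq _).2 ?_⟩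
  refine ⟨GrothGr.pr (E.X n).gr g γ, gam_isHomogeneous 𝒜 a (E.X n).gr g hγ, ?_⟩
  show E.d n (GrothGr.pr (E.X n).gr g γ) =
    E.d n (φ.f n (GrothGr.pr (D.C n).gr g w)) - (v : (E.X (n + 1)).carrier)
  rw [GrothGr.map_pr _ _ (φ.grHom n), GrothGr.map_pr _ _ (E.d_grHom n), hd, map_sub,
    ← GrothGr.map_pr _ _ (E.d_grHom n), GrothGr.pr_of_mem _ hv]

end CompMap

end Groth.Misc15.SegLC
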