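import Mathlib
import Groth.Agent.Misc15.SegLC.Compare

/-!
A resolution up to torsion by products of localisations at elements generating the ideal up to
radical.
-/

set_option autoImplicit false

universe u

open DirectSum GrLC

namespace Groth.Misc15.SegLC

variable {ι : Type} [AddCommGroup ι] [DecidableEq ι]
variable {R : Type u} [CommRing R] {σ : Type u} [SetLike σ R] [AddSubgroupClass σ R]
  {𝒜 : ι → σ} [GradedRing 𝒜]

section Loc

variable (x : R) {e : ι} (hx : x ∈ 𝒜 e) (W : GMod.{u} 𝒜)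

/-- The localisation at the powers of an element. -/
abbrev Lc : Type u := LocalizedModule (Submonoid.powers x) W.carrier

/-- The map to the localisation. -/
noncomputable abbrev toLc : W.carrier →ₗ[R] Lc x W :=
  LocalizedModule.mkLinearMap (Submonoid.powers x) W.carrier

theorem smul_lc_bijective : Function.Bijective fun z : Lc x W => x • z := by
  have h := IsLocalizedModule.map_units (toLc x W) (⟨x, Submonoid.mem_powers x⟩ : Submonoid.powers x)
  rw [Module.End.isUnit_iff] at h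
  exact h

theorem smul_pow_lc_injective (n : ℕ) : Function.Injective fun z : Lc x W => x ^ n • z := by
  induction n with
  | zero => intro a b h; simpa using h
  | succ n ih =>
    intro a b h
    refine ih ((smul_lc_bijective x W).1 ?_)
    simpa [smul_smul, ← pow_succ'] using h

theorem exists_smul_eq_toLc (z : Lc x W) : ∃ (n : ℕ) (m : W.carrier), x ^ n • z = toLc x W m := by
  obtain ⟨⟨m, s⟩, hs⟩ := IsLocalizedModule.surj (Submonoid.powers x) (toLc x W) z
  obtain ⟨n, hn⟩ := Submonoid.mem_powers_iff _ _ |>.1 s.2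
  refine ⟨n, m, ?_⟩
  rw [hn]
  exact hs

theorem toLc_eq_zero_iff (m : W.carrier) : toLc x W m = 0 ↔ ∃ n : ℕ, x ^ n • m = 0 := by
  rw [IsLocalizedModule.eq_zero_iff (Submonoid.powers x) (toLc x W)]
  constructor
  · rintro ⟨⟨_, n, rfl⟩, h⟩; exact ⟨n, h⟩
  · rintro ⟨n, h⟩; exact ⟨⟨_, n, rfl⟩, h⟩

include hx in
theorem pow_smul_mem (n : ℕ) {g : ι} {m : W.carrier} (hm : m ∈ W.gr g) :
    x ^ n • m ∈ W.gr (n • e + g) :=
  GrothGr.smul_mem W.gr 𝒜 (SetLike.pow_mem_graded n hx) hm

/-- The pieces of the localisation. -/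
def lcPc (g : ι) : AddSubgroup (Lc x W) where
  carrier := {z | ∃ (n : ℕ) (m : W.carrier), m ∈ W.gr (n • e + g) ∧ x ^ n • z = toLc x W m}
  zero_mem' := ⟨0, 0, zero_mem _, by simp⟩
  neg_mem' := by
    rintro z ⟨n, m, hm, hz⟩
    exact ⟨n, -m, neg_mem hm, by rw [smul_neg, hz, map_neg]⟩
  add_mem' := by
    rintro z z' ⟨n, m, hm, hz⟩ ⟨n', m', hm', hz'⟩
    refine ⟨n' + n, x ^ n' • m + x ^ n • m', add_mem ?_ ?_, ?_⟩
    · rw [add_nsmul, add_assoc]; exact pow_smul_mem x hx W n' hm
    · rw [add_comm n', add_nsmul, add_assoc]; exact pow_smul_mem x hx W n hm'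
    · rw [map_add, map_smul, map_smul, ← hz, ← hz', smul_add, smul_smul, smul_smul, ← pow_add,
        ← pow_add, add_comm n']

theorem toLc_mem {g : ι} {m : W.carrier} (hm : m ∈ W.gr g) : toLc x W m ∈ lcPc x hx W g :=
  ⟨0, m, by rwa [zero_nsmul, zero_add], by rw [pow_zero, one_smul]⟩

open Classical in
theorem lcPc_isInternal : DirectSum.IsInternal (lcPc x hx W) := by
  refine GrothGr.isInternal_of _ (fun z => ?_) fun s v hv hsum j hj => ?_
  · obtain ⟨n, m, hm⟩ := exists_smul_eq_toLc x W z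
    obtain ⟨s, -, hs⟩ := GrothGr.exists_sum_pr W.gr m
    let w : ι → Lc x W := fun g => IsLocalizedModule.mk' (toLc x W) (GrothGr.pr W.gr g m)
      (⟨x ^ n, n, rfl⟩ : Submonoid.powers x)
    have hw : ∀ g, x ^ n • w g = toLc x W (GrothGr.pr W.gr g m) := fun g =>
      IsLocalizedModule.mk'_cancel' (toLc x W) _ (⟨x ^ n, n, rfl⟩ : Submonoid.powers x)
    have hz : z = ∑ g ∈ s, w g := by
      refine smul_pow_lc_injective x W n ?_
      show x ^ n • z = x ^ n • ∑ g ∈ s, w g
      rw [hm, Finset.smul_sum, Finset.sum_congr rfl fun g _ => hw g, ← map_sum, hs]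
    rw [hz]
    refine sum_mem fun g _ => AddSubgroup.mem_iSup_of_mem (g - n • e) ?_
    exact ⟨n, _, by rw [add_sub_cancel]; exact GrothGr.pr_mem _ _ _, hw g⟩
  · choose! n m hm hz using hv
    let N := ∑ i ∈ s, n i
    have h1 : toLc x W (∑ i ∈ s, x ^ (N - n i) • m i) = 0 := by
      rw [map_sum]
      refine Eq.trans (Finset.sum_congr rfl fun i hi => ?_)
        ((Finset.smul_sum (r := x ^ N)).symm.trans (by rw [hsum, smul_zero]))
      rw [map_smul, ← hz i, smul_smul, ← pow_add,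
        Nat.sub_add_cancel (Finset.single_le_sum (fun _ _ => Nat.zero_le _) hi)]
    obtain ⟨l, hl⟩ := (toLc_eq_zero_iff x W _).1 h1
    have hmem : ∀ i ∈ s, x ^ l • x ^ (N - n i) • m i ∈ W.gr (l • e + (N • e + i)) := by
      intro i hi
      refine pow_smul_mem x hx W l ?_
      have := pow_smul_mem x hx W (N - n i) (hm i)
      rwa [← add_assoc, ← add_nsmul,
        Nat.sub_add_cancel (Finset.single_le_sum (fun _ _ => Nat.zero_le _) hi)] at this
    have h2 : x ^ l • x ^ (N - n j) • m j = 0 := by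
      rw [Finset.smul_sum] at hl
      have := congrArg (GrothGr.pr W.gr (l • e + (N • e + j))) hl
      rwa [map_sum, map_zero, Finset.sum_eq_single j (fun i hi hne =>
          GrothGr.pr_of_mem_ne _ (hmem i hi) fun h => hne (add_left_cancel (add_left_cancel h)))
        (fun h => absurd hj h), GrothGr.pr_of_mem _ (hmem j hj)] at this
    refine smul_pow_lc_injective x W (l + (N - n j) + n j) ?_
    show x ^ (l + (N - n j) + n j) • v j = x ^ (l + (N - n j) + n j) • (0 : Lc x W)
    rw [smul_zero, pow_add, pow_add, mul_smul, mul_smul, hz j, ← map_smul, ← map_smul, h2, map_zero]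

theorem lcPc_gradedSMul : SetLike.GradedSMul 𝒜 (lcPc x hx W) := by
  refine ⟨fun {a g r z} hr hz => ?_⟩
  obtain ⟨n, m, hm, hzm⟩ := hz
  refine ⟨n, r • m, ?_, by rw [map_smul, ← hzm, smul_comm]⟩
  rw [vadd_eq_add, add_left_comm]
  exact GrothGr.smul_mem W.gr 𝒜 hr hm

/-- The localisation as a graded module. -/
noncomputable def lcMod : GMod.{u} 𝒜 :=
  letI := (lcPc_isInternal x hx W).chooseDecomposition
  haveI := lcPc_gradedSMul x hx W
  GMod.of 𝒜 (Lc x W) (lcPc x hx W)

end Loc

section Pi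

variable {c : Type} [Fintype c] [DecidableEq c] (X : c → GMod.{u} 𝒜)

/-- The pieces of a finite product. -/
def piPc (g : ι) : AddSubgroup (∀ i, (X i).carrier) :=
  AddSubgroup.pi Set.univ fun i => (X i).gr g

theorem mem_piPc {g : ι} {v : ∀ i, (X i).carrier} : v ∈ piPc X g ↔ ∀ i, v i ∈ (X i).gr g :=
  ⟨fun h i => h i (Set.mem_univ i), fun h i _ => h i⟩

open Classical in
theorem piPc_isInternal : DirectSum.IsInternal (piPc X) := by
  refine GrothGr.isInternal_of _ (fun v => ?_) fun s v hv hsum j hj => ?_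
  · rw [← Finset.univ_sum_single v]
    refine sum_mem fun i _ => ?_
    obtain ⟨s, -, hs⟩ := GrothGr.exists_sum_pr (X i).gr (v i)
    conv => arg 2; rw [← hs]
    rw [show (Pi.single i (∑ g ∈ s, GrothGr.pr (X i).gr g (v i)) : ∀ i, (X i).carrier) =
        ∑ g ∈ s, Pi.single i (GrothGr.pr (X i).gr g (v i)) from
      map_sum (AddMonoidHom.single (fun i => (X i).carrier) i) _ _]
    refine sum_mem fun g _ => AddSubgroup.mem_iSup_of_mem g ((mem_piPc X).2 fun i' => ?_)
    rcases eq_or_ne i' i with rfl | h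
    · rw [Pi.single_eq_same]; exact GrothGr.pr_mem _ _ _
    · rw [Pi.single_eq_of_ne h]; exact zero_mem _
  · funext i
    have h1 : ∀ g, v g i ∈ (X i).gr g := fun g => (mem_piPc X).1 (hv g) i
    have := congrArg (GrothGr.pr (X i).gr j) (congrFun hsum i)
    rwa [Finset.sum_apply, map_sum, Finset.sum_eq_single j
      (fun g _ hne => GrothGr.pr_of_mem_ne _ (h1 g) hne) (fun h => absurd hj h),
      GrothGr.pr_of_mem _ (h1 j), Pi.zero_apply, map_zero] at this

theorem piPc_gradedSMul : SetLike.GradedSMul 𝒜 (piPc X) :=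
  ⟨fun {a g r v} hr hv => (mem_piPc X).2 fun i =>
    SetLike.GradedSMul.smul_mem (A := 𝒜) (B := (X i).gr) hr ((mem_piPc X).1 hv i)⟩

/-- A finite product of graded modules. -/
noncomputable def piMod : GMod.{u} 𝒜 :=
  letI := (piPc_isInternal X).chooseDecomposition
  haveI := piPc_gradedSMul X
  GMod.of 𝒜 (∀ i, (X i).carrier) (piPc X)

end Pi

section Res

variable {c : ℕ} (x : Fin c → R) {e : ι} (hx : ∀ i, x i ∈ 𝒜 e)

/-- The product of the localisations. -/
noncomputable def step (W : GMod.{u} 𝒜) : GMod.{u} 𝒜 :=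
  piMod fun i : Fin c => lcMod (x i) (hx i) W

/-- The map to the product of the localisations. -/
noncomputable def toStep (W : GMod.{u} 𝒜) : W.carrier →ₗ[R] (step x hx W).carrier :=
  LinearMap.pi fun i => toLc (x i) W

theorem toStep_grHom (W : GMod.{u} 𝒜) : IsGrHom W.gr (step x hx W).gr (toStep x hx W) :=
  fun _ _ hm => (mem_piPc _).2 fun i => toLc_mem (x i) (hx i) W hm

/-- The cokernel of the map to the product of localisations. -/
noncomputable def next (W : GMod.{u} 𝒜) : GMod.{u} 𝒜 :=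
  GrothGr.quot 𝒜 (step x hx W).gr (GrothGr.isHomogeneous_range (toStep_grHom x hx W))

/-- The successive cokernels. -/
noncomputable def Wn (W : GMod.{u} 𝒜) : ℕ → GMod.{u} 𝒜
  | 0 => W
  | n + 1 => next x hx (Wn W n)

/-- The projection to the next cokernel. -/
noncomputable def toNext (W : GMod.{u} 𝒜) (n : ℕ) :
    (step x hx (Wn x hx W n)).carrier →ₗ[R] (Wn x hx W (n + 1)).carrier :=
  (LinearMap.range (toStep x hx (Wn x hx W n))).mkQ

theorem ta_step {J : Ideal R} (hxJ : ∀ i, x i ∈ J) (W : GMod.{u} 𝒜) :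
    TA J (step x hx W).carrier :=
  TA.pi (fun i => Lc (x i) W) _ (LinearEquiv.refl R _) fun i =>
    TA.of_bijective (Ideal.le_radical (hxJ i)) (smul_lc_bijective (x i) W)

theorem mem_gam_iff_forall [IsNoetherianRing R] {J : Ideal R}
    (hxJ : ∀ i, x i ∈ J) (hJ : J ≤ (Ideal.span (Set.range x)).radical) {V : Type u}
    [AddCommGroup V] [Module R V] (v : V) :
    v ∈ gam J V ↔ ∀ i, ∃ n : ℕ, x i ^ n • v = 0 := by
  constructor
  · rintro ⟨N, hN⟩ i
    exact ⟨N, hN _ (Ideal.pow_mem_pow (hxJ i) N)⟩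
  · intro h
    choose n hn using h
    let A : Ideal R := LinearMap.ker (LinearMap.toSpanSingleton R V v)
    have hA : Ideal.span (Set.range x) ≤ A.radical := by
      rw [Ideal.span_le]
      rintro _ ⟨i, rfl⟩
      exact ⟨n i, hn i⟩
    obtain ⟨N, hN⟩ := Ideal.exists_pow_le_of_le_radical_of_fg
      (hJ.trans ((Ideal.radical_mono hA).trans_eq (Ideal.radical_idem A))) (IsNoetherian.noetherian J)
    exact ⟨N, fun r hr => hN hr⟩

theorem toStep_eq_zero_iff [IsNoetherianRing R] {J : Ideal R} (hxJ : ∀ i, x i ∈ J)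
    (hJ : J ≤ (Ideal.span (Set.range x)).radical) (W : GMod.{u} 𝒜) (m : W.carrier) :
    toStep x hx W m = 0 ↔ m ∈ gam J W.carrier := by
  rw [mem_gam_iff_forall x hxJ hJ]
  exact ⟨fun h i => (toLc_eq_zero_iff (x i) W m).1 (congrFun h i),
    fun h => funext fun i => (toLc_eq_zero_iff (x i) W m).2 (h i)⟩

variable {M : Type u} [AddCommGroup M] [Module R M] {τ : Type u} [SetLike τ M]
  [AddSubgroupClass τ M] {ℳ : ι → τ} [Decomposition ℳ] [SetLike.GradedSMul 𝒜 ℳ]

/-- The resolution up to torsion by products of localisations. -/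
noncomputable def locRes [IsNoetherianRing R] (a : HomogeneousIdeal 𝒜) (hxa : ∀ i, x i ∈ a.toIdeal)
    (ha : a.toIdeal ≤ (Ideal.span (Set.range x)).radical) : TorRes a ℳ where
  C n := step x hx (Wn x hx (GMod.of 𝒜 M (clsM ℳ)) n)
  d n := toStep x hx _ ∘ₗ toNext x hx _ n
  aug := toStep x hx (GMod.of 𝒜 M (clsM ℳ))
  d_grHom n := by
    intro g v hv
    exact toStep_grHom x hx _ g _ (GrothGr.mkQ_isGrHom _ _ g v hv)
  aug_grHom := toStep_grHom x hx (GMod.of 𝒜 M (clsM ℳ))
  d_aug m := by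
    show toStep x hx _ (toNext x hx (GMod.of 𝒜 M (clsM ℳ)) 0 (toStep x hx (GMod.of 𝒜 M (clsM ℳ)) m)) = 0
    refine (congrArg _ ?_).trans (map_zero _)
    exact (Submodule.Quotient.mk_eq_zero _).2 ⟨m, rfl⟩
  d_d n v := by
    show toStep x hx _ (toNext x hx _ (n + 1) (toStep x hx _ (toNext x hx _ n v))) = 0
    refine (congrArg _ ?_).trans (map_zero _)
    exact (Submodule.Quotient.mk_eq_zero _).2 ⟨_, rfl⟩
  ta n := ta_step x hx hxa _
  tor_aug m hm := (toStep_eq_zero_iff x hx hxa ha (GMod.of 𝒜 M (clsM ℳ)) m).1 hm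
  tor_zero z hz := by
    obtain ⟨N, hN⟩ := (toStep_eq_zero_iff x hx hxa ha _ _).1 hz
    refine ⟨N, fun r hr => ?_⟩
    exact (Submodule.Quotient.mk_eq_zero _).1 (hN r hr)
  tor_succ n z hz := by
    obtain ⟨N, hN⟩ := (toStep_eq_zero_iff x hx hxa ha _ _).1 hz
    refine ⟨N, fun r hr => ?_⟩
    obtain ⟨w, hw⟩ : r • z ∈ LinearMap.range
        (toStep x hx (Wn x hx (GMod.of 𝒜 M (clsM ℳ)) (n + 1))) :=
      (Submodule.Quotient.mk_eq_zero _).1 (hN r hr)
    obtain ⟨v, hv⟩ := Submodule.mkQ_surjective _ w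
    exact ⟨v, (congrArg _ hv).trans hw⟩

end Res

end Groth.Misc15.SegLC
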