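import Mathlib
import Groth.Agent.GrMod.HullDual
import Groth.Agent.GrMod.Transfer
import Groth.Agent.GrMod.Veronese.Canonical
import Groth.Agent.GrDualH.Duality
import Groth.Agent.Misc15.GrCurve
import Groth.Agent.Misc15.GrRegSeq

/-!
Canonical modules over positively graded algebras as graded duals of top local cohomology.
-/

set_option autoImplicit false

universe u

open DirectSum GrLC

namespace Groth.Misc15.CanDual

variable {k : Type u} [Field k] {R : Type u} [CommRing R] [Algebra k R] [Nontrivial R]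
  {𝒜 : ℤ → Submodule k R} [GradedAlgebra 𝒜]
  (hpos : ∀ n : ℤ, n < 0 → 𝒜 n = ⊥) (h0 : 𝒜 0 = Submodule.span k {(1 : R)})
  {m : HomogeneousIdeal 𝒜}
  (hm : m.toIdeal = Ideal.span (⋃ n ∈ Set.Ioi (0 : ℤ), (𝒜 n : Set R)))
  {E' : Type u} [AddCommGroup E'] [Module R E'] [Module k E'] [IsScalarTower k R E']
  {𝓔 : ℤ → AddSubgroup E'} [DirectSum.Decomposition 𝓔] [SetLike.GradedSMul 𝒜 𝓔]
  {e : (R ⧸ m.toIdeal) →ₗ[R] E'} (he : IsStarInjHull 𝒜 (quotGr 𝒜 m) 𝓔 e)

include hpos in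
theorem pos_agr : ∀ n : ℤ, n < 0 → GrothGr.agr 𝒜 n = ⊥ := fun n hn =>
  (AddSubgroup.eq_bot_iff_forall _).2 fun x hx => (Submodule.eq_bot_iff _).1 (hpos n hn) x hx

include hm in
theorem span_agr : (GrothGr.hagr 𝒜 m).toIdeal =
    Ideal.span (⋃ n ∈ Set.Ioi (0 : ℤ), (GrothGr.agr 𝒜 n : Set R)) := hm

include hpos h0 hm in
theorem ne_top : (GrothGr.hagr 𝒜 m).toIdeal ≠ ⊤ := by
  rw [GrothGr.hagr_toIdeal, GrRegSeq.toIdeal_eq_irr 𝒜 hpos hm]
  exact (GrCurve.irr_isMaximal 𝒜 hpos h0).ne_top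

omit [GradedAlgebra 𝒜] [Nontrivial R] in
include h0 in
theorem exists_algebraMap {x : R} (hx : x ∈ 𝒜 0) : ∃ c : k, algebraMap k R c = x := by
  obtain ⟨c, rfl⟩ := Submodule.mem_span_singleton.1 (h0 ▸ hx)
  exact ⟨c, Algebra.algebraMap_eq_smul_one c⟩

include h0 in
theorem isField_agr : IsField (GrLC.deg0 (GrothGr.agr 𝒜)) := by
  refine ⟨⟨0, 1, fun h => zero_ne_one (congrArg Subtype.val h)⟩, mul_comm, fun {a} ha => ?_⟩
  obtain ⟨c, hc⟩ := exists_algebraMap h0 (show (a : R) ∈ 𝒜 0 from a.2)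
  have hc0 : c ≠ 0 := fun h => ha (Subtype.ext (by rw [← hc, h, map_zero]; rfl))
  refine ⟨⟨algebraMap k R c⁻¹, SetLike.algebraMap_mem_graded 𝒜 c⁻¹⟩, Subtype.ext ?_⟩
  show (a : R) * algebraMap k R c⁻¹ = 1
  rw [← hc, ← map_mul, mul_inv_cancel₀ hc0, map_one]

include hpos h0 hm he in
/-- The socle degree of the envelope is a line. -/
theorem exists_socle_coord :
    ∃ lam : E' →ₗ[k] k, (∀ i, i ≠ 0 → ∀ w ∈ 𝓔 i, lam w = 0) ∧
      (∀ w ∈ 𝓔 0, lam w • e 1 = w) ∧ lam (e 1) = 1 := by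
  have hb := GrothGr.socleMap_bijective (pos_agr hpos) (span_agr hm) (ne_top hpos h0 hm)
    (isField_agr h0) (GrothGr.isStarInjHull_agr 𝒜 he)
  have he1 : e 1 ∈ 𝓔 0 := he.grHom 0 1 ⟨1, SetLike.one_mem_graded 𝒜, rfl⟩
  have hne : e 1 ≠ 0 := fun h => ne_top hpos h0 hm ((Ideal.eq_top_iff_one _).2
    (Ideal.Quotient.eq_zero_iff_mem.1 ((map_one _).trans (he.injective (h.trans (map_zero e).symm)))))
  let g : k →ₗ[k] Groth.GrDualH.piece 𝒜 𝓔 0 := LinearMap.toSpanSingleton k _ ⟨e 1, he1⟩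
  have hg : Function.Bijective g := by
    refine ⟨(injective_iff_map_eq_zero g).2 fun c hc => ?_, fun w => ?_⟩
    · by_contra hc0
      have h1 : c • e 1 = 0 := congrArg Subtype.val hc
      exact hne ((smul_eq_zero.1 h1).resolve_left hc0)
    · obtain ⟨r, hr⟩ := hb.2 ⟨(w : E'), w.2⟩
      obtain ⟨c, hc⟩ := exists_algebraMap h0 (show (r : R) ∈ 𝒜 0 from r.2)
      refine ⟨c, Subtype.ext ?_⟩
      show c • e 1 = (w : E')
      rw [← algebraMap_smul R c, hc]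
      exact congrArg Subtype.val hr
  let eq := LinearEquiv.ofBijective g hg
  let p : E' →ₗ[k] Groth.GrDualH.piece 𝒜 𝓔 0 :=
    (Groth.GrDualH.projₗ 𝒜 𝓔 0).codRestrict _ fun w => Groth.GrDualH.proj_mem (ℳ := 𝓔) 0 w
  have hp : ∀ w ∈ 𝓔 0, ((p w : Groth.GrDualH.piece 𝒜 𝓔 0) : E') = w := fun w hw =>
    Groth.GrDualH.proj_of_mem hw
  have hspec : ∀ w ∈ 𝓔 0, (eq.symm (p w)) • e 1 = w := fun w hw =>
    (congrArg Subtype.val (eq.apply_symm_apply (p w))).trans (hp w hw)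
  refine ⟨eq.symm.toLinearMap ∘ₗ p, fun i hi w hw => ?_, hspec, ?_⟩
  · show eq.symm (p w) = 0
    rw [show p w = 0 from Subtype.ext (Groth.GrDualH.proj_of_mem_ne hw hi), map_zero]
  · have h1 : (eq.symm (p (e 1)) - 1) • e 1 = 0 := by
      rw [sub_smul, hspec _ he1, one_smul, sub_self]
    exact sub_eq_zero.1 ((smul_eq_zero.1 h1).resolve_right hne)

variable {C : Type u} [AddCommGroup C] [Module R C] [Module k C] [IsScalarTower k R C]
  {𝒞 : ℤ → AddSubgroup C} [DirectSum.Decomposition 𝒞] [SetLike.GradedSMul 𝒜 𝒞]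

include hpos h0 hm he in
/-- A functional on a piece is evaluation of a homogeneous map into the envelope. -/
theorem exists_hom_of_functional {lam : E' →ₗ[k] k} (hlam : lam (e 1) = 1) (d i : ℤ) (h : i + d = 0)
    (μ : C →ₗ[k] k) : ∃ f ∈ homDeg 𝒜 𝒞 𝓔 d, ∀ c ∈ 𝒞 i, lam (f c) = μ c := by
  have he1 : e 1 ∈ 𝓔 0 := he.grHom 0 1 ⟨1, SetLike.one_mem_graded 𝒜, rfl⟩
  let μ' : GrLC.comp (GrothGr.agr 𝒜) 𝒞 i →ₗ[GrLC.deg0 (GrothGr.agr 𝒜)]
      GrLC.comp (GrothGr.agr 𝒜) 𝓔 0 :=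
    { toFun := fun c => ⟨μ (c : C) • e 1, Groth.GrDualH.ksmul_mem (𝒜 := 𝒜) (ℳ := 𝓔) _ he1⟩
      map_add' := fun a b => Subtype.ext (by
        show μ ((a : C) + b) • e 1 = μ (a : C) • e 1 + μ (b : C) • e 1
        rw [map_add, add_smul])
      map_smul' := fun r a => Subtype.ext (by
        obtain ⟨c, hc⟩ := exists_algebraMap h0 (show (r : R) ∈ 𝒜 0 from r.2)
        show μ ((r : R) • (a : C)) • e 1 = (r : R) • μ (a : C) • e 1
        rw [← hc, algebraMap_smul, algebraMap_smul, map_smul, smul_eq_mul, mul_smul]) }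
  obtain ⟨f, hf, hfc⟩ := GrothGr.exists_extend_piece (pos_agr hpos) (span_agr hm)
    (GrothGr.isStarInjHull_agr 𝒜 he) 𝒞 i d h μ'
  refine ⟨f, hf, fun c hc => ?_⟩
  rw [show f c = μ c • e 1 from hfc ⟨c, hc⟩, map_smul, hlam, smul_eq_mul, mul_one]

include hpos hm he in
theorem eq_zero_of_coord {lam : E' →ₗ[k] k} (hlam : ∀ w ∈ 𝓔 0, lam w • e 1 = w)
    (hlam' : ∀ i, i ≠ 0 → ∀ w ∈ 𝓔 i, lam w = 0) {f : C →ₗ[R] E'}
    (h : ∀ c, lam (f c) = 0) : f = 0 := by
  refine LinearMap.ext fun c => Groth.GrDualH.eq_zero_of_proj (ℳ := 𝓔) fun j => ?_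
  by_contra hne
  obtain ⟨r, hr, hr0⟩ := GrothGr.exists_smul_hull_ne_zero (pos_agr hpos) (span_agr hm)
    (GrothGr.isStarInjHull_agr 𝒜 he) (Groth.GrDualH.proj_mem (ℳ := 𝓔) j (f c)) hne
  refine hr0 ?_
  have hr' : r ∈ 𝒜 (-j) := hr
  have hmem : r • Groth.GrDualH.proj 𝓔 j (f c) ∈ 𝓔 0 := by
    have := Groth.GrDualH.smul_mem (ℳ := 𝓔) hr' (Groth.GrDualH.proj_mem (ℳ := 𝓔) j (f c))
    rwa [neg_add_cancel] at this
  have hpr : ∀ w, lam w = lam (Groth.GrDualH.proj 𝓔 0 w) := fun w => by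
    induction w using DirectSum.Decomposition.inductionOn 𝓔 with
    | zero => simp
    | add a b ha hb => simp only [map_add, ha, hb]
    | @homogeneous i w =>
      by_cases hi : i = 0
      · subst hi; rw [Groth.GrDualH.proj_of_mem w.2]
      · rw [Groth.GrDualH.proj_of_mem_ne w.2 hi, map_zero, hlam' i hi w w.2]
  have h1 : lam (r • Groth.GrDualH.proj 𝓔 j (f c)) = 0 := by
    have h2 := Groth.GrDualH.proj_smul (𝒜 := 𝒜) (ℳ := 𝓔) hr' 0 (f c)
    rw [sub_neg_eq_add, zero_add] at h2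
    rw [← h2, ← hpr, ← map_smul, h]
  rw [← hlam _ hmem, h1, zero_smul]

variable [Module.Finite R C] [IsNoetherianRing R]
  {H : Type u} [AddCommGroup H] [Module R H] [Module k H] [IsScalarTower k R H]
  {ℋ : ℤ → AddSubgroup H} [DirectSum.Decomposition ℋ] [SetLike.GradedSMul 𝒜 ℋ]
  {n : ℕ} {I : StarInjRes 𝒜 𝒜} (eH : I.H m n ≃ₗ[R] H)
  (hH : ∀ g x, x ∈ I.Hgr m n g ↔ eH x ∈ ℋ g)

include hpos h0 hm he hH in
/-- A canonical module is the graded dual of top local cohomology. -/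
theorem exists_gdual (hC : IsStarCanonical 𝒜 𝒞 𝓔 m n I) :
    ∃ β : C →ₗ[k] H →ₗ[k] k, GrSeg.IsGDual R ℋ 𝒞 β := by
  obtain ⟨lam, hlam', hlam, hlam1⟩ := exists_socle_coord hpos h0 hm he
  obtain ⟨_, φ, hφ⟩ := hC
  have hφ' : IsGrHom (fun d => (homDeg (GrothGr.agr 𝒜) 𝒞 𝓔 d).toAddSubgroup)
      ((GrothGr.resAgr 𝒜 I (GrothGr.agr 𝒜) fun _ _ h => h).Hgr (GrothGr.hagr 𝒜 m) n)
      φ.toLinearMap := fun d f hf => by
    obtain ⟨z, hz, hzf⟩ := hφ d f hf
    exact ⟨z, hz, hzf⟩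
  let ev : H → (C →ₗ[R] E') := fun ξ => φ.symm (eH.symm ξ)
  have hev : ∀ {d : ℤ} {ξ : H}, ξ ∈ ℋ d → ev ξ ∈ homDeg 𝒜 𝒞 𝓔 d := fun {d ξ} hξ => by
    have h1 : eH.symm ξ ∈ (GrothGr.resAgr 𝒜 I (GrothGr.agr 𝒜) fun _ _ h => h).Hgr
        (GrothGr.hagr 𝒜 m) n d := by
      have h2 : eH.symm ξ ∈ I.Hgr m n d := (hH d _).2 (by rwa [eH.apply_symm_apply])
      obtain ⟨z, hz, hzf⟩ := h2
      exact ⟨z, hz, hzf⟩
    obtain ⟨f, hf, hfe⟩ := (GrothGr.map_homDeg_eq hφ' d).ge h1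
    show φ.symm (eH.symm ξ) ∈ homDeg 𝒜 𝒞 𝓔 d
    rw [show φ.symm (eH.symm ξ) = f from φ.symm_apply_eq.2 hfe.symm]
    exact hf
  let β : C →ₗ[k] H →ₗ[k] k := LinearMap.mk₂ k (fun c ξ => lam (ev ξ c))
    (fun a b ξ => by rw [map_add, map_add])
    (fun c a ξ => by rw [← algebraMap_smul R c a, map_smul, algebraMap_smul, map_smul])
    (fun a ξ η => by
      show lam (φ.symm (eH.symm (ξ + η)) a) = _
      rw [map_add, map_add, LinearMap.add_apply, map_add])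
    (fun c a ξ => by
      show lam (φ.symm (eH.symm (c • ξ)) a) = _
      rw [← algebraMap_smul R c ξ, map_smul, map_smul, LinearMap.smul_apply, algebraMap_smul,
        map_smul])
  have hfin : ∀ d, FiniteDimensional k (Groth.GrDualH.piece 𝒜 𝒞 d) := fun d =>
    haveI : IsNoetherian R C := isNoetherian_of_isNoetherianRing_of_finite R C
    Groth.GrDualH.finiteDimensional_piece (M := C) (ℳ := 𝒞) h0 (Or.inl inferInstance) d
  have hsep : ∀ d, ∀ ξ ∈ ℋ d, (∀ c ∈ 𝒞 (-d), β c ξ = 0) → ξ = 0 := fun d ξ hξ h => by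
    have h1 : ev ξ = 0 := eq_zero_of_coord hpos hm he hlam hlam' fun c => by
      induction c using DirectSum.Decomposition.inductionOn 𝒞 with
      | zero => simp
      | add a b ha hb => rw [map_add, map_add, ha, hb, add_zero]
      | @homogeneous i c =>
        by_cases hi : i + d = 0
        · exact h c (by rw [show -d = i by omega]; exact c.2)
        · exact hlam' _ hi _ (hev hξ i c c.2)
    exact eH.symm.injective ((φ.symm.injective (h1.trans (map_zero _).symm)).trans (map_zero _).symm)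
  have hzero : ∀ (g : ℤ) (c : C), c ∈ 𝒞 g → (∀ ξ ∈ ℋ (-g), β c ξ = 0) → c = 0 := by
    intro g c hc h
    by_contra hne
    obtain ⟨μ, -, hμ⟩ := Groth.GrDualH.exists_functional (𝒜 := 𝒜) (k := k) hc hne
    obtain ⟨f, hf, hfμ⟩ := exists_hom_of_functional hpos h0 hm he (𝒞 := 𝒞) hlam1 (-g) g (add_neg_cancel g) μ
    have := h (eH (φ f)) ((hH _ _).1 (hφ (-g) f hf))
    change lam (φ.symm (eH.symm (eH (φ f))) c) = 0 at this
    rw [eH.symm_apply_apply, φ.symm_apply_apply, hfμ c hc, hμ] at this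
    exact one_ne_zero this
  refine ⟨β, ⟨fun r c ξ => ?_, fun g c hc i hi ξ hξ => ?_, hzero, fun g μ => ?_⟩⟩
  · show lam (φ.symm (eH.symm ξ) (r • c)) = lam (φ.symm (eH.symm (r • ξ)) c)
    rw [LinearMap.map_smul, map_smul eH.symm, map_smul φ.symm, LinearMap.smul_apply]
  · exact hlam' _ (by omega) _ (hev hξ g c hc)
  · haveI := hfin g
    let U := Groth.GrDualH.piece 𝒜 𝒞 g
    let V := Groth.GrDualH.piece 𝒜 ℋ (-g)
    let b : U →ₗ[k] Module.Dual k V := (LinearMap.lcomp k k V.subtype) ∘ₗ β ∘ₗ U.subtype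
    let b' : V →ₗ[k] Module.Dual k U := (LinearMap.lcomp k k U.subtype) ∘ₗ β.flip ∘ₗ V.subtype
    have hbi : Function.Injective b := (injective_iff_map_eq_zero b).2 fun c hc =>
      Subtype.ext (hzero g c c.2 fun ξ hξ => LinearMap.congr_fun hc ⟨ξ, hξ⟩)
    have hb'i : Function.Injective b' := (injective_iff_map_eq_zero b').2 fun ξ hξ =>
      Subtype.ext (hsep (-g) ξ ξ.2 fun c hc =>
        LinearMap.congr_fun hξ ⟨c, by rw [neg_neg] at hc; exact hc⟩)
    haveI : FiniteDimensional k V := FiniteDimensional.of_injective b' hb'i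
    have hle1 := LinearMap.finrank_le_finrank_of_injective hbi
    have hle2 := LinearMap.finrank_le_finrank_of_injective hb'i
    rw [Subspace.dual_finrank_eq] at hle1 hle2
    obtain ⟨c, hc⟩ := (LinearMap.injective_iff_surjective_of_finrank_eq_finrank
      (by rw [Subspace.dual_finrank_eq]; omega)).1 hbi (μ ∘ₗ V.subtype)
    exact ⟨c, c.2, fun ξ hξ => LinearMap.congr_fun hc ⟨ξ, hξ⟩⟩

include hpos h0 hm he hH in
/-- A graded dual of top local cohomology is a canonical module. -/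
theorem isStarCanonical_of_gdual {β : C →ₗ[k] H →ₗ[k] k} (hβ : GrSeg.IsGDual R ℋ 𝒞 β)
    (hfd : ∀ d, FiniteDimensional k (Groth.GrDualH.piece 𝒜 ℋ d)) :
    IsStarCanonical 𝒜 𝒞 𝓔 m n I := by
  classical
  obtain ⟨lam, hlam', hlam, hlam1⟩ := exists_socle_coord hpos h0 hm he
  let Φ : (C →ₗ[R] E') → (C →ₗ[k] k) := fun f => lam ∘ₗ f.restrictScalars k
  have hflip := Groth.GrDualH.flip_injective (𝒜 := 𝒜) hβ
  have hfl := Groth.GrDualH.isGDual_flip (𝒜 := 𝒜) hβ hfd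
  have hdeg : ∀ {d : ℤ} {f : C →ₗ[R] E'}, f ∈ homDeg 𝒜 𝒞 𝓔 d →
      ∃ ξ ∈ ℋ d, β.flip ξ = Φ f := fun {d f} hf =>
    Groth.GrDualH.exists_repr hfl d (Φ f) fun i hi c hc => hlam' _ (by omega) _ (hf i c hc)
  have hex : ∀ f : C →ₗ[R] E', ∃ ξ, β.flip ξ = Φ f := by
    intro f
    obtain ⟨D, hD⟩ := GrothGr.exists_sum_degPart (GrothGr.agr 𝒜) 𝒞 𝓔 f
    have hd : ∀ d, GrothGr.degPart (GrothGr.agr 𝒜) 𝒞 𝓔 f d ∈ homDeg 𝒜 𝒞 𝓔 d :=
      fun d i c hc => GrothGr.degPart_isGrHom (GrothGr.agr 𝒜) 𝒞 𝓔 f d (i + d) c (by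
        show c ∈ 𝒞 (i + d - d)
        rwa [add_sub_cancel_right])
    choose ξ _ hξ using fun d => hdeg (hd d)
    refine ⟨∑ d ∈ D, ξ d, ?_⟩
    rw [map_sum, Finset.sum_congr rfl fun d _ => hξ d]
    ext c
    rw [LinearMap.sum_apply]
    show ∑ d ∈ D, lam (GrothGr.degPart (GrothGr.agr 𝒜) 𝒞 𝓔 f d c) = lam (f c)
    conv_rhs => rw [← hD]
    rw [LinearMap.sum_apply, map_sum]
  choose ξ hξ using hex
  have huniq : ∀ f η, β.flip η = Φ f → ξ f = η := fun f η h => hflip ((hξ f).trans h.symm)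
  let T : (C →ₗ[R] E') →ₗ[R] H :=
    { toFun := ξ
      map_add' := fun f g => huniq _ _ (LinearMap.ext fun c => by
        rw [map_add, LinearMap.add_apply, hξ, hξ]
        exact (map_add lam _ _).symm)
      map_smul' := fun r f => huniq _ _ (LinearMap.ext fun c => by
        rw [RingHom.id_apply, LinearMap.flip_apply, ← hβ.map_smul, ← LinearMap.flip_apply, hξ]
        exact congrArg lam (map_smul f r c)) }
  have hTi : Function.Injective T := (injective_iff_map_eq_zero T).2 fun f hf =>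
    eq_zero_of_coord hpos hm he hlam hlam' fun c => by
      have := LinearMap.congr_fun (hξ f) c
      rw [show ξ f = 0 from hf, map_zero, LinearMap.zero_apply] at this
      exact this.symm
  have hTs : Function.Surjective T := fun η => by
    induction η using DirectSum.Decomposition.inductionOn ℋ with
    | zero => exact ⟨0, map_zero T⟩
    | add a b ha hb =>
      obtain ⟨f, rfl⟩ := ha
      obtain ⟨g, rfl⟩ := hb
      exact ⟨f + g, map_add T f g⟩
    | @homogeneous d η =>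
      obtain ⟨f, hf, hfμ⟩ := exists_hom_of_functional hpos h0 hm he (𝒞 := 𝒞) hlam1 d (-d) (neg_add_cancel d)
        (β.flip (η : H))
      refine ⟨f, huniq f η (LinearMap.ext fun c => ?_)⟩
      induction c using DirectSum.Decomposition.inductionOn 𝒞 with
      | zero => simp
      | add a b ha hb => rw [map_add, ha, hb]; exact (map_add (Φ f) a b).symm
      | @homogeneous i c =>
        by_cases hi : i = -d
        · exact (hfμ c (hi ▸ c.2)).symm
        · exact (hβ.vanish i c c.2 d (by omega) η η.2).trans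
            (hlam' _ (by omega) _ (hf i c c.2)).symm
  refine ⟨inferInstance, (LinearEquiv.ofBijective T ⟨hTi, hTs⟩).trans eH.symm, fun d f hf => ?_⟩
  obtain ⟨η, hη, hηf⟩ := hdeg hf
  refine (hH d _).2 ?_
  rw [LinearEquiv.coe_coe, LinearEquiv.trans_apply, eH.apply_symm_apply]
  show ξ f ∈ ℋ d
  rw [huniq f η hηf]
  exact hη

end Groth.Misc15.CanDual
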