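import Mathlib
import Groth.Agent.Misc15.Segre
import Groth.Agent.Misc15.SegLC.TotAcyc
import Groth.Agent.GrMod.Basic
import Groth.Prelude.Def_GrLC

/-!
Segre products of bundled graded modules as graded modules over the Segre ring.
-/

set_option autoImplicit false

universe u

open scoped TensorProduct
open DirectSum GrLC

namespace Groth.Misc15.SegLC

variable {k : Type u} [Field k]
variable {R : Type u} [CommRing R] [Algebra k R] {𝒜 : ℤ → Submodule k R} [GradedAlgebra 𝒜]

/-- The vector space structure on a bundled graded module over an algebra. -/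
scoped instance gmodK (X : GMod.{u} 𝒜) : Module k X.carrier :=
  Module.compHom X.carrier (algebraMap k R)

scoped instance gmodTower (X : GMod.{u} 𝒜) : IsScalarTower k R X.carrier :=
  IsScalarTower.of_algebraMap_smul fun _ _ => rfl

variable {S : Type u} [CommRing S] [Algebra k S] {ℬ : ℤ → Submodule k S} [GradedAlgebra ℬ]

section General

variable (X : GMod.{u} 𝒜) (Y : GMod.{u} ℬ)

/-- The degree diagonal of a tensor product. -/
noncomputable def dgSub : Submodule k (X.carrier ⊗[k] Y.carrier) :=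
  LinearMap.ker (Segre.diag 𝒜 ℬ X.gr Y.gr - LinearMap.id)

variable {X Y}

theorem mem_dgSub {z : X.carrier ⊗[k] Y.carrier} :
    z ∈ dgSub X Y ↔ Segre.diag 𝒜 ℬ X.gr Y.gr z = z := by
  rw [dgSub, LinearMap.mem_ker, LinearMap.sub_apply, LinearMap.id_apply, sub_eq_zero]

theorem tmul_mem_dgSub {g : ℤ} {m : X.carrier} {n : Y.carrier} (hm : m ∈ X.gr g) (hn : n ∈ Y.gr g) :
    m ⊗ₜ[k] n ∈ dgSub X Y := by
  rw [mem_dgSub, Segre.diag_tmul 𝒜 ℬ _ _ hm hn, if_pos rfl]

theorem segrePiece_le_dgSub (g : ℤ) : GrSeg.segrePiece k X.gr Y.gr g ≤ dgSub X Y :=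
  Submodule.span_le.2 (by rintro _ ⟨m, hm, n, hn, rfl⟩; exact tmul_mem_dgSub hm hn)

theorem diag_mem_dgSub (z : X.carrier ⊗[k] Y.carrier) :
    Segre.diag 𝒜 ℬ X.gr Y.gr z ∈ dgSub X Y := by
  induction z using Segre.induction_homogeneous X.gr Y.gr with
  | h0 => rw [map_zero]; exact zero_mem _
  | hadd a b ha hb => rw [map_add]; exact add_mem ha hb
  | h g h m hm n hn =>
    rw [Segre.diag_tmul 𝒜 ℬ _ _ hm hn]
    split
    · next he => subst he; exact tmul_mem_dgSub hm hn
    · exact zero_mem _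

theorem diag_diag (z : X.carrier ⊗[k] Y.carrier) :
    Segre.diag 𝒜 ℬ X.gr Y.gr (Segre.diag 𝒜 ℬ X.gr Y.gr z) = Segre.diag 𝒜 ℬ X.gr Y.gr z :=
  mem_dgSub.1 (diag_mem_dgSub z)

variable (X Y)

/-- The projection onto a piece of a Segre product. -/
noncomputable def prS (g : ℤ) : X.carrier ⊗[k] Y.carrier →ₗ[k] X.carrier ⊗[k] Y.carrier :=
  TensorProduct.map (Groth.GrDualH.projₗ 𝒜 X.gr g) (Groth.GrDualH.projₗ ℬ Y.gr g)

variable {X Y}

theorem prS_mem (g : ℤ) (z : X.carrier ⊗[k] Y.carrier) :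
    prS X Y g z ∈ GrSeg.segrePiece k X.gr Y.gr g := by
  induction z using TensorProduct.induction_on with
  | zero => rw [map_zero]; exact zero_mem _
  | add a b ha hb => rw [map_add]; exact add_mem ha hb
  | tmul m n =>
    exact Submodule.subset_span
      ⟨_, Groth.GrDualH.proj_mem (ℳ := X.gr) g m, _, Groth.GrDualH.proj_mem (ℳ := Y.gr) g n, rfl⟩

theorem prS_of_mem {g : ℤ} {z : X.carrier ⊗[k] Y.carrier}
    (hz : z ∈ GrSeg.segrePiece k X.gr Y.gr g) : prS X Y g z = z := by
  induction hz using Submodule.span_induction with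
  | zero => rw [map_zero]
  | add a b _ _ ha hb => rw [map_add, ha, hb]
  | smul c a _ ha => rw [map_smul, ha]
  | mem w hw =>
    obtain ⟨m, hm, n, hn, rfl⟩ := hw
    simp [prS, Groth.GrDualH.projₗ, Groth.GrDualH.proj_of_mem hm, Groth.GrDualH.proj_of_mem hn]

theorem prS_of_mem_ne {g h : ℤ} (hne : g ≠ h) {z : X.carrier ⊗[k] Y.carrier}
    (hz : z ∈ GrSeg.segrePiece k X.gr Y.gr g) : prS X Y h z = 0 := by
  induction hz using Submodule.span_induction with
  | zero => rw [map_zero]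
  | add a b _ _ ha hb => rw [map_add, ha, hb, add_zero]
  | smul c a _ ha => rw [map_smul, ha, smul_zero]
  | mem w hw =>
    obtain ⟨m, hm, n, hn, rfl⟩ := hw
    simp [prS, Groth.GrDualH.projₗ, Groth.GrDualH.proj_of_mem_ne hm hne]

/-- The tensor product of two maps of bundled modules. -/
noncomputable def tmap {X' : GMod.{u} 𝒜} {Y' : GMod.{u} ℬ} (f : X.carrier →ₗ[R] X'.carrier)
    (g : Y.carrier →ₗ[S] Y'.carrier) :
    X.carrier ⊗[k] Y.carrier →ₗ[k] X'.carrier ⊗[k] Y'.carrier :=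
  TensorProduct.map (f.restrictScalars k) (g.restrictScalars k)

@[simp] theorem tmap_tmul {X' : GMod.{u} 𝒜} {Y' : GMod.{u} ℬ} (f : X.carrier →ₗ[R] X'.carrier)
    (g : Y.carrier →ₗ[S] Y'.carrier) (m : X.carrier) (n : Y.carrier) :
    tmap f g (m ⊗ₜ[k] n) = f m ⊗ₜ[k] g n := rfl

variable {X' : GMod.{u} 𝒜} {Y' : GMod.{u} ℬ} {f : X.carrier →ₗ[R] X'.carrier}
  {g : Y.carrier →ₗ[S] Y'.carrier}

theorem tmap_diag (hf : IsGrHom X.gr X'.gr f) (hg : IsGrHom Y.gr Y'.gr g)
    (z : X.carrier ⊗[k] Y.carrier) :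
    tmap f g (Segre.diag 𝒜 ℬ X.gr Y.gr z) = Segre.diag 𝒜 ℬ X'.gr Y'.gr (tmap f g z) := by
  induction z using Segre.induction_homogeneous X.gr Y.gr with
  | h0 => simp
  | hadd a b ha hb => simp [ha, hb]
  | h i j m hm n hn =>
    rw [Segre.diag_tmul 𝒜 ℬ _ _ hm hn, tmap_tmul,
      Segre.diag_tmul 𝒜 ℬ _ _ (hf i m hm) (hg j n hn)]
    split <;> simp

theorem tmap_mem_piece (hf : IsGrHom X.gr X'.gr f) (hg : IsGrHom Y.gr Y'.gr g) {i : ℤ}
    {z : X.carrier ⊗[k] Y.carrier} (hz : z ∈ GrSeg.segrePiece k X.gr Y.gr i) :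
    tmap f g z ∈ GrSeg.segrePiece k X'.gr Y'.gr i := by
  induction hz using Submodule.span_induction with
  | zero => rw [map_zero]; exact zero_mem _
  | add a b _ _ ha hb => rw [map_add]; exact add_mem ha hb
  | smul c a _ ha => rw [map_smul]; exact Submodule.smul_mem _ c ha
  | mem w hw =>
    obtain ⟨m, hm, n, hn, rfl⟩ := hw
    exact Submodule.subset_span ⟨_, hf i m hm, _, hg i n hn, tmap_tmul f g m n⟩

theorem tmap_act (y : R ⊗[k] S) (z : X.carrier ⊗[k] Y.carrier) :
    tmap f g (GrSeg.act k R S X.carrier Y.carrier y z) =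
      GrSeg.act k R S X'.carrier Y'.carrier y (tmap f g z) := by
  induction y using TensorProduct.induction_on with
  | zero => simp
  | add a b ha hb => simp [ha, hb]
  | tmul r s =>
    induction z using TensorProduct.induction_on with
    | zero => simp
    | add a b ha hb => simp [ha, hb]
    | tmul m n => simp [GrSeg.act_tmul]

end General

section Ring

variable {T : Type u} [CommRing T] [Algebra k T] {𝒯 : ℤ → Submodule k T} [GradedAlgebra 𝒯]
  {ψ : T →ₐ[k] R ⊗[k] S} (hT : GrSeg.IsSegreRing 𝒜 ℬ 𝒯 ψ)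

include hT in
theorem image_piece (n : ℤ) :
    ψ '' (𝒯 n : Set T) = (GrSeg.segrePiece k 𝒜 ℬ n : Set (R ⊗[k] S)) := by
  rw [← hT.2 n, Submodule.map_coe]
  rfl

include hT in
theorem diag_psi (t : T) : Segre.diag 𝒜 ℬ 𝒜 ℬ (ψ t) = ψ t :=
  Segre.diag_image 𝒜 ℬ 𝒜 ℬ (φ := ψ.toLinearMap) (image_piece hT) t

include hT in
theorem psi_mem {a : ℤ} {t : T} (ht : t ∈ 𝒯 a) : ψ t ∈ GrSeg.segrePiece k 𝒜 ℬ a :=
  hT.2 a ▸ Submodule.mem_map_of_mem ht

include hT in
theorem exists_psi {a : ℤ} {r : R} {s : S} (hr : r ∈ 𝒜 a) (hs : s ∈ ℬ a) :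
    ∃ t ∈ 𝒯 a, ψ t = r ⊗ₜ[k] s := by
  have : r ⊗ₜ[k] s ∈ (𝒯 a).map ψ.toLinearMap := by
    rw [hT.2 a]
    exact Submodule.subset_span ⟨r, hr, s, hs, rfl⟩
  exact this

variable {X : GMod.{u} 𝒜} {Y : GMod.{u} ℬ}

include hT in
theorem act_mem_dgSub (t : T) {z : X.carrier ⊗[k] Y.carrier} (hz : z ∈ dgSub X Y) :
    GrSeg.act k R S X.carrier Y.carrier (ψ t) z ∈ dgSub X Y := by
  rw [mem_dgSub] at hz ⊢
  conv_rhs => rw [← hz, ← diag_psi hT t]
  conv_lhs => rw [← diag_psi hT t, (Segre.diag_act_diag 𝒜 ℬ X.gr Y.gr (ψ t) z).2]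

include hT in
theorem act_mem_piece {a g : ℤ} {t : T} (ht : t ∈ 𝒯 a) {z : X.carrier ⊗[k] Y.carrier}
    (hz : z ∈ GrSeg.segrePiece k X.gr Y.gr g) :
    GrSeg.act k R S X.carrier Y.carrier (ψ t) z ∈ GrSeg.segrePiece k X.gr Y.gr (a + g) := by
  have h := psi_mem hT ht
  generalize ψ t = y at h
  induction h using Submodule.span_induction with
  | zero => simp
  | add p q _ _ hp hq => rw [map_add, LinearMap.add_apply]; exact add_mem hp hq
  | smul c p _ hp => rw [map_smul, LinearMap.smul_apply]; exact Submodule.smul_mem _ c hp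
  | mem w hw =>
    obtain ⟨r, hr, s, hs, rfl⟩ := hw
    induction hz using Submodule.span_induction with
    | zero => simp
    | add p q _ _ hp hq => rw [map_add]; exact add_mem hp hq
    | smul c p _ hp => rw [map_smul]; exact Submodule.smul_mem _ c hp
    | mem v hv =>
      obtain ⟨m, hm, n, hn, rfl⟩ := hv
      rw [GrSeg.act_tmul]
      exact Submodule.subset_span ⟨_, Groth.GrDualH.smul_mem (ℳ := X.gr) hr hm,
        _, Groth.GrDualH.smul_mem (ℳ := Y.gr) hs hn, rfl⟩

/-- The Segre product of two bundled modules. -/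
noncomputable def Dg (_hT : GrSeg.IsSegreRing 𝒜 ℬ 𝒯 ψ) (X : GMod.{u} 𝒜) (Y : GMod.{u} ℬ) : Type u :=
  ↥(dgSub X Y)

namespace Dg

noncomputable instance : AddCommGroup (Dg hT X Y) := inferInstanceAs (AddCommGroup ↥(dgSub X Y))

noncomputable instance : Module k (Dg hT X Y) := inferInstanceAs (Module k ↥(dgSub X Y))

/-- The element of the tensor product. -/
noncomputable def val : Dg hT X Y →ₗ[k] X.carrier ⊗[k] Y.carrier := (dgSub X Y).subtype

theorem val_injective : Function.Injective (val hT (X := X) (Y := Y)) := Subtype.val_injective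

theorem val_mem (z : Dg hT X Y) : val hT z ∈ dgSub X Y := z.2

/-- An element of the Segre product from an element of the tensor product. -/
noncomputable def mk (z : X.carrier ⊗[k] Y.carrier) (hz : z ∈ dgSub X Y) : Dg hT X Y := ⟨z, hz⟩

@[simp] theorem val_mk (z : X.carrier ⊗[k] Y.carrier) (hz : z ∈ dgSub X Y) :
    val hT (mk hT z hz) = z := rfl

noncomputable instance : SMul T (Dg hT X Y) :=
  ⟨fun t z => mk hT (GrSeg.act k R S X.carrier Y.carrier (ψ t) (val hT z))
    (act_mem_dgSub hT t z.2)⟩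

theorem val_smul (t : T) (z : Dg hT X Y) :
    val hT (t • z) = GrSeg.act k R S X.carrier Y.carrier (ψ t) (val hT z) := rfl

noncomputable instance : Module T (Dg hT X Y) where
  one_smul z := val_injective hT (by rw [val_smul, map_one, Segre.act_one]; rfl)
  mul_smul a b z := val_injective hT (by rw [val_smul, map_mul, Segre.act_mul]; rfl)
  smul_zero a := val_injective hT (by rw [val_smul, map_zero, map_zero])
  smul_add a x y := val_injective hT (by simp only [val_smul, map_add])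
  add_smul a b x := val_injective hT (by simp only [val_smul, map_add, LinearMap.add_apply])
  zero_smul x := val_injective hT (by simp [val_smul])

instance : IsScalarTower k T (Dg hT X Y) :=
  ⟨fun c t z => val_injective hT (by
    rw [val_smul, map_smul, map_smul, map_smul, LinearMap.smul_apply, val_smul])⟩

/-- The pieces. -/
noncomputable def pc (g : ℤ) : AddSubgroup (Dg hT X Y) :=
  ((GrSeg.segrePiece k X.gr Y.gr g).comap (val hT (X := X) (Y := Y))).toAddSubgroup

theorem mem_pc {g : ℤ} {z : Dg hT X Y} :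
    z ∈ pc hT g ↔ val hT z ∈ GrSeg.segrePiece k X.gr Y.gr g := Iff.rfl

open Classical in
theorem pc_isInternal : DirectSum.IsInternal (pc hT (X := X) (Y := Y)) := by
  refine GrothGr.isInternal_of _ (fun z => ?_) fun s v hv hsum j hj => ?_
  · suffices H : ∀ w : X.carrier ⊗[k] Y.carrier,
        mk hT (Segre.diag 𝒜 ℬ X.gr Y.gr w) (diag_mem_dgSub w) ∈ ⨆ g, pc hT g by
      have := H (val hT z)
      rwa [show mk hT _ (diag_mem_dgSub (val hT z)) = z from
        val_injective hT (mem_dgSub.1 z.2)] at this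
    intro w
    induction w using Segre.induction_homogeneous X.gr Y.gr with
    | h0 =>
      rw [show mk hT _ _ = (0 : Dg hT X Y) from val_injective hT (by simp)]
      exact zero_mem _
    | hadd a b ha hb =>
      rw [show mk hT _ _ = mk hT _ (diag_mem_dgSub a) + mk hT _ (diag_mem_dgSub b) from
        val_injective hT (by simp)]
      exact add_mem ha hb
    | h i j m hm n hn =>
      refine AddSubgroup.mem_iSup_of_mem i ((mem_pc hT).2 ?_)
      rw [val_mk, Segre.diag_tmul 𝒜 ℬ _ _ hm hn]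
      split
      · next he => subst he; exact Submodule.subset_span ⟨m, hm, n, hn, rfl⟩
      · exact zero_mem _
  · have h1 := congrArg (fun z => prS X Y j (val hT z)) hsum
    simp only [map_sum, map_zero] at h1
    rw [Finset.sum_eq_single j (fun i hi hne => prS_of_mem_ne hne ((mem_pc hT).1 (hv i)))
      (fun h => absurd hj h), prS_of_mem ((mem_pc hT).1 (hv j))] at h1
    exact val_injective hT (h1.trans (map_zero _).symm)

theorem pc_gradedSMul : SetLike.GradedSMul 𝒯 (pc hT (X := X) (Y := Y)) :=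
  ⟨fun {a g t z} ht hz => by
    rw [mem_pc, val_smul, vadd_eq_add]
    exact act_mem_piece hT ht hz⟩

end Dg

/-- The Segre product as a bundled module. -/
noncomputable def dgMod (X : GMod.{u} 𝒜) (Y : GMod.{u} ℬ) : GMod.{u} 𝒯 :=
  letI := (Dg.pc_isInternal hT (X := X) (Y := Y)).chooseDecomposition
  haveI := Dg.pc_gradedSMul hT (X := X) (Y := Y)
  GMod.of 𝒯 (Dg hT X Y) (Dg.pc hT)

variable {X' : GMod.{u} 𝒜} {Y' : GMod.{u} ℬ}

theorem Dg.tmap_mem {f : X.carrier →ₗ[R] X'.carrier} {g : Y.carrier →ₗ[S] Y'.carrier}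
    (hf : IsGrHom X.gr X'.gr f) (hg : IsGrHom Y.gr Y'.gr g) {z : X.carrier ⊗[k] Y.carrier}
    (hz : z ∈ dgSub X Y) : tmap f g z ∈ dgSub X' Y' := by
  rw [mem_dgSub] at hz ⊢
  rw [← tmap_diag hf hg, hz]

/-- Functoriality. -/
noncomputable def Dg.map (f : X.carrier →ₗ[R] X'.carrier) (g : Y.carrier →ₗ[S] Y'.carrier)
    (hf : IsGrHom X.gr X'.gr f) (hg : IsGrHom Y.gr Y'.gr g) : Dg hT X Y →ₗ[T] Dg hT X' Y' where
  toFun z := Dg.mk hT (tmap f g (Dg.val hT z)) (Dg.tmap_mem hf hg z.2)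
  map_add' a b := Dg.val_injective hT (by simp)
  map_smul' t a := Dg.val_injective hT (by simp [Dg.val_smul, tmap_act])

theorem Dg.val_map (f : X.carrier →ₗ[R] X'.carrier) (g : Y.carrier →ₗ[S] Y'.carrier)
    (hf : IsGrHom X.gr X'.gr f) (hg : IsGrHom Y.gr Y'.gr g) (z : Dg hT X Y) :
    Dg.val hT (Dg.map hT f g hf hg z) = tmap f g (Dg.val hT z) := rfl

/-- A decomposition into summands on which elements of degree `D` act bijectively. -/
def IsBij {ι' : Type} [AddCommGroup ι'] [DecidableEq ι'] {U : Type u} [CommRing U] {σ : Type u}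
    [SetLike σ U] [AddSubgroupClass σ U] {𝒰 : ι' → σ} [GradedRing 𝒰] (D : ι') (X : GMod.{u} 𝒰) :
    Prop :=
  ∃ (c : Type) (_ : Fintype c) (Z : c → GMod.{u} 𝒰) (x : c → U)
    (f : ∀ i, X.carrier →ₗ[U] (Z i).carrier) (g : ∀ i, (Z i).carrier →ₗ[U] X.carrier),
    (∀ i, IsGrHom X.gr (Z i).gr (f i)) ∧ (∀ i, IsGrHom (Z i).gr X.gr (g i)) ∧
      (∀ v, ∑ i, g i (f i v) = v) ∧ (∀ i, x i ∈ 𝒰 D) ∧
        ∀ i, Function.Bijective fun v : (Z i).carrier => x i • v

include hT in
theorem Dg.smul_bijective {r : R} {s : S}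
    (hrX : Function.Bijective fun v : X.carrier => r • v)
    (hsY : Function.Bijective fun v : Y.carrier => s • v) {t : T} (ht : ψ t = r ⊗ₜ[k] s) :
    Function.Bijective fun z : Dg hT X Y => t • z := by
  have hb : Function.Bijective (GrSeg.act k R S X.carrier Y.carrier (r ⊗ₜ[k] s)) := by
    have he : GrSeg.act k R S X.carrier Y.carrier (r ⊗ₜ[k] s) =
        TensorProduct.map (Algebra.lsmul k k X.carrier r) (Algebra.lsmul k k Y.carrier s) :=
      TensorProduct.ext' fun m n => by rw [GrSeg.act_tmul, TensorProduct.map_tmul]; rfl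
    rw [he]
    exact (TensorProduct.congr (LinearEquiv.ofBijective (Algebra.lsmul k k X.carrier r) hrX)
      (LinearEquiv.ofBijective (Algebra.lsmul k k Y.carrier s) hsY)).bijective
  refine ⟨fun a b h => Dg.val_injective hT (hb.1 ?_), fun z => ?_⟩
  · have := congrArg (Dg.val hT) h
    simpa [Dg.val_smul, ht] using this
  · obtain ⟨w, hw⟩ := hb.2 (Dg.val hT z)
    refine ⟨Dg.mk hT _ (diag_mem_dgSub w), Dg.val_injective hT ?_⟩
    show Dg.val hT (t • Dg.mk hT _ (diag_mem_dgSub w)) = Dg.val hT z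
    rw [Dg.val_smul, Dg.val_mk, ← diag_psi hT t,
      ← (Segre.diag_act_diag 𝒜 ℬ X.gr Y.gr (ψ t) w).2, diag_psi hT t, ht, hw]
    exact mem_dgSub.1 z.2

/-- Segre products of modules with bijective elements are totally acyclic. -/
theorem ta_dgMod {J : Ideal T} {D : ℤ} (hJ : ∀ t ∈ 𝒯 D, t ∈ J.radical) (hX : IsBij D X)
    (hY : IsBij D Y) : TA J (dgMod hT X Y).carrier := by
  obtain ⟨c, _, Z, x, f, g, hf, hg, hfg, hx, hxb⟩ := hX
  obtain ⟨c', _, Z', x', f', g', hf', hg', hfg', hx', hxb'⟩ := hY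
  refine TA.of_sum (ι := c × c') (fun p => Dg hT (Z p.1) (Z' p.2)) (fun p => ?_)
    (fun p => Dg.map hT (f p.1) (f' p.2) (hf _) (hf' _))
    (fun p => Dg.map hT (g p.1) (g' p.2) (hg _) (hg' _)) fun z => Dg.val_injective hT ?_
  · obtain ⟨t, ht, hψt⟩ := exists_psi hT (hx p.1) (hx' p.2)
    exact TA.of_bijective (hJ t ht) (Dg.smul_bijective hT (hxb _) (hxb' _) hψt)
  · change Dg.val hT (∑ p : c × c', Dg.map hT (g p.1) (g' p.2) _ _
      (Dg.map hT (f p.1) (f' p.2) _ _ z)) = Dg.val hT z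
    rw [map_sum]
    simp only [Dg.val_map]
    generalize Dg.val hT z = w
    induction w using TensorProduct.induction_on with
    | zero => simp
    | add a b ha hb => simp only [map_add, Finset.sum_add_distrib, ha, hb]
    | tmul m n =>
      rw [Fintype.sum_prod_type]
      simp only [tmap_tmul, ← TensorProduct.tmul_sum, ← TensorProduct.sum_tmul, hfg, hfg']

end Ring

end Groth.Misc15.SegLC
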