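import Mathlib

/-!
The Künneth formula for complexes of vector spaces.
-/

set_option autoImplicit false

universe u

open scoped TensorProduct

namespace Groth.Misc15.SegLC.Kun

variable {k : Type u} [Field k]

section Split

variable {A : ℕ → Type u} [∀ n, AddCommGroup (A n)] [∀ n, Module k (A n)]
  (d : ∀ n, A n →ₗ[k] A (n + 1))

/-- The coboundaries. -/
def bd : ∀ n, Submodule k (A n)
  | 0 => ⊥
  | n + 1 => LinearMap.range (d n)

/-- The cohomology. -/
abbrev H (n : ℕ) : Type u := LinearMap.ker (d n) ⧸ (bd d n).comap (LinearMap.ker (d n)).subtype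

theorem exists_gen_inverse (n : ℕ) : ∃ h : A (n + 1) →ₗ[k] A n, d n ∘ₗ h ∘ₗ d n = d n := by
  obtain ⟨s, hs⟩ := (d n).rangeRestrict.exists_rightInverse_of_surjective (d n).range_rangeRestrict
  obtain ⟨s', hs'⟩ := s.exists_extend
  refine ⟨s', LinearMap.ext fun x => ?_⟩
  have h1 : s' (d n x) = s ((d n).rangeRestrict x) := LinearMap.congr_fun hs' ((d n).rangeRestrict x)
  rw [LinearMap.comp_apply, LinearMap.comp_apply, h1]
  exact congrArg Subtype.val (LinearMap.congr_fun hs ((d n).rangeRestrict x))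

/-- A chosen generalised inverse of the differential. -/
noncomputable def hinv (n : ℕ) : A (n + 1) →ₗ[k] A n := (exists_gen_inverse d n).choose

theorem d_hinv_d (n : ℕ) (x : A n) : d n (hinv d n (d n x)) = d n x :=
  LinearMap.congr_fun (exists_gen_inverse d n).choose_spec x

/-- The projection onto a space of representatives of cohomology. -/
noncomputable def P : ∀ n, A n →ₗ[k] A n
  | 0 => LinearMap.id - hinv d 0 ∘ₗ d 0
  | n + 1 => LinearMap.id - d n ∘ₗ hinv d n - hinv d (n + 1) ∘ₗ d (n + 1)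

variable (hdd : ∀ n x, d (n + 1) (d n x) = 0)

include hdd in
theorem d_P : ∀ (n : ℕ) (x : A n), d n (P d n x) = 0
  | 0, x => by simp [P, d_hinv_d]
  | n + 1, x => by simp [P, d_hinv_d, hdd]

include hdd in
theorem P_d : ∀ (n : ℕ) (x : A n), P d (n + 1) (d n x) = 0 := fun n x => by
  simp [P, d_hinv_d, hdd]

include hdd in
theorem P_bd : ∀ (n : ℕ) (x : A n), x ∈ bd d n → P d n x = 0
  | 0, x, hx => by rw [(Submodule.mem_bot k).1 hx, map_zero]
  | n + 1, x, hx => by obtain ⟨y, rfl⟩ := hx; exact P_d d hdd n y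

theorem P_sub_mem : ∀ (n : ℕ) (x : A n), d n x = 0 → P d n x - x ∈ bd d n
  | 0, x, hx => by simp [P, hx]
  | n + 1, x, hx => ⟨-hinv d n x, by simp [P, hx]⟩

omit hdd in
theorem id_sub_P_zero : LinearMap.id - P d 0 = hinv d 0 ∘ₗ d 0 := sub_sub_cancel _ _

omit hdd in
theorem id_sub_P_succ (n : ℕ) :
    LinearMap.id - P d (n + 1) = d n ∘ₗ hinv d n + hinv d (n + 1) ∘ₗ d (n + 1) := by
  simp only [P]
  abel

/-- The cohomology class of the projection. -/
noncomputable def cls (n : ℕ) : A n →ₗ[k] H d n :=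
  ((bd d n).comap (LinearMap.ker (d n)).subtype).mkQ ∘ₗ
    (P d n).codRestrict (LinearMap.ker (d n)) fun x => LinearMap.mem_ker.2 (d_P d hdd n x)

/-- The representative of a cohomology class. -/
noncomputable def rep (n : ℕ) : H d n →ₗ[k] A n :=
  ((bd d n).comap (LinearMap.ker (d n)).subtype).liftQ (P d n ∘ₗ (LinearMap.ker (d n)).subtype)
    fun x hx => P_bd d hdd n x hx

theorem rep_cls (n : ℕ) (x : A n) : rep d hdd n (cls d hdd n x) = P d n (P d n x) := rfl

theorem cls_coe (n : ℕ) (z : LinearMap.ker (d n)) :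
    cls d hdd n z = Submodule.Quotient.mk z :=
  (Submodule.Quotient.eq _).2 (P_sub_mem d n z z.2)

theorem cls_d (n : ℕ) (x : A n) : cls d hdd (n + 1) (d n x) = 0 :=
  (congrArg (Submodule.Quotient.mk) (Subtype.ext (P_d d hdd n x :) :
    (⟨P d (n + 1) (d n x), _⟩ : LinearMap.ker (d (n + 1))) = 0)).trans
    (Submodule.Quotient.mk_zero _)

end Split

section Tensor

variable {A : ℕ → Type u} [∀ n, AddCommGroup (A n)] [∀ n, Module k (A n)]
  (dA : ∀ n, A n →ₗ[k] A (n + 1))
variable {B : ℕ → Type u} [∀ n, AddCommGroup (B n)] [∀ n, Module k (B n)]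
  (dB : ∀ n, B n →ₗ[k] B (n + 1))

/-- Pairs with given sum. -/
abbrev Idx (n : ℕ) : Type := {p : ℕ × ℕ // p ∈ Finset.HasAntidiagonal.antidiagonal n}

/-- An index. -/
abbrev Idx.mk' {n : ℕ} (i j : ℕ) (h : i + j = n) : Idx n :=
  ⟨(i, j), Finset.HasAntidiagonal.mem_antidiagonal.2 h⟩

theorem Idx.sum {n : ℕ} (p : Idx n) : p.1.1 + p.1.2 = n := Finset.HasAntidiagonal.mem_antidiagonal.1 p.2

variable (k A B) in
/-- The terms of the tensor product. -/
abbrev K (n : ℕ) : Type u := ∀ p : Idx n, A p.1.1 ⊗[k] B p.1.2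

/-- A component. -/
noncomputable def comp {n : ℕ} (i j : ℕ) (h : i + j = n) : K k A B n →ₗ[k] A i ⊗[k] B j :=
  LinearMap.proj (R := k) (φ := fun p : Idx n => A p.1.1 ⊗[k] B p.1.2) (Idx.mk' i j h)

@[simp] theorem comp_apply {n : ℕ} (i j : ℕ) (h : i + j = n) (z : K k A B n) :
    comp i j h z = z (Idx.mk' i j h) := rfl

/-- The differential in the first factor. -/
noncomputable def DA (n : ℕ) : ∀ i j, i + j = n + 1 → (K k A B n →ₗ[k] A i ⊗[k] B j)
  | 0, _, _ => 0
  | i + 1, j, h => TensorProduct.map (dA i) LinearMap.id ∘ₗ comp i j (by omega)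

/-- The differential in the second factor. -/
noncomputable def DB (n : ℕ) : ∀ i j, i + j = n + 1 → (K k A B n →ₗ[k] A i ⊗[k] B j)
  | _, 0, _ => 0
  | i, j + 1, h => (-1 : k) ^ i • (TensorProduct.map LinearMap.id (dB j) ∘ₗ comp i j (by omega))

/-- The differential of the tensor product. -/
noncomputable def D (n : ℕ) : K k A B n →ₗ[k] K k A B (n + 1) :=
  LinearMap.pi fun p => DA dA n p.1.1 p.1.2 p.sum + DB dB n p.1.1 p.1.2 p.sum

theorem D_apply (n : ℕ) (z : K k A B n) (i j : ℕ) (h : i + j = n + 1) :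
    D dA dB n z (Idx.mk' i j h) = DA dA n i j h z + DB dB n i j h z := rfl

/-- The contracting homotopy. -/
noncomputable def Hom (n : ℕ) : K k A B (n + 1) →ₗ[k] K k A B n :=
  LinearMap.pi fun p =>
    TensorProduct.map (hinv dA p.1.1) LinearMap.id ∘ₗ
        comp (p.1.1 + 1) p.1.2 (by have := p.sum; omega) +
      (-1 : k) ^ p.1.1 • (TensorProduct.map (P dA p.1.1) (hinv dB p.1.2) ∘ₗ
        comp p.1.1 (p.1.2 + 1) (by have := p.sum; omega))

theorem Hom_apply (n : ℕ) (z : K k A B (n + 1)) (i j : ℕ) (h : i + j = n) :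
    Hom dA dB n z (Idx.mk' i j h) =
      TensorProduct.map (hinv dA i) LinearMap.id (z (Idx.mk' (i + 1) j (by omega))) +
      (-1 : k) ^ i • TensorProduct.map (P dA i) (hinv dB j) (z (Idx.mk' i (j + 1) (by omega))) :=
  rfl

variable {dA dB} (hA : ∀ n x, dA (n + 1) (dA n x) = 0) (hB : ∀ n x, dB (n + 1) (dB n x) = 0)

include hA hB in
theorem D_D (n : ℕ) (z : K k A B n) : D dA dB (n + 1) (D dA dB n z) = 0 := by
  have e1 : ∀ i, dA (i + 1) ∘ₗ dA i = 0 := fun i => LinearMap.ext (hA i)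
  have e2 : ∀ j, dB (j + 1) ∘ₗ dB j = 0 := fun j => LinearMap.ext (hB j)
  funext p
  obtain ⟨⟨i, j⟩, hp⟩ := p
  have h : i + j = n + 2 := Finset.HasAntidiagonal.mem_antidiagonal.1 hp
  show D dA dB (n + 1) (D dA dB n z) (Idx.mk' i j h) = 0
  rw [D_apply]
  rcases i with _ | _ | i <;> rcases j with _ | _ | j <;>
    simp [DA, DB, D_apply, TensorProduct.map_map, e1, e2, LinearMap.id_comp, LinearMap.comp_id,
      smul_smul, pow_succ, TensorProduct.map_zero_left, TensorProduct.map_zero_right] <;>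
    omega

include hA hB in
theorem homotopy (n : ℕ) (z : K k A B (n + 1)) :
    D dA dB n (Hom dA dB n z) + Hom dA dB (n + 1) (D dA dB (n + 1) z) =
      z - fun p => TensorProduct.map (P dA p.1.1) (P dB p.1.2) (z p) := by
  funext p
  obtain ⟨⟨i, j⟩, hp⟩ := p
  have h : i + j = n + 1 := Finset.HasAntidiagonal.mem_antidiagonal.1 hp
  show D dA dB n (Hom dA dB n z) (Idx.mk' i j h) +
      Hom dA dB (n + 1) (D dA dB (n + 1) z) (Idx.mk' i j h) =
    z (Idx.mk' i j h) - TensorProduct.map (P dA i) (P dB j) (z (Idx.mk' i j h))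
  have a1 : ∀ i, dA i ∘ₗ P dA i = 0 := fun i => LinearMap.ext (d_P dA hA i)
  have a2 : ∀ i, P dA (i + 1) ∘ₗ dA i = 0 := fun i => LinearMap.ext (P_d dA hA i)
  have key : ∀ w : A i ⊗[k] B j, w - TensorProduct.map (P dA i) (P dB j) w =
      TensorProduct.map (LinearMap.id - P dA i) LinearMap.id w +
        TensorProduct.map (P dA i) (LinearMap.id - P dB j) w := by
    intro w
    induction w using TensorProduct.induction_on with
    | zero => simp
    | tmul a b => simp [TensorProduct.tmul_sub, TensorProduct.sub_tmul]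
    | add a b ha hb => rw [map_add, map_add, map_add, add_add_add_comm, ← ha, ← hb]; abel
  rw [key, Hom_apply, D_apply, D_apply, D_apply]
  rcases i with _ | i <;> rcases j with _ | j
  · omega
  all_goals
    simp only [id_sub_P_zero, id_sub_P_succ]
    simp [DA, DB, Hom_apply, TensorProduct.map_map, a1, a2, LinearMap.id_comp, LinearMap.comp_id,
      smul_smul, pow_succ, ← mul_pow, TensorProduct.map_zero_left, TensorProduct.map_zero_right,
      TensorProduct.map_add_left, TensorProduct.map_add_right]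
    try abel

theorem homotopy_zero (z : K k A B 0) :
    Hom dA dB 0 (D dA dB 0 z) =
      z - fun p => TensorProduct.map (P dA p.1.1) (P dB p.1.2) (z p) := by
  funext p
  obtain ⟨⟨i, j⟩, hp⟩ := p
  have h : i + j = 0 := Finset.HasAntidiagonal.mem_antidiagonal.1 hp
  obtain ⟨rfl, rfl⟩ : i = 0 ∧ j = 0 := by omega
  show Hom dA dB 0 (D dA dB 0 z) (Idx.mk' 0 0 h) =
    z (Idx.mk' 0 0 h) - TensorProduct.map (P dA 0) (P dB 0) (z (Idx.mk' 0 0 h))
  rw [Hom_apply, D_apply, D_apply]
  have key : z (Idx.mk' 0 0 h) - TensorProduct.map (P dA 0) (P dB 0) (z (Idx.mk' 0 0 h)) =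
      TensorProduct.map (LinearMap.id - P dA 0) LinearMap.id (z (Idx.mk' 0 0 h)) +
        TensorProduct.map (P dA 0) (LinearMap.id - P dB 0) (z (Idx.mk' 0 0 h)) := by
    generalize z (Idx.mk' 0 0 h) = w
    induction w using TensorProduct.induction_on with
    | zero => simp
    | tmul a b => simp [TensorProduct.tmul_sub, TensorProduct.sub_tmul]
    | add a b ha hb => rw [map_add, map_add, map_add, add_add_add_comm, ← ha, ← hb]; abel
  rw [key, id_sub_P_zero, id_sub_P_zero]
  simp [DA, DB, TensorProduct.map_map, LinearMap.id_comp, LinearMap.comp_id]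

/-- The cohomology classes of the components. -/
noncomputable def clsK (n : ℕ) :
    K k A B n →ₗ[k] ∀ p : Idx n, H dA p.1.1 ⊗[k] H dB p.1.2 :=
  LinearMap.pi fun p => TensorProduct.map (cls dA hA p.1.1) (cls dB hB p.1.2) ∘ₗ LinearMap.proj p

theorem clsK_apply (n : ℕ) (z : K k A B n) (p : Idx n) :
    clsK hA hB n z p = TensorProduct.map (cls dA hA p.1.1) (cls dB hB p.1.2) (z p) := rfl

include hA hB in
theorem D_eq_zero_of_tmul {n i j : ℕ} (h : i + j = n) {u : A i} {v : B j} (hu : dA i u = 0)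
    (hv : dB j v = 0) : D dA dB n (Pi.single (Idx.mk' i j h) (u ⊗ₜ[k] v)) = 0 := by
  classical
  funext p
  obtain ⟨⟨a, b⟩, hp⟩ := p
  have hab : a + b = n + 1 := Finset.HasAntidiagonal.mem_antidiagonal.1 hp
  show D dA dB n _ (Idx.mk' a b hab) = 0
  rw [D_apply]
  have h1 : DA dA n a b hab (Pi.single (Idx.mk' i j h) (u ⊗ₜ[k] v) : K k A B n) = 0 := by
    rcases a with _ | a
    · rfl
    · show TensorProduct.map (dA a) LinearMap.id
        ((Pi.single (Idx.mk' i j h) (u ⊗ₜ[k] v) : K k A B n) (Idx.mk' a b (by omega))) = 0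
      by_cases he : Idx.mk' a b (by omega : a + b = n) = Idx.mk' i j h
      · obtain ⟨rfl, rfl⟩ : a = i ∧ b = j := Prod.mk.inj (congrArg Subtype.val he)
        rw [Pi.single_eq_same]
        simp [hu]
      · rw [Pi.single_eq_of_ne he, map_zero]
  have h2 : DB dB n a b hab (Pi.single (Idx.mk' i j h) (u ⊗ₜ[k] v) : K k A B n) = 0 := by
    rcases b with _ | b
    · rfl
    · show (-1 : k) ^ a • TensorProduct.map LinearMap.id (dB b)
        ((Pi.single (Idx.mk' i j h) (u ⊗ₜ[k] v) : K k A B n) (Idx.mk' a b (by omega))) = 0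
      by_cases he : Idx.mk' a b (by omega : a + b = n) = Idx.mk' i j h
      · obtain ⟨rfl, rfl⟩ : a = i ∧ b = j := Prod.mk.inj (congrArg Subtype.val he)
        rw [Pi.single_eq_same]
        simp [hv]
      · rw [Pi.single_eq_of_ne he, map_zero, smul_zero]
  rw [h1, h2, add_zero]

include hA hB in
theorem clsK_surjective (n : ℕ) (w : ∀ p : Idx n, H dA p.1.1 ⊗[k] H dB p.1.2) :
    ∃ z : K k A B n, D dA dB n z = 0 ∧ clsK hA hB n z = w := by
  classical
  suffices H : ∀ (i j : ℕ) (h : i + j = n) (x : H dA i ⊗[k] H dB j),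
      ∃ z : K k A B n, D dA dB n z = 0 ∧ clsK hA hB n z = Pi.single (Idx.mk' i j h) x by
    rw [← Finset.univ_sum_single w]
    choose z hz hzw using fun p : Idx n => H p.1.1 p.1.2 p.sum (w p)
    exact ⟨∑ p, z p, by rw [map_sum]; exact Finset.sum_eq_zero fun p _ => hz p,
      by rw [map_sum]; exact Finset.sum_congr rfl fun p _ => hzw p⟩
  intro i j h x
  induction x using TensorProduct.induction_on with
  | zero => exact ⟨0, map_zero _, by rw [map_zero, Pi.single_zero]⟩
  | add a b ha hb =>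
    obtain ⟨z, hz, hza⟩ := ha; obtain ⟨z', hz', hzb⟩ := hb
    exact ⟨z + z', by rw [map_add, hz, hz', add_zero], by rw [map_add, hza, hzb, ← Pi.single_add]⟩
  | tmul a b =>
    obtain ⟨⟨u, hu⟩, rfl⟩ := Submodule.Quotient.mk_surjective _ a
    obtain ⟨⟨v, hv⟩, rfl⟩ := Submodule.Quotient.mk_surjective _ b
    refine ⟨_, D_eq_zero_of_tmul hA hB h hu hv, funext fun p => ?_⟩
    rw [clsK_apply]
    by_cases he : p = Idx.mk' i j h
    · subst he
      rw [Pi.single_eq_same, Pi.single_eq_same, TensorProduct.map_tmul,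
        cls_coe dA hA i ⟨u, hu⟩, cls_coe dB hB j ⟨v, hv⟩]
    · rw [Pi.single_eq_of_ne he, Pi.single_eq_of_ne he, map_zero]

include hA hB in
theorem clsK_D (n : ℕ) (z : K k A B n) : clsK hA hB (n + 1) (D dA dB n z) = 0 := by
  funext p
  obtain ⟨⟨i, j⟩, hp⟩ := p
  have h : i + j = n + 1 := Finset.HasAntidiagonal.mem_antidiagonal.1 hp
  show TensorProduct.map (cls dA hA i) (cls dB hB j) (D dA dB n z (Idx.mk' i j h)) = 0
  have a1 : ∀ i, cls dA hA (i + 1) ∘ₗ dA i = 0 := fun i => LinearMap.ext (cls_d dA hA i)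
  have a2 : ∀ i, cls dB hB (i + 1) ∘ₗ dB i = 0 := fun i => LinearMap.ext (cls_d dB hB i)
  rw [D_apply]
  rcases i with _ | i <;> rcases j with _ | j
  · omega
  all_goals
    simp [DA, DB, TensorProduct.map_map, a1, a2, TensorProduct.map_zero_left,
      TensorProduct.map_zero_right]

include hA hB in
theorem mem_bd_of_clsK (n : ℕ) (z : K k A B n) (hz : D dA dB n z = 0)
    (h0 : clsK hA hB n z = 0) : z ∈ bd (D dA dB) n := by
  have hPP : ∀ w : K k A B n, clsK hA hB n w = 0 →
      (fun p : Idx n => TensorProduct.map (P dA p.1.1) (P dB p.1.2)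
        (TensorProduct.map (P dA p.1.1) (P dB p.1.2) (w p))) = 0 := by
    intro w hw
    funext p
    have e1 : P dA p.1.1 ∘ₗ P dA p.1.1 = rep dA hA p.1.1 ∘ₗ cls dA hA p.1.1 :=
      LinearMap.ext fun a => (rep_cls dA hA _ a).symm
    have e2 : P dB p.1.2 ∘ₗ P dB p.1.2 = rep dB hB p.1.2 ∘ₗ cls dB hB p.1.2 :=
      LinearMap.ext fun a => (rep_cls dB hB _ a).symm
    rw [TensorProduct.map_map, e1, e2, ← TensorProduct.map_map, ← clsK_apply hA hB, hw,
      Pi.zero_apply, map_zero, Pi.zero_apply]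
  cases n with
  | zero =>
    have h1 := homotopy_zero (dA := dA) (dB := dB) z
    rw [hz, map_zero] at h1
    have h2 : z = fun p => TensorProduct.map (P dA p.1.1) (P dB p.1.2) (z p) :=
      sub_eq_zero.1 h1.symm
    refine (Submodule.mem_bot k).2 (Eq.trans ?_ (hPP z h0))
    conv_lhs => rw [h2]
    funext p
    conv_lhs => rw [congrFun h2 p]
  | succ n =>
    set g : K k A B (n + 1) := fun p => TensorProduct.map (P dA p.1.1) (P dB p.1.2) (z p) with hg
    have h1 : D dA dB n (Hom dA dB n z) = z - g := by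
      have := homotopy hA hB n z
      rwa [hz, map_zero, add_zero] at this
    have hgz : g = z - D dA dB n (Hom dA dB n z) := by rw [h1, sub_sub_cancel]
    have hDg : D dA dB (n + 1) g = 0 := by rw [hgz, map_sub, hz, D_D hA hB, sub_zero]
    have h2 : D dA dB n (Hom dA dB n g) = g := by
      have := homotopy hA hB n g
      rw [hDg, map_zero, add_zero] at this
      rw [this, hg]
      exact sub_eq_self.2 (hPP z h0)
    exact ⟨Hom dA dB n z + Hom dA dB n g, by rw [map_add, h1, h2, sub_add_cancel]⟩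

/-- The Künneth map. -/
noncomputable def kunnethMap (n : ℕ) :
    H (D dA dB) n →ₗ[k] ∀ p : Idx n, H dA p.1.1 ⊗[k] H dB p.1.2 :=
  ((bd (D dA dB) n).comap (LinearMap.ker (D dA dB n)).subtype).liftQ
    (M₂ := ∀ p : Idx n, H dA p.1.1 ⊗[k] H dB p.1.2) (clsK (dA := dA) (dB := dB) hA hB n ∘ₗ (LinearMap.ker (D dA dB n)).subtype) fun z hz => by
      refine LinearMap.mem_ker.2 ?_
      show clsK (dA := dA) (dB := dB) hA hB n (z : K k A B n) = 0
      cases n with
      | zero =>
        rw [show (z : K k A B 0) = 0 from (Submodule.mem_bot k).1 hz, map_zero]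
      | succ n =>
        obtain ⟨w, hw⟩ := hz
        rw [show (z : K k A B (n + 1)) = D dA dB n w from hw.symm]
        exact clsK_D (dA := dA) (dB := dB) hA hB n w

theorem kunnethMap_bijective (n : ℕ) :
    Function.Bijective (kunnethMap (dA := dA) (dB := dB) hA hB n) := by
  refine ⟨?_, fun w => ?_⟩
  · refine (injective_iff_map_eq_zero _).2 fun x hx => ?_
    obtain ⟨⟨z, hz⟩, rfl⟩ := Submodule.Quotient.mk_surjective _ x
    exact (Submodule.Quotient.mk_eq_zero _).2
      (mem_bd_of_clsK (dA := dA) (dB := dB) hA hB n z hz hx)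
  · obtain ⟨z, hz, hzw⟩ := clsK_surjective (dA := dA) (dB := dB) hA hB n w
    exact ⟨Submodule.Quotient.mk ⟨z, hz⟩, hzw⟩

/-- The Künneth isomorphism. -/
noncomputable def kunneth (n : ℕ) :
    H (D dA dB) n ≃ₗ[k] ∀ p : Idx n, H dA p.1.1 ⊗[k] H dB p.1.2 :=
  LinearEquiv.ofBijective _ (kunnethMap_bijective (dA := dA) (dB := dB) hA hB n)

end Tensor

end Groth.Misc15.SegLC.Kun
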