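import Mathlib
import Groth.Agent.Misc15.SegLC.Diag
import Groth.Agent.Misc15.SegLC.Kunneth
import Groth.Agent.Misc15.SegLC.Compare
import Groth.Agent.GrMod.LocCoh
import Groth.Agent.GrMod.StarLocal
import Groth.Agent.LocCohTransform.NonVanish
import Groth.Agent.Misc15.GrCurve

/-!
The homogeneous pieces of graded local cohomology over a field: comparison with a resolution up to
torsion, dimensions, finiteness.
-/

set_option autoImplicit false

universe u

open scoped TensorProduct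
open DirectSum GrLC

namespace Groth.Misc15.SegLC

variable {k : Type u} [Field k]
variable {R : Type u} [CommRing R] [Algebra k R] {𝒜 : ℤ → Submodule k R} [GradedAlgebra 𝒜]

/-- Dimensions over the degree zero subring, when it is a copy of the field. -/
theorem finrank_deg0_eq [Nontrivial R] (h0 : 𝒜 0 = Submodule.span k {(1 : R)}) {V : Type u}
    [AddCommGroup V] [Module R V] [Module k V] [IsScalarTower k R V] (W : Submodule (deg0 𝒜) V)
    (W' : Submodule k V) (h : (W : Set V) = W') :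
    Module.finrank (deg0 𝒜) W = Module.finrank k W' := by
  let i : k → deg0 𝒜 := fun c => ⟨algebraMap k R c, SetLike.algebraMap_mem_graded 𝒜 c⟩
  have hi : Function.Bijective i := by
    refine ⟨fun a b hab => (algebraMap k R).injective (congrArg Subtype.val hab), fun r => ?_⟩
    have hr : (r : R) ∈ 𝒜 0 := r.2
    rw [h0, Submodule.mem_span_singleton] at hr
    obtain ⟨c, hc⟩ := hr
    exact ⟨c, Subtype.ext (by rw [← hc, Algebra.smul_def, mul_one])⟩
  let j : W' ≃+ W :=
    { toFun := fun x => ⟨x, by have := x.2; rwa [← SetLike.mem_coe, ← h] at this⟩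
      invFun := fun x => ⟨x, by have := x.2; rwa [← SetLike.mem_coe, h] at this⟩
      left_inv := fun x => rfl
      right_inv := fun x => rfl
      map_add' := fun x y => rfl }
  have := rank_eq_of_equiv_equiv i j hi fun c x => Subtype.ext (by
    show c • (x : V) = algebraMap k R c • (x : V)
    rw [algebraMap_smul])
  simp only [Module.finrank, this]

section Res

variable {M : Type u} [AddCommGroup M] [Module R M] [Module k M] [IsScalarTower k R M]
  {τ : Type u} [SetLike τ M] [AddSubgroupClass τ M] {ℳ : ℤ → τ} [DirectSum.Decomposition ℳ]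
  [SetLike.GradedSMul 𝒜 ℳ]
variable {a : HomogeneousIdeal 𝒜}

/-- The piece of a graded local cohomology module as a vector space. -/
noncomputable def hPiece (E : StarInjRes 𝒜 ℳ) (a : HomogeneousIdeal 𝒜) (i : ℕ) (g : ℤ) :
    Submodule k (E.H a i) where
  carrier := (E.Hcomp a i g : Set (E.H a i))
  add_mem' hx hy := add_mem hx hy
  zero_mem' := zero_mem _
  smul_mem' c x hx := by
    have := (E.Hcomp a i g).smul_mem ⟨algebraMap k R c, SetLike.algebraMap_mem_graded 𝒜 c⟩ hx
    have h' : algebraMap k R c • x = c • x := algebraMap_smul R c x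
    exact h' ▸ this

theorem finrank_Hcomp [Nontrivial R] (h0 : 𝒜 0 = Submodule.span k {(1 : R)}) (E : StarInjRes 𝒜 ℳ)
    (i : ℕ) (g : ℤ) :
    Module.finrank (deg0 𝒜) (E.Hcomp a i g) = Module.finrank k (hPiece E a i g) :=
  finrank_deg0_eq h0 _ _ rfl

theorem finrank_comp [Nontrivial R] (h0 : 𝒜 0 = Submodule.span k {(1 : R)}) (g : ℤ) :
    Module.finrank (deg0 𝒜) (GrLC.comp 𝒜 ℳ g) =
      Module.finrank k (Groth.GrDualH.piece 𝒜 ℳ g) :=
  finrank_deg0_eq h0 _ _ rfl

omit [Module k M] [IsScalarTower k R M] in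
/-- Homogeneous maps commute with projections. -/
theorem map_proj {X : GMod.{u} 𝒜} {f : M →ₗ[R] X.carrier} (hf : IsGrHom ℳ X.gr f) (g : ℤ) (m : M) :
    f (Groth.GrDualH.proj ℳ g m) = GrothGr.pr X.gr g (f m) := by
  induction m using DirectSum.Decomposition.inductionOn ℳ with
  | zero => simp
  | add x y hx hy => simp only [map_add, hx, hy]
  | @homogeneous i x =>
    rcases eq_or_ne i g with rfl | hne
    · rw [Groth.GrDualH.proj_of_mem x.2, GrothGr.pr_of_mem _ (hf i _ x.2)]
    · rw [Groth.GrDualH.proj_of_mem_ne x.2 hne, GrothGr.pr_of_mem_ne _ (hf i _ x.2) hne, map_zero]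

variable (D : TorRes a ℳ)

/-- The pieces of the terms. -/
abbrev pC (g : ℤ) (n : ℕ) : Type u := ↥(Groth.GrDualH.piece 𝒜 (D.C n).gr g)

/-- The differential on pieces. -/
noncomputable def dP (g : ℤ) (n : ℕ) : pC D g n →ₗ[k] pC D g (n + 1) :=
  ((D.d n).restrictScalars k).restrict fun x hx => D.d_grHom n g x hx

theorem dP_coe (g : ℤ) (n : ℕ) (x : pC D g n) :
    ((dP D g n x : pC D g (n + 1)) : (D.C (n + 1)).carrier) = D.d n x := rfl

theorem dP_dP (g : ℤ) (n : ℕ) (x : pC D g n) : dP D g (n + 1) (dP D g n x) = 0 :=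
  Subtype.ext (D.d_d n x)

/-- The augmentation on pieces. -/
noncomputable def augP (g : ℤ) : Groth.GrDualH.piece 𝒜 ℳ g →ₗ[k] pC D g 0 :=
  (D.aug.restrictScalars k).restrict fun x hx => D.aug_grHom g x hx

theorem augP_coe (g : ℤ) (x : Groth.GrDualH.piece 𝒜 ℳ g) :
    ((augP D g x : pC D g 0) : (D.C 0).carrier) = D.aug x := rfl

theorem dP_augP (g : ℤ) (x : Groth.GrDualH.piece 𝒜 ℳ g) : dP D g 0 (augP D g x) = 0 :=
  Subtype.ext (D.d_aug x)

variable (E : StarInjRes 𝒜 ℳ)

/-- The kernel of the augmentation is the zeroth local cohomology. -/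
theorem exists_equiv_zero (g : ℤ) :
    Nonempty (LinearMap.ker (augP D g) ≃ₗ[k] hPiece E a 0 g) := by
  have hT : ∀ m : M, D.aug m = 0 → E.ε m ∈ E.cocyc a 0 := fun m hm =>
    ⟨map_gam' E.ε (D.tor_aug m hm), E.exact_zero.ge ⟨m, rfl⟩⟩
  let v : LinearMap.ker (augP D g) → E.cocyc a 0 := fun m =>
    ⟨E.ε (m : M), hT _ (congrArg Subtype.val m.2 :)⟩
  let f : LinearMap.ker (augP D g) →ₗ[k] hPiece E a 0 g :=
    { toFun := fun m => ⟨E.toH a 0 (v m), ⟨v m, E.ε_grHom g _ m.1.2, rfl⟩⟩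
      map_add' := fun x y => Subtype.ext (by
        show E.toH a 0 (v (x + y)) = E.toH a 0 (v x) + E.toH a 0 (v y)
        rw [← map_add]
        exact congrArg _ (Subtype.ext (map_add E.ε _ _)))
      map_smul' := fun c x => Subtype.ext (by
        show E.toH a 0 (v (c • x)) = c • E.toH a 0 (v x)
        rw [← LinearMap.map_smul_of_tower]
        exact congrArg _ (Subtype.ext (LinearMap.map_smul_of_tower E.ε c _))) }
  refine ⟨LinearEquiv.ofBijective f ⟨(injective_iff_map_eq_zero f).2 fun m hm => ?_, ?_⟩⟩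
  · have h1 : v m ∈ (E.cobdy a 0).comap (E.cocyc a 0).subtype :=
      (Submodule.Quotient.mk_eq_zero _).1 (congrArg Subtype.val hm)
    have h2 : E.ε (m : M) = 0 := (Submodule.mem_bot R).1 h1
    exact Subtype.ext (Subtype.ext (E.ε_injective (h2.trans (map_zero _).symm)))
  · rintro ⟨_, z, hz, rfl⟩
    obtain ⟨m, hm⟩ := E.exact_zero.le z.2.2
    have hpr : E.ε (Groth.GrDualH.proj ℳ g m) = (z : (E.X 0).carrier) := by
      rw [map_proj E.ε_grHom, hm, GrothGr.pr_of_mem _ hz]
    obtain ⟨N, hN⟩ : (z : (E.X 0).carrier) ∈ gam a.toIdeal (E.X 0).carrier := z.2.1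
    have hker : D.aug (Groth.GrDualH.proj ℳ g m) = 0 := by
      refine (D.ta 0).torsionFree (map_gam' D.aug ⟨N, fun r hr => E.ε_injective ?_⟩)
      rw [map_smul, hpr, map_zero]
      exact hN r hr
    exact ⟨⟨⟨_, Groth.GrDualH.proj_mem (ℳ := ℳ) g m⟩, Subtype.ext hker⟩,
      Subtype.ext (congrArg (E.toH a 0) (Subtype.ext hpr))⟩

theorem hPiece_zero_eq_bot_iff (g : ℤ) :
    hPiece E a 0 g = ⊥ ↔ Function.Injective (augP D g) := by
  obtain ⟨e⟩ := exists_equiv_zero D E g
  rw [← Submodule.subsingleton_iff_eq_bot, ← e.toEquiv.subsingleton_congr,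
    Submodule.subsingleton_iff_eq_bot, LinearMap.ker_eq_bot']
  exact (injective_iff_map_eq_zero _).symm

variable [IsNoetherianRing R]

/-- The class of a homogeneous cocycle. -/
noncomputable def psiP (φ : CompMap E D) (g : ℤ) (n : ℕ) :
    LinearMap.ker (dP D g n) →ₗ[k] hPiece E a (n + 1) g where
  toFun z := ⟨φ.psi n ⟨_, congrArg Subtype.val z.2⟩, φ.psi_mem_Hgr n z.1.2⟩
  map_add' x y := Subtype.ext (map_add (φ.psi n) ⟨_, congrArg Subtype.val x.2⟩
    ⟨_, congrArg Subtype.val y.2⟩)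
  map_smul' c x := Subtype.ext
    (LinearMap.map_smul_of_tower (φ.psi n) c ⟨_, congrArg Subtype.val x.2⟩)

theorem psiP_surjective (φ : CompMap E D) (g : ℤ) (n : ℕ) :
    Function.Surjective (psiP D E φ g n) := by
  rintro ⟨x, hx⟩
  obtain ⟨z, hzg, hzx⟩ := φ.exists_psi_of_mem_Hgr n hx
  exact ⟨⟨⟨_, hzg⟩, Subtype.ext z.2⟩, Subtype.ext hzx⟩

theorem psiP_zero_eq_zero_iff (φ : CompMap E D) (g : ℤ) (z : LinearMap.ker (dP D g 0)) :
    psiP D E φ g 0 z = 0 ↔ (z : pC D g 0) ∈ LinearMap.range (augP D g) := by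
  rw [Subtype.ext_iff]
  refine (φ.psi_zero_eq_zero_iff ⟨_, congrArg Subtype.val z.2⟩).trans ⟨?_, ?_⟩
  · rintro ⟨m, hm⟩
    refine ⟨⟨_, Groth.GrDualH.proj_mem (ℳ := ℳ) g m⟩, Subtype.ext ?_⟩
    show D.aug (Groth.GrDualH.proj ℳ g m) = _
    rw [map_proj D.aug_grHom, show D.aug m = ((z : pC D g 0) : (D.C 0).carrier) from hm,
      GrothGr.pr_of_mem _ z.1.2]
  · rintro ⟨m, hm⟩
    exact ⟨m, congrArg Subtype.val hm⟩

theorem psiP_succ_eq_zero_iff (φ : CompMap E D) (g : ℤ) (n : ℕ)
    (z : LinearMap.ker (dP D g (n + 1))) :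
    psiP D E φ g (n + 1) z = 0 ↔ (z : pC D g (n + 1)) ∈ LinearMap.range (dP D g n) := by
  rw [Subtype.ext_iff]
  refine (φ.psi_succ_eq_zero_iff n ⟨_, congrArg Subtype.val z.2⟩).trans ⟨?_, ?_⟩
  · rintro ⟨w, hw⟩
    refine ⟨⟨_, GrothGr.pr_mem (D.C n).gr g w⟩, Subtype.ext ?_⟩
    show D.d n (GrothGr.pr (D.C n).gr g w) = _
    rw [GrothGr.map_pr _ _ (D.d_grHom n), show D.d n w = ((z : pC D g (n + 1)) : _) from hw,
      GrothGr.pr_of_mem _ z.1.2]
  · rintro ⟨w, hw⟩
    exact ⟨w, congrArg Subtype.val hw⟩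

theorem hPiece_one_eq_bot_iff (g : ℤ) :
    hPiece E a 1 g = ⊥ ↔ LinearMap.ker (dP D g 0) ≤ LinearMap.range (augP D g) := by
  obtain ⟨φ⟩ := nonempty_compMap E D
  constructor
  · intro h z hz
    refine (psiP_zero_eq_zero_iff D E φ g ⟨z, hz⟩).1 (Subtype.ext ?_)
    exact (Submodule.eq_bot_iff _).1 h _ (psiP D E φ g 0 ⟨z, hz⟩).2
  · intro h
    refine (Submodule.eq_bot_iff _).2 fun x hx => ?_
    obtain ⟨z, hz⟩ := psiP_surjective D E φ g 0 ⟨x, hx⟩
    rw [(psiP_zero_eq_zero_iff D E φ g z).2 (h z.2)] at hz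
    exact (congrArg Subtype.val hz).symm

/-- Higher local cohomology of a piece is the cohomology of the pieces. -/
theorem exists_equiv_succ (g : ℤ) (n : ℕ) :
    Nonempty (Kun.H (dP D g) (n + 1) ≃ₗ[k] hPiece E a (n + 2) g) := by
  obtain ⟨φ⟩ := nonempty_compMap E D
  refine ⟨LinearEquiv.ofBijective
    (((Kun.bd (dP D g) (n + 1)).comap (LinearMap.ker (dP D g (n + 1))).subtype).liftQ
      (psiP D E φ g (n + 1)) fun z hz => LinearMap.mem_ker.2
        ((psiP_succ_eq_zero_iff D E φ g n z).2 hz))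
    ⟨(injective_iff_map_eq_zero _).2 fun q hq => ?_, fun x => ?_⟩⟩
  · obtain ⟨z, rfl⟩ := Submodule.Quotient.mk_surjective _ q
    exact (Submodule.Quotient.mk_eq_zero _).2 ((psiP_succ_eq_zero_iff D E φ g n z).1 hq)
  · obtain ⟨z, hz⟩ := psiP_surjective D E φ g (n + 1) x
    exact ⟨Submodule.Quotient.mk z, hz⟩

theorem exists_equiv_kunH_zero (g : ℤ) (h0 : hPiece E a 0 g = ⊥) (h1 : hPiece E a 1 g = ⊥) :
    Nonempty (Groth.GrDualH.piece 𝒜 ℳ g ≃ₗ[k] Kun.H (dP D g) 0) := by
  refine ⟨LinearEquiv.ofBijective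
    (((Kun.bd (dP D g) 0).comap (LinearMap.ker (dP D g 0)).subtype).mkQ ∘ₗ
      (augP D g).codRestrict (LinearMap.ker (dP D g 0)) fun x =>
        LinearMap.mem_ker.2 (dP_augP D g x))
    ⟨(injective_iff_map_eq_zero _).2 fun x hx => ?_, fun q => ?_⟩⟩
  · refine (hPiece_zero_eq_bot_iff D E g).1 h0 (Eq.trans ?_ (map_zero _).symm)
    have h := (Submodule.Quotient.mk_eq_zero _).1 hx
    exact (Submodule.mem_bot k).1 h
  · obtain ⟨z, rfl⟩ := Submodule.Quotient.mk_surjective _ q
    obtain ⟨x, hx⟩ := (hPiece_one_eq_bot_iff D E g).1 h1 z.2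
    exact ⟨x, congrArg Submodule.Quotient.mk (Subtype.ext hx)⟩

end Res

section Finite

variable {M : Type u} [AddCommGroup M] [Module R M]
  {τ : Type u} [SetLike τ M] [AddSubgroupClass τ M] {ℳ : ℤ → τ} [DirectSum.Decomposition ℳ]
  [SetLike.GradedSMul 𝒜 ℳ]

/-- A resolution over the grading by additive subgroups. -/
noncomputable def clsRes (E : StarInjRes 𝒜 ℳ) : StarInjRes (cls 𝒜) (clsM ℳ) where
  X n := GMod.of (cls 𝒜) (E.X n).carrier (E.X n).gr
  d := E.d
  ε := E.ε
  d_grHom := E.d_grHom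
  ε_grHom := E.ε_grHom
  ε_injective := E.ε_injective
  exact_zero := E.exact_zero
  exact_succ := E.exact_succ
  starInj n := IsStarInj.toCls (E.starInj n)

/-- Artinian modules over a maximal ideal localisation are Artinian when they are torsion. -/
theorem isArtinian_of_localized (m : Ideal R) [m.IsMaximal] {H : Type u} [AddCommGroup H]
    [Module R H] (htor : LocCoh.IsPowerTorsion m H)
    [IsArtinian (Localization.AtPrime m) (LocalizedModule m.primeCompl H)] : IsArtinian R H := by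
  have hloc : StrictMono fun N : Submodule R H => N.localized m.primeCompl := by
    intro N N' hlt
    refine lt_of_le_of_ne ?_ ?_
    · rintro _ ⟨x, hx, s, rfl⟩
      exact ⟨x, hlt.le hx, s, rfl⟩
    · intro he
      obtain ⟨x, hxN', hxN⟩ := SetLike.exists_of_lt hlt
      refine hxN ?_
      have hmem : IsLocalizedModule.mk' (LocalizedModule.mkLinearMap m.primeCompl H) x
          (1 : m.primeCompl) ∈ N'.localized m.primeCompl := ⟨x, hxN', 1, rfl⟩
      rw [← show N.localized m.primeCompl = N'.localized m.primeCompl from he] at hmem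
      obtain ⟨y, hy, s, hys⟩ := hmem
      rw [IsLocalizedModule.mk'_eq_mk'_iff] at hys
      obtain ⟨c, hc⟩ := hys
      simp only [Submonoid.smul_def, OneMemClass.coe_one, one_smul, smul_smul] at hc
      have hu : ((c : R) * (s : R)) • x ∈ N := by
        rw [hc]
        exact N.smul_mem _ hy
      obtain ⟨j, hj⟩ := htor x
      have hcop : Ideal.span {(c : R) * (s : R)} ⊔ m ^ j = ⊤ := by
        refine Ideal.sup_pow_eq_top ?_
        refine Ideal.IsMaximal.out.2 _ (lt_of_le_of_ne le_sup_right fun h => ?_)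
        exact m.primeCompl.mul_mem c.2 s.2
          (h.ge (Ideal.mem_sup_left (Ideal.mem_span_singleton_self _)))
      obtain ⟨u, hu', v, hv, huv⟩ := Submodule.mem_sup.1 ((Ideal.eq_top_iff_one _).1 hcop)
      obtain ⟨w, rfl⟩ := Ideal.mem_span_singleton'.1 hu'
      have hx1 : x = w • ((c : R) * (s : R)) • x := by
        conv_lhs => rw [← one_smul R x, ← huv, add_smul, hj v hv, add_zero, mul_smul]
      rw [hx1]
      exact N.smul_mem w hu
  exact ⟨hloc.wellFoundedLT.wf⟩

variable [Module k M] [IsScalarTower k R M]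
variable (hpos : ∀ n : ℤ, n < 0 → 𝒜 n = ⊥) (h0 : 𝒜 0 = Submodule.span k {(1 : R)})

include hpos h0 in
/-- The pieces of the local cohomology of a finitely generated module are finite dimensional. -/
theorem finiteDimensional_hPiece [IsNoetherianRing R] [Nontrivial R] [Module.Finite R M]
    (a : HomogeneousIdeal 𝒜) (ha : a.toIdeal = GrCurve.irr 𝒜 hpos) (E : StarInjRes 𝒜 ℳ) (i : ℕ)
    (g : ℤ) : FiniteDimensional k (hPiece E a i g) := by
  haveI hm : a.toIdeal.IsMaximal := ha ▸ GrCurve.irr_isMaximal 𝒜 hpos h0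
  have htor : LocCoh.IsPowerTorsion a.toIdeal (E.H a i) := by
    intro x
    obtain ⟨⟨z, hz⟩, rfl⟩ := Submodule.Quotient.mk_surjective _ x
    obtain ⟨j, hj⟩ := hz.1
    refine ⟨j, fun r hr => ?_⟩
    rw [← Submodule.Quotient.mk_smul, show r • (⟨z, hz⟩ : E.cocyc a i) = 0 from Subtype.ext (hj r hr),
      Submodule.Quotient.mk_zero]
  obtain ⟨e⟩ : Nonempty (E.H a i ≃ₗ[R] LocCoh.H a.toIdeal i M) :=
    GrothGr.nonempty_H_equiv (cls 𝒜) (clsM ℳ)
      ⟨a.toIdeal, isHomogeneous_cls 𝒜 a.isHomogeneous⟩ (clsRes E) i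
  haveI : IsArtinian R (E.H a i) := by
    obtain ⟨e'⟩ := GrothGr.nonempty_localized_H_equiv a.toIdeal M i
    haveI : IsArtinian (Localization.AtPrime a.toIdeal)
        (LocalizedModule a.toIdeal.primeCompl (LocCoh.H a.toIdeal i M)) :=
      haveI := Groth.LocCohTransform.isArtinian_H_maximalIdeal
        (R := Localization.AtPrime a.toIdeal) i (LocalizedModule a.toIdeal.primeCompl M)
      isArtinian_of_linearEquiv e'.symm
    haveI : IsArtinian R (LocCoh.H a.toIdeal i M) :=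
      isArtinian_of_localized a.toIdeal (fun x => by
        obtain ⟨j, hj⟩ := htor (e.symm x)
        exact ⟨j, fun r hr => e.symm.injective (by rw [map_smul, hj r hr, map_zero])⟩)
    exact isArtinian_of_linearEquiv e.symm
  letI := (GrothGr.Hgr_isInternal (cls 𝒜) (clsM ℳ) (clsRes E)
    ⟨a.toIdeal, isHomogeneous_cls 𝒜 a.isHomogeneous⟩ i).chooseDecomposition
  letI : DirectSum.Decomposition (E.Hgr a i) := this
  haveI : SetLike.GradedSMul 𝒜 (E.Hgr a i) := ⟨fun {b j r x} hr hx => by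
    obtain ⟨z, hz, rfl⟩ := hx
    exact ⟨r • z, GrothGr.smul_mem (E.X i).gr 𝒜 hr hz, map_smul _ _ _⟩⟩
  have hfd := Groth.GrDualH.finiteDimensional_piece (M := E.H a i) (ℳ := E.Hgr a i) h0
    (Or.inr inferInstance) g
  exact hfd

end Finite

end Groth.Misc15.SegLC
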