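import Mathlib
import Groth.Agent.Misc15.SegLC.Diag
import Groth.Agent.Misc15.SegLC.Kunneth
import Groth.Agent.Misc15.SegLC.LocRes

/-!
The degree diagonal of the tensor product of two resolutions up to torsion is a resolution up to
torsion of the Segre product.
-/

set_option autoImplicit false

universe u

open scoped TensorProduct
open DirectSum GrLC

namespace Groth.Misc15.SegLC

namespace Kun

variable {k : Type u} [Field k] {A : ℕ → Type u} [∀ n, AddCommGroup (A n)] [∀ n, Module k (A n)]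
  {B : ℕ → Type u} [∀ n, AddCommGroup (B n)] [∀ n, Module k (B n)]
  {dA : ∀ n, A n →ₗ[k] A (n + 1)} {dB : ∀ n, B n →ₗ[k] B (n + 1)}

/-- The differential commutes with componentwise operators commuting with both partial differentials. -/
theorem D_comm (L : ∀ i j, A i ⊗[k] B j →ₗ[k] A i ⊗[k] B j)
    (h1 : ∀ i j w, TensorProduct.map (dA i) LinearMap.id (L i j w) =
      L (i + 1) j (TensorProduct.map (dA i) LinearMap.id w))
    (h2 : ∀ i j w, TensorProduct.map LinearMap.id (dB j) (L i j w) =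
      L i (j + 1) (TensorProduct.map LinearMap.id (dB j) w))
    (n : ℕ) (z : K k A B n) :
    D dA dB n (fun p => L p.1.1 p.1.2 (z p)) = fun q => L q.1.1 q.1.2 (D dA dB n z q) := by
  funext q
  obtain ⟨⟨i, j⟩, hq⟩ := q
  have h : i + j = n + 1 := Finset.HasAntidiagonal.mem_antidiagonal.1 hq
  show D dA dB n _ (Idx.mk' i j h) = L i j (D dA dB n z (Idx.mk' i j h))
  rw [D_apply, D_apply, map_add]
  congr 1
  · rcases i with _ | i
    · exact (map_zero (L 0 j)).symm
    · exact h1 i j _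
  · rcases j with _ | j
    · exact (map_zero (L i 0)).symm
    · show (-1 : k) ^ i • TensorProduct.map LinearMap.id (dB j) (L i j (z (Idx.mk' i j (by omega)))) = _
      rw [h2, ← map_smul]
      rfl

/-- The differential preserves componentwise subspaces stable under both partial differentials. -/
theorem D_mem (V : ∀ i j, Submodule k (A i ⊗[k] B j))
    (h1 : ∀ i j, ∀ w ∈ V i j, TensorProduct.map (dA i) LinearMap.id w ∈ V (i + 1) j)
    (h2 : ∀ i j, ∀ w ∈ V i j, TensorProduct.map LinearMap.id (dB j) w ∈ V i (j + 1))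
    (n : ℕ) (z : K k A B n) (hz : ∀ p, z p ∈ V p.1.1 p.1.2) (q : Idx (n + 1)) :
    D dA dB n z q ∈ V q.1.1 q.1.2 := by
  obtain ⟨⟨i, j⟩, hq⟩ := q
  have h : i + j = n + 1 := Finset.HasAntidiagonal.mem_antidiagonal.1 hq
  show D dA dB n z (Idx.mk' i j h) ∈ V i j
  rw [D_apply]
  refine add_mem ?_ ?_
  · rcases i with _ | i
    · exact zero_mem _
    · exact h1 i j _ (hz (Idx.mk' i j (by omega)))
  · rcases j with _ | j
    · exact zero_mem _
    · exact Submodule.smul_mem _ _ (h2 i j _ (hz (Idx.mk' i j (by omega))))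

variable (hA : ∀ n x, dA (n + 1) (dA n x) = 0) (hB : ∀ n x, dB (n + 1) (dB n x) = 0)

include hA hB in
/-- A subspace containing the coboundaries and all products of cocycles contains the cocycles. -/
theorem mem_of_single {n : ℕ} (V : Submodule k (K k A B n)) (hbd : bd (D dA dB) n ≤ V)
    (hs : ∀ (i j : ℕ) (h : i + j = n) (u : A i) (v : B j), dA i u = 0 → dB j v = 0 →
      (Pi.single (Idx.mk' i j h) (u ⊗ₜ[k] v) : K k A B n) ∈ V)
    {z : K k A B n} (hz : D dA dB n z = 0) : z ∈ V := by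
  classical
  suffices H : ∀ w, ∃ z' ∈ V, D dA dB n z' = 0 ∧ clsK hA hB n z' = w by
    obtain ⟨z', hz', hD, hc⟩ := H (clsK hA hB n z)
    have := hbd (mem_bd_of_clsK hA hB n (z - z') (by rw [map_sub, hz, hD, sub_zero])
      ((map_sub (clsK (dA := dA) (dB := dB) hA hB n) z z').trans (sub_eq_zero.2 hc.symm)))
    simpa using add_mem this hz'
  intro w
  rw [← Finset.univ_sum_single w]
  suffices H : ∀ p : Idx n, ∃ z' ∈ V, D dA dB n z' = 0 ∧
      clsK hA hB n z' = Pi.single p (w p) by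
    choose z' hz' hD hc using H
    exact ⟨∑ p, z' p, sum_mem fun p _ => hz' p,
      by rw [map_sum]; exact Finset.sum_eq_zero fun p _ => hD p,
      by rw [map_sum]; exact Finset.sum_congr rfl fun p _ => hc p⟩
  intro p
  generalize w p = x
  obtain ⟨⟨i, j⟩, hp⟩ := p
  have h : i + j = n := Finset.HasAntidiagonal.mem_antidiagonal.1 hp
  induction x using TensorProduct.induction_on with
  | zero => exact ⟨0, zero_mem _, map_zero _, by rw [map_zero, Pi.single_zero]⟩
  | add a b ha hb =>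
    obtain ⟨z1, h1, h1', h1''⟩ := ha; obtain ⟨z2, h2, h2', h2''⟩ := hb
    exact ⟨z1 + z2, add_mem h1 h2, by rw [map_add, h1', h2', add_zero],
      by rw [map_add, h1'', h2'', ← Pi.single_add]⟩
  | tmul a b =>
    obtain ⟨⟨u, hu⟩, rfl⟩ := Submodule.Quotient.mk_surjective _ a
    obtain ⟨⟨v, hv⟩, rfl⟩ := Submodule.Quotient.mk_surjective _ b
    refine ⟨_, hs i j h u v hu hv, D_eq_zero_of_tmul hA hB h hu hv, funext fun q => ?_⟩
    rw [clsK_apply]
    by_cases he : q = Idx.mk' i j h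
    · subst he
      rw [Pi.single_eq_same, Pi.single_eq_same, TensorProduct.map_tmul,
        cls_coe dA hA i ⟨u, hu⟩, cls_coe dB hB j ⟨v, hv⟩]
    · rw [Pi.single_eq_of_ne he, Pi.single_eq_of_ne he, map_zero]

include hA hB in
/-- A product of cocycles with a coboundary factor is a coboundary. -/
theorem single_mem_bd {n i j : ℕ} (h : i + j = n) {u : A i} {v : B j} (hu : dA i u = 0)
    (hv : dB j v = 0) (hb : u ∈ bd dA i ∨ v ∈ bd dB j) :
    (Pi.single (Idx.mk' i j h) (u ⊗ₜ[k] v) : K k A B n) ∈ bd (D dA dB) n := by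
  refine mem_bd_of_clsK hA hB n _ (D_eq_zero_of_tmul hA hB h hu hv) (funext fun q => ?_)
  rw [clsK_apply, Pi.zero_apply]
  by_cases he : q = Idx.mk' i j h
  · subst he
    rw [Pi.single_eq_same, TensorProduct.map_tmul, cls_coe dA hA i ⟨u, hu⟩,
      cls_coe dB hB j ⟨v, hv⟩]
    rcases hb with hb | hb
    · rw [(Submodule.Quotient.mk_eq_zero _).2 (show (⟨u, hu⟩ : LinearMap.ker (dA i)) ∈
        (bd dA i).comap (LinearMap.ker (dA i)).subtype from hb), TensorProduct.zero_tmul]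
    · rw [(Submodule.Quotient.mk_eq_zero _).2 (show (⟨v, hv⟩ : LinearMap.ker (dB j)) ∈
        (bd dB j).comap (LinearMap.ker (dB j)).subtype from hb), TensorProduct.tmul_zero]
  · rw [Pi.single_eq_of_ne he, map_zero]

end Kun

/-- A subspace containing all tensors with one factor in a kernel contains the kernel of the tensor
product of two maps. -/
theorem mem_of_map_eq_zero {k : Type u} [Field k] {A B A' B' : Type u} [AddCommGroup A] [Module k A]
    [AddCommGroup B] [Module k B] [AddCommGroup A'] [Module k A'] [AddCommGroup B'] [Module k B']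
    (f : A →ₗ[k] A') (g : B →ₗ[k] B') (V : Submodule k (A ⊗[k] B))
    (h1 : ∀ u v, f u = 0 → u ⊗ₜ[k] v ∈ V) (h2 : ∀ u v, g v = 0 → u ⊗ₜ[k] v ∈ V)
    {z : A ⊗[k] B} (hz : TensorProduct.map f g z = 0) : z ∈ V := by
  have ginv : ∀ {A A' : Type u} [AddCommGroup A] [Module k A] [AddCommGroup A'] [Module k A']
      (f : A →ₗ[k] A'), ∃ h : A' →ₗ[k] A, ∀ x, f (h (f x)) = f x := by
    intro A A' _ _ _ _ f
    obtain ⟨s, hs⟩ := f.rangeRestrict.exists_rightInverse_of_surjective f.range_rangeRestrict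
    obtain ⟨s', hs'⟩ := s.exists_extend
    refine ⟨s', fun x => ?_⟩
    rw [show s' (f x) = s (f.rangeRestrict x) from LinearMap.congr_fun hs' (f.rangeRestrict x)]
    exact congrArg Subtype.val (LinearMap.congr_fun hs (f.rangeRestrict x))
  obtain ⟨h, hh⟩ := ginv f
  obtain ⟨h', hh'⟩ := ginv g
  have key : ∀ w : A ⊗[k] B, w - TensorProduct.map h h' (TensorProduct.map f g w) ∈ V := by
    intro w
    induction w using TensorProduct.induction_on with
    | zero => simp
    | add a b ha hb => simp only [map_add, add_sub_add_comm]; exact add_mem ha hb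
    | tmul a b =>
      have : a ⊗ₜ[k] b - h (f a) ⊗ₜ[k] h' (g b) =
          (a - h (f a)) ⊗ₜ[k] b + h (f a) ⊗ₜ[k] (b - h' (g b)) := by
        rw [TensorProduct.sub_tmul, TensorProduct.tmul_sub]; abel
      rw [TensorProduct.map_tmul, TensorProduct.map_tmul, this]
      exact add_mem (h1 _ _ (by rw [map_sub, hh, sub_self])) (h2 _ _ (by rw [map_sub, hh', sub_self]))
  simpa [hz] using key z

variable {k : Type u} [Field k]
variable {R : Type u} [CommRing R] [Algebra k R] {𝒜 : ℤ → Submodule k R} [GradedAlgebra 𝒜]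
variable {S : Type u} [CommRing S] [Algebra k S] {ℬ : ℤ → Submodule k S} [GradedAlgebra ℬ]
variable {T : Type u} [CommRing T] [Algebra k T] {𝒯 : ℤ → Submodule k T} [GradedAlgebra 𝒯]
variable {ψ : T →ₐ[k] R ⊗[k] S} (hT : GrSeg.IsSegreRing 𝒜 ℬ 𝒯 ψ)
variable {mR : HomogeneousIdeal 𝒜} {mS : HomogeneousIdeal ℬ} {mT : HomogeneousIdeal 𝒯}

section Powers

/-- The span of the products of elements of given powers of two ideals. -/
def pw (I : Ideal R) (J : Ideal S) (N : ℕ) : Submodule k (R ⊗[k] S) :=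
  Submodule.span k {y | ∃ r ∈ I ^ N, ∃ s ∈ J ^ N, y = r ⊗ₜ[k] s}

theorem mul_mem_pw {I : Ideal R} {J : Ideal S} {N L : ℕ} {y w : R ⊗[k] S} (hy : y ∈ pw I J N)
    (hw : w ∈ pw I J L) : y * w ∈ pw (k := k) I J (N + L) := by
  induction hy using Submodule.span_induction with
  | zero => simp
  | add a b _ _ ha hb => rw [add_mul]; exact add_mem ha hb
  | smul c a _ ha => rw [smul_mul_assoc]; exact Submodule.smul_mem _ c ha
  | mem v hv =>
    obtain ⟨r, hr, s, hs, rfl⟩ := hv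
    induction hw using Submodule.span_induction with
    | zero => simp
    | add a b _ _ ha hb => rw [mul_add]; exact add_mem ha hb
    | smul c a _ ha => rw [mul_smul_comm]; exact Submodule.smul_mem _ c ha
    | mem v' hv' =>
      obtain ⟨r', hr', s', hs', rfl⟩ := hv'
      refine Submodule.subset_span ⟨r * r', ?_, s * s', ?_, Algebra.TensorProduct.tmul_mul_tmul ..⟩
      · rw [pow_add]; exact Ideal.mul_mem_mul hr hr'
      · rw [pow_add]; exact Ideal.mul_mem_mul hs hs'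

theorem mem_pw_zero (I : Ideal R) (J : Ideal S) (y : R ⊗[k] S) : y ∈ pw (k := k) I J 0 := by
  induction y using TensorProduct.induction_on with
  | zero => exact zero_mem _
  | add a b ha hb => exact add_mem ha hb
  | tmul r s => exact Submodule.subset_span ⟨r, by simp, s, by simp, rfl⟩

include hT in
theorem psi_mem_pw (hmR : ∀ n : ℤ, 0 < n → ∀ r ∈ 𝒜 n, r ∈ mR.toIdeal)
    (hmS : ∀ n : ℤ, 0 < n → ∀ s ∈ ℬ n, s ∈ mS.toIdeal)
    (hmT : mT.toIdeal = Ideal.span (⋃ n ∈ Set.Ioi (0 : ℤ), (𝒯 n : Set T))) :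
    ∀ (N : ℕ) (t : T), t ∈ mT.toIdeal ^ N → ψ t ∈ pw mR.toIdeal mS.toIdeal N := by
  intro N
  induction N with
  | zero => exact fun t _ => mem_pw_zero _ _ _
  | succ N ih =>
    intro t ht
    rw [pow_succ] at ht
    induction ht using Submodule.mul_induction_on' with
    | add a _ b _ ha hb => rw [map_add]; exact add_mem ha hb
    | mem_mul_mem a ha b hb =>
      rw [map_mul]
      refine mul_mem_pw (ih a ha) ?_
      rw [hmT] at hb
      induction hb using Submodule.span_induction with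
      | zero => rw [map_zero]; exact zero_mem _
      | add x y _ _ hx hy => rw [map_add]; exact add_mem hx hy
      | smul c x _ hx =>
        rw [smul_eq_mul, map_mul]
        have := mul_mem_pw (mem_pw_zero mR.toIdeal mS.toIdeal (ψ c)) hx
        rwa [zero_add] at this
      | mem x hx =>
        obtain ⟨n, hn, hxn⟩ := Set.mem_iUnion₂.1 hx
        have h := psi_mem hT hxn
        refine Submodule.span_mono ?_ h
        rintro _ ⟨r, hr, s, hs, rfl⟩
        exact ⟨r, by rw [pow_one]; exact hmR n hn r hr, s, by rw [pow_one]; exact hmS n hn s hs,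
          rfl⟩

theorem apply_mem_of_pw {V : Type u} [AddCommGroup V] [Module k V] (f : R ⊗[k] S →ₗ[k] V)
    (W : Submodule k V) {I : Ideal R} {J : Ideal S} {N : ℕ}
    (h : ∀ r ∈ I ^ N, ∀ s ∈ J ^ N, f (r ⊗ₜ[k] s) ∈ W) {y : R ⊗[k] S} (hy : y ∈ pw I J N) :
    f y ∈ W := by
  have : pw I J N ≤ W.comap f := Submodule.span_le.2 (by
    rintro _ ⟨r, hr, s, hs, rfl⟩
    exact h r hr s hs)
  exact this hy

/-- The elements carried into a subspace by powers of two ideals. -/
def tors {X V : Type u} [AddCommGroup X] [Module k X] [AddCommGroup V] [Module k V]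
    (f : R ⊗[k] S →ₗ[k] X →ₗ[k] V) (I : Ideal R) (J : Ideal S) (W : Submodule k V) :
    Submodule k X where
  carrier := {x | ∃ N : ℕ, ∀ r ∈ I ^ N, ∀ s ∈ J ^ N, f (r ⊗ₜ[k] s) x ∈ W}
  zero_mem' := ⟨0, fun r _ s _ => by rw [map_zero]; exact zero_mem _⟩
  add_mem' := by
    rintro a b ⟨N, hN⟩ ⟨L, hL⟩
    refine ⟨N + L, fun r hr s hs => ?_⟩
    rw [map_add]
    exact add_mem
      (hN r (Ideal.pow_le_pow_right (Nat.le_add_right N L) hr) s
        (Ideal.pow_le_pow_right (Nat.le_add_right N L) hs))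
      (hL r (Ideal.pow_le_pow_right (Nat.le_add_left L N) hr) s
        (Ideal.pow_le_pow_right (Nat.le_add_left L N) hs))
  smul_mem' := by
    rintro c a ⟨N, hN⟩
    exact ⟨N, fun r hr s hs => by rw [map_smul]; exact Submodule.smul_mem _ c (hN r hr s hs)⟩

end Powers

variable {M : Type u} [AddCommGroup M] [Module R M] [Module k M] [IsScalarTower k R M]
  {τ : Type u} [SetLike τ M] [AddSubgroupClass τ M] {ℳ : ℤ → τ} [DirectSum.Decomposition ℳ]
  [SetLike.GradedSMul 𝒜 ℳ]
variable {N : Type u} [AddCommGroup N] [Module S N] [Module k N] [IsScalarTower k S N]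
  {τ' : Type u} [SetLike τ' N] [AddSubgroupClass τ' N] {𝒩 : ℤ → τ'} [DirectSum.Decomposition 𝒩]
  [SetLike.GradedSMul ℬ 𝒩]

namespace SegreK

variable (DM : TorRes mR ℳ) (DN : TorRes mS 𝒩)

/-- The terms of the first factor. -/
abbrev A (i : ℕ) : Type u := (DM.C i).carrier

/-- The terms of the second factor. -/
abbrev B (j : ℕ) : Type u := (DN.C j).carrier

/-- The first differential over the field. -/
noncomputable abbrev dA (i : ℕ) : A DM i →ₗ[k] A DM (i + 1) := (DM.d i).restrictScalars k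

/-- The second differential over the field. -/
noncomputable abbrev dB (j : ℕ) : B DN j →ₗ[k] B DN (j + 1) := (DN.d j).restrictScalars k

theorem dA_dA : ∀ n x, dA DM (n + 1) (dA DM n x) = 0 := DM.d_d

theorem dB_dB : ∀ n x, dB DN (n + 1) (dB DN n x) = 0 := DN.d_d

/-- The terms. -/
noncomputable def C (n : ℕ) : GMod.{u} 𝒯 :=
  piMod fun p : Kun.Idx n => dgMod hT (DM.C p.1.1) (DN.C p.1.2)

/-- The underlying element of the tensor product complex. -/
noncomputable def incl (n : ℕ) : (∀ p : Kun.Idx n, Dg hT (DM.C p.1.1) (DN.C p.1.2)) →ₗ[k]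
    Kun.K k (A DM) (B DN) n :=
  LinearMap.pi fun p => Dg.val hT ∘ₗ LinearMap.proj p

theorem incl_injective (n : ℕ) : Function.Injective (incl hT DM DN n) :=
  fun _ _ h => funext fun p => Dg.val_injective hT (congrFun h p)

/-- The action on the tensor product complex. -/
noncomputable def actK (n : ℕ) :
    R ⊗[k] S →ₗ[k] Kun.K k (A DM) (B DN) n →ₗ[k] Kun.K k (A DM) (B DN) n where
  toFun y := LinearMap.pi fun p =>
    GrSeg.act k R S (A DM p.1.1) (B DN p.1.2) y ∘ₗ LinearMap.proj p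
  map_add' y w := LinearMap.ext fun z => funext fun p => by simp
  map_smul' c y := LinearMap.ext fun z => funext fun p => by simp

theorem actK_apply (n : ℕ) (y : R ⊗[k] S) (z : Kun.K k (A DM) (B DN) n) (p : Kun.Idx n) :
    actK DM DN n y z p = GrSeg.act k R S (A DM p.1.1) (B DN p.1.2) y (z p) := rfl

theorem D_actK (n : ℕ) (y : R ⊗[k] S) (z : Kun.K k (A DM) (B DN) n) :
    Kun.D (dA DM) (dB DN) n (actK DM DN n y z) =
      actK DM DN (n + 1) y (Kun.D (dA DM) (dB DN) n z) :=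
  Kun.D_comm (dA := dA DM) (dB := dB DN) (fun i j => GrSeg.act k R S (A DM i) (B DN j) y)
    (fun i j w => tmap_act (f := DM.d i) (g := LinearMap.id (R := S) (M := B DN j)) y w)
    (fun i j w => tmap_act (f := LinearMap.id (R := R) (M := A DM i)) (g := DN.d j) y w) n z

theorem D_diag (n : ℕ) (z : Kun.K k (A DM) (B DN) n) :
    Kun.D (dA DM) (dB DN) n
        (fun p => Segre.diag 𝒜 ℬ (DM.C p.1.1).gr (DN.C p.1.2).gr (z p)) =
      fun q => Segre.diag 𝒜 ℬ (DM.C q.1.1).gr (DN.C q.1.2).gr (Kun.D (dA DM) (dB DN) n z q) :=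
  Kun.D_comm (dA := dA DM) (dB := dB DN)
    (fun i j => Segre.diag 𝒜 ℬ (DM.C i).gr (DN.C j).gr)
    (fun i j w => tmap_diag (DM.d_grHom i) (g := LinearMap.id) (fun _ _ h => h) w)
    (fun i j w => tmap_diag (f := LinearMap.id) (fun _ _ h => h) (DN.d_grHom j) w) n z

/-- The differential. -/
noncomputable def d (n : ℕ) : (C hT DM DN n).carrier →ₗ[T] (C hT DM DN (n + 1)).carrier where
  toFun z := fun q => Dg.mk hT (Kun.D (dA DM) (dB DN) n (incl hT DM DN n z) q)
    (Kun.D_mem (fun i j => dgSub (DM.C i) (DN.C j))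
      (fun i j w hw => Dg.tmap_mem (DM.d_grHom i) (g := LinearMap.id) (fun _ _ h => h) hw)
      (fun i j w hw => Dg.tmap_mem (f := LinearMap.id) (fun _ _ h => h) (DN.d_grHom j) hw)
      n _ (fun p => Dg.val_mem hT _) q)
  map_add' a b := funext fun q => Dg.val_injective hT (by
    show Kun.D (dA DM) (dB DN) n (incl hT DM DN n a + incl hT DM DN n b) q =
      Kun.D (dA DM) (dB DN) n (incl hT DM DN n a) q + Kun.D (dA DM) (dB DN) n (incl hT DM DN n b) q
    rw [map_add]
    rfl)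
  map_smul' t a := funext fun q => Dg.val_injective hT (by
    show Kun.D (dA DM) (dB DN) n (actK DM DN n (ψ t) (incl hT DM DN n a)) q = _
    rw [D_actK]
    rfl)

theorem incl_d (n : ℕ) (z : (C hT DM DN n).carrier) :
    incl hT DM DN (n + 1) (d hT DM DN n z) = Kun.D (dA DM) (dB DN) n (incl hT DM DN n z) := rfl

theorem incl_zero (n : ℕ) : incl hT DM DN n (0 : (C hT DM DN n).carrier) = 0 :=
  map_zero (incl hT DM DN n)

theorem mem_range_d {n : ℕ} {z : (C hT DM DN (n + 1)).carrier}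
    (hz : incl hT DM DN (n + 1) z ∈ LinearMap.range (Kun.D (dA DM) (dB DN) n)) :
    z ∈ LinearMap.range (d hT DM DN n) := by
  obtain ⟨w, hw⟩ := hz
  refine ⟨fun p => Dg.mk hT _ (diag_mem_dgSub (w p)), incl_injective hT DM DN _ ?_⟩
  rw [incl_d]
  show Kun.D (dA DM) (dB DN) n
    (fun p => Segre.diag 𝒜 ℬ (DM.C p.1.1).gr (DN.C p.1.2).gr (w p)) = _
  rw [D_diag, hw]
  exact funext fun q => mem_dgSub.1 (Dg.val_mem hT (z q))

/-- The product of the augmentations. -/
noncomputable def augT : M ⊗[k] N →ₗ[k] A DM 0 ⊗[k] B DN 0 :=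
  TensorProduct.map (DM.aug.restrictScalars k) (DN.aug.restrictScalars k)

theorem augT_tmul (m : M) (n : N) : augT DM DN (m ⊗ₜ[k] n) = DM.aug m ⊗ₜ[k] DN.aug n := rfl

theorem augT_act (y : R ⊗[k] S) (z : M ⊗[k] N) :
    augT DM DN (GrSeg.act k R S M N y z) =
      GrSeg.act k R S (A DM 0) (B DN 0) y (augT DM DN z) := by
  induction y using TensorProduct.induction_on with
  | zero => simp
  | add a b ha hb => simp [ha, hb]
  | tmul r s =>
    induction z using TensorProduct.induction_on with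
    | zero => simp
    | add a b ha hb => simp [ha, hb]
    | tmul m n => simp [GrSeg.act_tmul, augT_tmul]

theorem augT_diag (z : M ⊗[k] N) :
    augT DM DN (Segre.diag 𝒜 ℬ ℳ 𝒩 z) =
      Segre.diag 𝒜 ℬ (DM.C 0).gr (DN.C 0).gr (augT DM DN z) := by
  induction z using Segre.induction_homogeneous ℳ 𝒩 with
  | h0 => simp
  | hadd a b ha hb => simp [ha, hb]
  | h i j m hm n hn =>
    rw [Segre.diag_tmul 𝒜 ℬ _ _ hm hn, augT_tmul,
      Segre.diag_tmul 𝒜 ℬ _ _ (DM.aug_grHom i m hm) (DN.aug_grHom j n hn)]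
    split <;> simp [augT_tmul]

theorem augT_mem_piece {g : ℤ} {z : M ⊗[k] N} (hz : z ∈ GrSeg.segrePiece k ℳ 𝒩 g) :
    augT DM DN z ∈ GrSeg.segrePiece k (DM.C 0).gr (DN.C 0).gr g := by
  induction hz using Submodule.span_induction with
  | zero => rw [map_zero]; exact zero_mem _
  | add a b _ _ ha hb => rw [map_add]; exact add_mem ha hb
  | smul c a _ ha => rw [map_smul]; exact Submodule.smul_mem _ c ha
  | mem w hw =>
    obtain ⟨m, hm, n, hn, rfl⟩ := hw
    exact Submodule.subset_span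
      ⟨_, DM.aug_grHom g m hm, _, DN.aug_grHom g n hn, augT_tmul DM DN m n⟩

/-- The inclusion of the term of bidegree zero. -/
theorem D_single_augT (z : M ⊗[k] N) :
    Kun.D (dA DM) (dB DN) 0
      (Pi.single (Kun.Idx.mk' 0 0 rfl) (augT DM DN z) : Kun.K k (A DM) (B DN) 0) = 0 := by
  induction z using TensorProduct.induction_on with
  | zero => rw [map_zero, Pi.single_zero, map_zero]
  | add a b ha hb => rw [map_add, Pi.single_add, map_add, ha, hb, add_zero]
  | tmul m n =>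
    rw [augT_tmul]
    exact Kun.D_eq_zero_of_tmul (dA_dA DM) (dB_dB DN) (rfl : 0 + 0 = 0) (DM.d_aug m) (DN.d_aug n)

variable {P : Type u} [AddCommGroup P] [Module T P] [Module k P] [IsScalarTower k T P]
  {τQ : Type u} [SetLike τQ P] [AddSubgroupClass τQ P] {𝒬 : ℤ → τQ} [DirectSum.Decomposition 𝒬]
  [SetLike.GradedSMul 𝒯 𝒬] {φ : P →ₗ[k] M ⊗[k] N} (hP : GrSeg.IsSegreMod ψ ℳ 𝒩 𝒬 φ)

include hP in
theorem augT_phi_mem (p : P) : augT DM DN (φ p) ∈ dgSub (DM.C 0) (DN.C 0) := by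
  rw [mem_dgSub, ← augT_diag, Segre.diag_image 𝒜 ℬ ℳ 𝒩 hP.image_piece p]

/-- The augmentation into the corner. -/
noncomputable def aug00 : P →ₗ[T] Dg hT (DM.C 0) (DN.C 0) where
  toFun p := Dg.mk hT (augT DM DN (φ p)) (augT_phi_mem DM DN hP p)
  map_add' a b := Dg.val_injective hT (by simp)
  map_smul' t a := Dg.val_injective hT (by simp [Dg.val_smul, hP.map_smul, augT_act])

/-- The augmentation. -/
noncomputable def aug : P →ₗ[T] (C hT DM DN 0).carrier :=
  LinearMap.single T (fun p : Kun.Idx 0 => Dg hT (DM.C p.1.1) (DN.C p.1.2))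
    (Kun.Idx.mk' 0 0 rfl) ∘ₗ aug00 hT DM DN hP

theorem incl_aug (p : P) :
    incl hT DM DN 0 (aug hT DM DN hP p) = Pi.single (Kun.Idx.mk' 0 0 rfl) (augT DM DN (φ p)) := by
  funext q
  show Dg.val hT (aug hT DM DN hP p q) = _
  by_cases he : q = Kun.Idx.mk' 0 0 rfl
  · subst he
    simp [aug, aug00]
    rfl
  · exact ((congrArg (Dg.val hT) (Pi.single_eq_of_ne he _)).trans (map_zero _)).trans
      (Pi.single_eq_of_ne (M := fun r : Kun.Idx 0 => A DM r.1.1 ⊗[k] B DN r.1.2) he _).symm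

include hT in
/-- Being carried into a subspace by powers gives being carried into it by a power of the ideal. -/
theorem exists_pow_of_tors (hmR : ∀ n : ℤ, 0 < n → ∀ r ∈ 𝒜 n, r ∈ mR.toIdeal)
    (hmS : ∀ n : ℤ, 0 < n → ∀ s ∈ ℬ n, s ∈ mS.toIdeal)
    (hmT : mT.toIdeal = Ideal.span (⋃ n ∈ Set.Ioi (0 : ℤ), (𝒯 n : Set T)))
    {X V : Type u} [AddCommGroup X] [Module k X] [AddCommGroup V] [Module k V]
    (f : R ⊗[k] S →ₗ[k] X →ₗ[k] V) (W : Submodule k V) {x : X}
    (hx : x ∈ tors f mR.toIdeal mS.toIdeal W) :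
    ∃ L : ℕ, ∀ t ∈ mT.toIdeal ^ L, f (ψ t) x ∈ W := by
  obtain ⟨L, hL⟩ := hx
  exact ⟨L, fun t ht => apply_mem_of_pw ((LinearMap.applyₗ x) ∘ₗ f) W hL
    (psi_mem_pw hT hmR hmS hmT L t ht)⟩

theorem bd_le_tors (n : ℕ) :
    Kun.bd (Kun.D (dA DM) (dB DN)) n ≤
      tors (actK DM DN n) mR.toIdeal mS.toIdeal (Kun.bd (Kun.D (dA DM) (dB DN)) n) := by
  intro z hz
  refine ⟨0, fun r _ s _ => ?_⟩
  cases n with
  | zero => rw [(Submodule.mem_bot k).1 hz, map_zero]; exact zero_mem _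
  | succ n =>
    obtain ⟨w, rfl⟩ := hz
    exact ⟨actK DM DN n (r ⊗ₜ[k] s) w, D_actK DM DN n _ w⟩

theorem actK_single (n : ℕ) (q : Kun.Idx n) (r : R) (s : S) (u : A DM q.1.1) (v : B DN q.1.2) :
    actK DM DN n (r ⊗ₜ[k] s) (Pi.single q (u ⊗ₜ[k] v)) = Pi.single q ((r • u) ⊗ₜ[k] (s • v)) := by
  funext p
  rw [actK_apply]
  by_cases he : p = q
  · subst he; rw [Pi.single_eq_same, Pi.single_eq_same, GrSeg.act_tmul]
  · rw [Pi.single_eq_of_ne he, Pi.single_eq_of_ne he, map_zero]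

theorem cocycle_mem_tors {n : ℕ} {z : Kun.K k (A DM) (B DN) (n + 1)}
    (hz : Kun.D (dA DM) (dB DN) (n + 1) z = 0) :
    z ∈ tors (actK DM DN (n + 1)) mR.toIdeal mS.toIdeal
      (Kun.bd (Kun.D (dA DM) (dB DN)) (n + 1)) := by
  refine Kun.mem_of_single (dA_dA DM) (dB_dB DN) _ (bd_le_tors DM DN (n + 1)) ?_ hz
  intro i j h u v hu hv
  rcases i with _ | i
  · obtain rfl : j = n + 1 := by omega
    obtain ⟨L, hL⟩ := DN.tor_succ n v hv
    refine ⟨L, fun r _ s hs => ?_⟩
    rw [actK_single DM DN (n + 1) (Kun.Idx.mk' 0 (n + 1) h) r s u v]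
    refine Kun.single_mem_bd (dA_dA DM) (dB_dB DN) h ?_ ?_ (Or.inr (hL s hs))
    · show DM.d 0 (r • u) = 0
      rw [map_smul, show DM.d 0 u = 0 from hu, smul_zero]
    · show DN.d (n + 1) (s • v) = 0
      rw [map_smul, show DN.d (n + 1) v = 0 from hv, smul_zero]
  · obtain ⟨L, hL⟩ := DM.tor_succ i u hu
    refine ⟨L, fun r hr s _ => ?_⟩
    rw [actK_single DM DN (n + 1) (Kun.Idx.mk' (i + 1) j h) r s u v]
    refine Kun.single_mem_bd (dA_dA DM) (dB_dB DN) h ?_ ?_ (Or.inl (hL r hr))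
    · show DM.d (i + 1) (r • u) = 0
      rw [map_smul, show DM.d (i + 1) u = 0 from hu, smul_zero]
    · show DN.d j (s • v) = 0
      rw [map_smul, show DN.d j v = 0 from hv, smul_zero]

theorem cocycle_mem_tors_zero {z : Kun.K k (A DM) (B DN) 0}
    (hz : Kun.D (dA DM) (dB DN) 0 z = 0) :
    z ∈ tors (actK DM DN 0) mR.toIdeal mS.toIdeal
      (LinearMap.range (LinearMap.single k (fun p : Kun.Idx 0 => A DM p.1.1 ⊗[k] B DN p.1.2)
        (Kun.Idx.mk' 0 0 rfl) ∘ₗ augT DM DN)) := by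
  refine Kun.mem_of_single (dA_dA DM) (dB_dB DN) _ ?_ ?_ hz
  · show (⊥ : Submodule k _) ≤ _
    exact bot_le
  intro i j h u v hu hv
  obtain ⟨rfl, rfl⟩ : i = 0 ∧ j = 0 := by omega
  obtain ⟨L, hL⟩ := DM.tor_zero u hu
  obtain ⟨L', hL'⟩ := DN.tor_zero v hv
  refine ⟨L + L', fun r hr s hs => ?_⟩
  obtain ⟨m, hm⟩ := hL r (Ideal.pow_le_pow_right (Nat.le_add_right L L') hr)
  obtain ⟨n, hn⟩ := hL' s (Ideal.pow_le_pow_right (Nat.le_add_left L' L) hs)
  rw [actK_single DM DN 0 (Kun.Idx.mk' 0 0 h) r s u v]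
  exact ⟨m ⊗ₜ[k] n, by simp [augT_tmul, hm, hn]⟩

/-- The Segre product of two resolutions up to torsion is a resolution up to torsion. -/
noncomputable def segRes (hmR : ∀ n : ℤ, 0 < n → ∀ r ∈ 𝒜 n, r ∈ mR.toIdeal)
    (hmS : ∀ n : ℤ, 0 < n → ∀ s ∈ ℬ n, s ∈ mS.toIdeal)
    (hmT : mT.toIdeal = Ideal.span (⋃ n ∈ Set.Ioi (0 : ℤ), (𝒯 n : Set T)))
    {D : ℤ} (hD : 0 < D) (hbM : ∀ i, IsBij D (DM.C i)) (hbN : ∀ j, IsBij D (DN.C j)) :
    TorRes mT 𝒬 where
  C := C hT DM DN
  d := d hT DM DN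
  aug := aug hT DM DN hP
  d_grHom n g z hz := (mem_piPc _).2 fun q => by
    show Kun.D (dA DM) (dB DN) n (incl hT DM DN n z) q ∈
      GrSeg.segrePiece k (DM.C q.1.1).gr (DN.C q.1.2).gr g
    exact Kun.D_mem (fun i j => GrSeg.segrePiece k (DM.C i).gr (DN.C j).gr g)
      (fun i j w hw => tmap_mem_piece (DM.d_grHom i) (g := LinearMap.id) (fun _ _ h => h) hw)
      (fun i j w hw => tmap_mem_piece (f := LinearMap.id) (fun _ _ h => h) (DN.d_grHom j) hw)
      n _ (fun p => (mem_piPc _).1 hz p) q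
  aug_grHom g p hp := (mem_piPc _).2 fun q => by
    by_cases he : q = Kun.Idx.mk' 0 0 rfl
    · subst he
      show Dg.val hT (aug hT DM DN hP p (Kun.Idx.mk' 0 0 rfl)) ∈ GrSeg.segrePiece k (DM.C 0).gr (DN.C 0).gr g
      have h := congrFun (incl_aug hT DM DN hP p) (Kun.Idx.mk' 0 0 rfl)
      rw [Pi.single_eq_same] at h
      rw [show Dg.val hT (aug hT DM DN hP p (Kun.Idx.mk' 0 0 rfl)) = augT DM DN (φ p) from h]
      refine augT_mem_piece DM DN ?_
      have : φ p ∈ (GrSeg.segrePiece k ℳ 𝒩 g : Set (M ⊗[k] N)) := by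
        rw [← hP.image_piece g]; exact ⟨p, hp, rfl⟩
      exact this
    · rw [show aug hT DM DN hP p q = 0 from Pi.single_eq_of_ne he _]
      exact zero_mem _
  d_aug p := incl_injective hT DM DN 1 (by
    rw [incl_d, incl_aug, D_single_augT, incl_zero])
  d_d n z := incl_injective hT DM DN (n + 2) (by
    rw [incl_d, incl_d, Kun.D_D (dA_dA DM) (dB_dB DN), incl_zero])
  ta n := TA.pi _ _ (LinearEquiv.refl T _) fun p => by
    refine ta_dgMod hT (J := mT.toIdeal) (fun t ht => Ideal.le_radical ?_) (hbM p.1.1) (hbN p.1.2)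
    rw [hmT]
    exact Ideal.subset_span (Set.mem_iUnion₂.2 ⟨D, hD, ht⟩)
  tor_aug p hp := by
    have h0 : augT DM DN (φ p) = 0 := by
      have := congrFun ((incl_aug hT DM DN hP p).symm.trans ((congrArg _ hp).trans (map_zero _)))
        (Kun.Idx.mk' 0 0 rfl)
      rwa [Pi.single_eq_same] at this
    have hmem : φ p ∈ tors (GrSeg.act k R S M N) mR.toIdeal mS.toIdeal (⊥ : Submodule k _) := by
      refine mem_of_map_eq_zero (DM.aug.restrictScalars k) (DN.aug.restrictScalars k) _ ?_ ?_ h0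
      · intro u v hu
        obtain ⟨L, hL⟩ := DM.tor_aug u hu
        exact ⟨L, fun r hr s _ => by simp [GrSeg.act_tmul, hL r hr]⟩
      · intro u v hv
        obtain ⟨L, hL⟩ := DN.tor_aug v hv
        exact ⟨L, fun r _ s hs => by simp [GrSeg.act_tmul, hL s hs]⟩
    obtain ⟨L, hL⟩ := exists_pow_of_tors hT hmR hmS hmT _ _ hmem
    exact ⟨L, fun t ht => hP.injective (by
      rw [hP.map_smul, map_zero]; exact (Submodule.mem_bot k).1 (hL t ht))⟩
  tor_zero z hz := by
    have hz' : Kun.D (dA DM) (dB DN) 0 (incl hT DM DN 0 z) = 0 := by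
      rw [← incl_d, hz, incl_zero]
    obtain ⟨L, hL⟩ := exists_pow_of_tors hT hmR hmS hmT _ _ (cocycle_mem_tors_zero DM DN hz')
    refine ⟨L, fun t ht => ?_⟩
    obtain ⟨w, hw⟩ := hL t ht
    obtain ⟨p, hp⟩ := Segre.diag_mem_range 𝒜 ℬ ℳ 𝒩 hP.image_piece w
    refine ⟨p, incl_injective hT DM DN 0 (funext fun q => ?_)⟩
    obtain ⟨⟨i, j⟩, hq⟩ := q
    have h : i + j = 0 := Finset.HasAntidiagonal.mem_antidiagonal.1 hq
    obtain ⟨rfl, rfl⟩ : i = 0 ∧ j = 0 := by omega
    show incl hT DM DN 0 (aug hT DM DN hP p) (Kun.Idx.mk' 0 0 h) =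
      GrSeg.act k R S (A DM 0) (B DN 0) (ψ t) (incl hT DM DN 0 z (Kun.Idx.mk' 0 0 h))
    have hw' : augT DM DN w =
        GrSeg.act k R S (A DM 0) (B DN 0) (ψ t) (incl hT DM DN 0 z (Kun.Idx.mk' 0 0 h)) := by
      have := congrFun hw (Kun.Idx.mk' 0 0 rfl)
      simpa [actK_apply] using this
    rw [incl_aug, Pi.single_eq_same, hp, augT_diag, hw']
    exact mem_dgSub.1 (act_mem_dgSub hT t (Dg.val_mem hT _))
  tor_succ n z hz := by
    have hz' : Kun.D (dA DM) (dB DN) (n + 1) (incl hT DM DN (n + 1) z) = 0 := by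
      rw [← incl_d, hz, incl_zero]
    obtain ⟨L, hL⟩ := exists_pow_of_tors hT hmR hmS hmT _ _ (cocycle_mem_tors DM DN hz')
    exact ⟨L, fun t ht => mem_range_d hT DM DN (hL t ht)⟩

end SegreK

end Groth.Misc15.SegLC
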