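import Mathlib
import Groth.Agent.Misc15.SegLC.SegreK
import Groth.Agent.Misc15.SegLC.Pieces
import Groth.Agent.Misc15.GrRegSeq

/-!
Dimensions of the pieces of the local cohomology of a Segre product.
-/

set_option autoImplicit false

universe u

open scoped TensorProduct
open DirectSum GrLC

namespace Groth.Misc15.SegLC

variable {k : Type u} [Field k]

namespace Kun

variable {A : ℕ → Type u} [∀ n, AddCommGroup (A n)] [∀ n, Module k (A n)]
  {B : ℕ → Type u} [∀ n, AddCommGroup (B n)] [∀ n, Module k (B n)]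
  {A' : ℕ → Type u} [∀ n, AddCommGroup (A' n)] [∀ n, Module k (A' n)]
  {B' : ℕ → Type u} [∀ n, AddCommGroup (B' n)] [∀ n, Module k (B' n)]
  {dA : ∀ n, A n →ₗ[k] A (n + 1)} {dB : ∀ n, B n →ₗ[k] B (n + 1)}
  {dA' : ∀ n, A' n →ₗ[k] A' (n + 1)} {dB' : ∀ n, B' n →ₗ[k] B' (n + 1)}

/-- The differential is natural in maps of complexes. -/
theorem D_natural (f : ∀ n, A n →ₗ[k] A' n) (g : ∀ n, B n →ₗ[k] B' n)
    (hf : ∀ n, dA' n ∘ₗ f n = f (n + 1) ∘ₗ dA n) (hg : ∀ n, dB' n ∘ₗ g n = g (n + 1) ∘ₗ dB n)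
    (n : ℕ) (z : K k A B n) :
    D dA' dB' n (fun p => TensorProduct.map (f p.1.1) (g p.1.2) (z p)) =
      fun q => TensorProduct.map (f q.1.1) (g q.1.2) (D dA dB n z q) := by
  funext q
  obtain ⟨⟨i, j⟩, hq⟩ := q
  have h : i + j = n + 1 := Finset.HasAntidiagonal.mem_antidiagonal.1 hq
  show D dA' dB' n _ (Idx.mk' i j h) = TensorProduct.map (f i) (g j) (D dA dB n z (Idx.mk' i j h))
  rw [D_apply, D_apply, map_add]
  congr 1
  · rcases i with _ | i
    · exact (map_zero (TensorProduct.map (f 0) (g j))).symm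
    · show TensorProduct.map (dA' i) LinearMap.id (TensorProduct.map (f i) (g j)
        (z (Idx.mk' i j (by omega)))) = TensorProduct.map (f (i + 1)) (g j)
        (TensorProduct.map (dA i) LinearMap.id (z (Idx.mk' i j (by omega))))
      rw [TensorProduct.map_map, TensorProduct.map_map, hf, LinearMap.id_comp, LinearMap.comp_id]
  · rcases j with _ | j
    · exact (map_zero (TensorProduct.map (f i) (g 0))).symm
    · show (-1 : k) ^ i • TensorProduct.map LinearMap.id (dB' j) (TensorProduct.map (f i) (g j)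
        (z (Idx.mk' i j (by omega)))) = TensorProduct.map (f i) (g (j + 1))
        ((-1 : k) ^ i • TensorProduct.map LinearMap.id (dB j) (z (Idx.mk' i j (by omega))))
      rw [map_smul, TensorProduct.map_map, TensorProduct.map_map, hg, LinearMap.id_comp,
        LinearMap.comp_id]

variable {C : ℕ → Type u} [∀ n, AddCommGroup (C n)] [∀ n, Module k (C n)]
  {dC : ∀ n, C n →ₗ[k] C (n + 1)}

/-- An isomorphism of complexes induces isomorphisms on cohomology. -/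
theorem nonempty_H_congr (e : ∀ n, A n ≃ₗ[k] C n) (h : ∀ n x, dC n (e n x) = e (n + 1) (dA n x))
    (n : ℕ) : Nonempty (H dA n ≃ₗ[k] H dC n) := by
  have hk : (LinearMap.ker (dA n)).map (e n).toLinearMap = LinearMap.ker (dC n) := by
    ext y
    constructor
    · rintro ⟨x, hx, rfl⟩
      rw [LinearMap.mem_ker, LinearEquiv.coe_coe, h, show dA n x = 0 from hx, map_zero]
    · intro hy
      refine ⟨(e n).symm y, ?_, (e n).apply_symm_apply y⟩
      refine LinearMap.mem_ker.2 ((e (n + 1)).injective ?_)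
      rw [← h, LinearEquiv.apply_symm_apply, map_zero]
      exact hy
  refine ⟨Submodule.Quotient.equiv _ _ ((e n).ofSubmodules _ _ hk) ?_⟩
  ext y
  constructor
  · rintro ⟨x, hx, rfl⟩
    cases n with
    | zero =>
      refine (Submodule.mem_bot k).2 ?_
      show e 0 (x : A 0) = 0
      rw [show (x : A 0) = 0 from (Submodule.mem_bot k).1 hx, map_zero]
    | succ n =>
      obtain ⟨w, hw⟩ := hx
      exact ⟨e n w, (h n w).trans (congrArg (e (n + 1)) hw)⟩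
  · intro hy
    refine ⟨((e n).ofSubmodules _ _ hk).symm y, ?_, LinearEquiv.apply_symm_apply _ _⟩
    cases n with
    | zero =>
      refine (Submodule.mem_bot k).2 ?_
      show (e 0).symm (y : C 0) = 0
      rw [show (y : C 0) = 0 from (Submodule.mem_bot k).1 hy, map_zero]
    | succ n =>
      obtain ⟨w, hw⟩ := hy
      refine ⟨(e n).symm w, (e (n + 1)).injective ?_⟩
      rw [← h, LinearEquiv.apply_symm_apply]
      show dC n w = e (n + 1) ((e (n + 1)).symm (y : C (n + 1)))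
      rw [LinearEquiv.apply_symm_apply]
      exact hw

end Kun

variable {R : Type u} [CommRing R] [Algebra k R] {𝒜 : ℤ → Submodule k R} [GradedAlgebra 𝒜]

/-- Generators of the irrelevant ideal up to radical in all sufficiently divisible degrees. -/
theorem exists_gens [IsNoetherianRing R] {m : Ideal R}
    (hm : m = Ideal.span (⋃ n ∈ Set.Ioi (0 : ℤ), (𝒜 n : Set R))) :
    ∃ D : ℕ, 0 < D ∧ ∀ l : ℕ, 0 < l → ∃ (c : ℕ) (x : Fin c → R),
      (∀ i, x i ∈ 𝒜 ((D * l : ℕ) : ℤ)) ∧ (∀ i, x i ∈ m) ∧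
        m ≤ (Ideal.span (Set.range x)).radical := by
  classical
  have hfg : (Submodule.span R (⋃ n ∈ Set.Ioi (0 : ℤ), (𝒜 n : Set R))).FG :=
    IsNoetherian.noetherian _
  obtain ⟨s, hs, hspan⟩ := (Submodule.fg_span_iff_fg_span_finset_subset _).1 hfg
  have hdeg : ∀ z : s, ∃ d : ℕ, 0 < d ∧ (z : R) ∈ 𝒜 (d : ℤ) := by
    intro z
    obtain ⟨n, hn, hzn⟩ := Set.mem_iUnion₂.1 (hs z.2)
    have hn' : (0 : ℤ) < n := hn
    exact ⟨n.toNat, by omega, by rwa [Int.toNat_of_nonneg hn'.le]⟩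
  choose d hd hdm using hdeg
  refine ⟨∏ z, d z, Finset.prod_pos fun z _ => hd z, fun l hl => ?_⟩
  have hdvd : ∀ z, d z ∣ (∏ z, d z) * l := fun z =>
    Dvd.dvd.mul_right (Finset.dvd_prod_of_mem _ (Finset.mem_univ z)) l
  let x : s → R := fun z => (z : R) ^ ((∏ z, d z) * l / d z)
  have hxmem : ∀ z, x z ∈ 𝒜 (((∏ z, d z) * l : ℕ) : ℤ) := fun z => by
    have := SetLike.pow_mem_graded ((∏ z, d z) * l / d z) (hdm z)
    rwa [nsmul_eq_mul, ← Nat.cast_mul, Nat.div_mul_cancel (hdvd z)] at this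
  have hpos : 0 < (∏ z, d z) * l := Nat.mul_pos (Finset.prod_pos fun z _ => hd z) hl
  refine ⟨Fintype.card s, x ∘ (Fintype.equivFin s).symm, fun i => hxmem _, fun i => ?_, ?_⟩
  · rw [hm]
    exact Ideal.subset_span (Set.mem_iUnion₂.2
      ⟨_, Set.mem_Ioi.2 (by exact_mod_cast hpos), hxmem _⟩)
  · rw [hm]
    show Submodule.span R _ ≤ _
    rw [hspan, Submodule.span_le]
    intro z hz
    refine ⟨(∏ z, d z) * l / d ⟨z, hz⟩, Ideal.subset_span ⟨Fintype.equivFin s ⟨z, hz⟩, ?_⟩⟩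
    simp [x]

/-- The terms of the resolution by localisations split into summands with bijective elements. -/
theorem isBij_step {c : ℕ} (x : Fin c → R) {e : ℤ} (hx : ∀ i, x i ∈ 𝒜 e) (W : GMod.{u} 𝒜) :
    IsBij e (step x hx W) := by
  classical
  refine ⟨Fin c, inferInstance, fun i => lcMod (x i) (hx i) W, x,
    fun i => (LinearMap.proj i : (∀ i, Lc (x i) W) →ₗ[R] Lc (x i) W),
    fun i => (LinearMap.single R (fun i => Lc (x i) W) i),
    fun i g v hv => (mem_piPc _).1 hv i, fun i g v hv => (mem_piPc _).2 fun j => ?_,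
    fun v => Finset.univ_sum_single v, hx, fun i => smul_lc_bijective (x i) W⟩
  show (Pi.single i v : ∀ j, Lc (x j) W) j ∈ _
  rcases eq_or_ne j i with rfl | h
  · rw [Pi.single_eq_same]; exact hv
  · rw [Pi.single_eq_of_ne h]; exact zero_mem _

variable {S : Type u} [CommRing S] [Algebra k S] {ℬ : ℤ → Submodule k S} [GradedAlgebra ℬ]
variable {T : Type u} [CommRing T] [Algebra k T] {𝒯 : ℤ → Submodule k T} [GradedAlgebra 𝒯]
variable {ψ : T →ₐ[k] R ⊗[k] S} (hT : GrSeg.IsSegreRing 𝒜 ℬ 𝒯 ψ)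
variable {mR : HomogeneousIdeal 𝒜} {mS : HomogeneousIdeal ℬ} {mT : HomogeneousIdeal 𝒯}
variable {M : Type u} [AddCommGroup M] [Module R M] [Module k M] [IsScalarTower k R M]
  {τ : Type u} [SetLike τ M] [AddSubgroupClass τ M] {ℳ : ℤ → τ} [DirectSum.Decomposition ℳ]
  [SetLike.GradedSMul 𝒜 ℳ]
variable {N : Type u} [AddCommGroup N] [Module S N] [Module k N] [IsScalarTower k S N]
  {τ' : Type u} [SetLike τ' N] [AddSubgroupClass τ' N] {𝒩 : ℤ → τ'} [DirectSum.Decomposition 𝒩]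
  [SetLike.GradedSMul ℬ 𝒩]
variable {P : Type u} [AddCommGroup P] [Module T P] [Module k P] [IsScalarTower k T P]
  {τQ : Type u} [SetLike τQ P] [AddSubgroupClass τQ P] {𝒬 : ℤ → τQ} [DirectSum.Decomposition 𝒬]
  [SetLike.GradedSMul 𝒯 𝒬] {φ : P →ₗ[k] M ⊗[k] N} (hP : GrSeg.IsSegreMod ψ ℳ 𝒩 𝒬 φ)

section Gluing

variable (DM : TorRes mR ℳ) (DN : TorRes mS 𝒩)

/-- The tensor product of the inclusions of two pieces. -/
noncomputable def incl2 {X : Type u} [AddCommGroup X] [Module k X] {Y : Type u} [AddCommGroup Y]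
    [Module k Y] (U : Submodule k X) (V : Submodule k Y) : U ⊗[k] V →ₗ[k] X ⊗[k] Y :=
  TensorProduct.map U.subtype V.subtype

theorem incl2_injective {X : Type u} [AddCommGroup X] [Module k X] {Y : Type u} [AddCommGroup Y]
    [Module k Y] (U : Submodule k X) (V : Submodule k Y) : Function.Injective (incl2 U V) :=
  TensorProduct.map_injective_of_flat_flat _ _ Subtype.val_injective Subtype.val_injective

theorem range_incl2 {X : Type u} [AddCommGroup X] [Module k X] {Y : Type u} [AddCommGroup Y]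
    [Module k Y] {τ₁ τ₂ : Type u} [SetLike τ₁ X] [SetLike τ₂ Y] {𝒳 : ℤ → τ₁} {𝒴 : ℤ → τ₂} {g : ℤ}
    (U : Submodule k X) (V : Submodule k Y) (hU : ∀ x, x ∈ U ↔ x ∈ 𝒳 g)
    (hV : ∀ y, y ∈ V ↔ y ∈ 𝒴 g) :
    LinearMap.range (incl2 U V) = GrSeg.segrePiece k 𝒳 𝒴 g := by
  refine le_antisymm ?_ ?_
  · rintro _ ⟨w, rfl⟩
    induction w using TensorProduct.induction_on with
    | zero => rw [map_zero]; exact zero_mem _
    | add a b ha hb => rw [map_add]; exact add_mem ha hb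
    | tmul u v => exact Submodule.subset_span ⟨u, (hU _).1 u.2, v, (hV _).1 v.2, rfl⟩
  · refine Submodule.span_le.2 ?_
    rintro _ ⟨u, hu, v, hv, rfl⟩
    exact ⟨(⟨u, (hU _).2 hu⟩ : U) ⊗ₜ[k] (⟨v, (hV _).2 hv⟩ : V), rfl⟩

include hP in
theorem phi_mem (g : ℤ) (p : P) (hp : p ∈ 𝒬 g) :
    φ p ∈ LinearMap.range (incl2 (Groth.GrDualH.piece 𝒜 ℳ g) (Groth.GrDualH.piece ℬ 𝒩 g)) := by
  rw [range_incl2 (𝒳 := ℳ) (𝒴 := 𝒩) (g := g) _ _ (fun _ => Iff.rfl) (fun _ => Iff.rfl)]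
  show φ p ∈ (GrSeg.segrePiece k ℳ 𝒩 g : Set (M ⊗[k] N))
  rw [← hP.image_piece g]
  exact ⟨p, hp, rfl⟩

include hP in
theorem exists_phi_eq (g : ℤ)
    (w : Groth.GrDualH.piece 𝒜 ℳ g ⊗[k] Groth.GrDualH.piece ℬ 𝒩 g) :
    ∃ p ∈ 𝒬 g, φ p = incl2 _ _ w := by
  have : incl2 _ _ w ∈ (GrSeg.segrePiece k ℳ 𝒩 g : Set (M ⊗[k] N)) := by
    rw [SetLike.mem_coe,
      ← range_incl2 (𝒳 := ℳ) (𝒴 := 𝒩) (g := g) (Groth.GrDualH.piece 𝒜 ℳ g)
        (Groth.GrDualH.piece ℬ 𝒩 g) (fun _ => Iff.rfl) (fun _ => Iff.rfl)]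
    exact ⟨w, rfl⟩
  rw [← hP.image_piece g] at this
  obtain ⟨p, hp, hpw⟩ := this
  exact ⟨p, hp, hpw⟩

theorem augT_incl2 (g : ℤ) (w : Groth.GrDualH.piece 𝒜 ℳ g ⊗[k] Groth.GrDualH.piece ℬ 𝒩 g) :
    SegreK.augT DM DN (incl2 _ _ w) =
      incl2 _ _ (TensorProduct.map (augP DM g) (augP DN g) w) := by
  induction w using TensorProduct.induction_on with
  | zero => simp
  | add a b ha hb => simp [ha, hb]
  | tmul u v => rfl

theorem range_piece (X : GMod.{u} 𝒜) (Y : GMod.{u} ℬ) (g : ℤ) :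
    LinearMap.range (incl2 (Groth.GrDualH.piece 𝒜 X.gr g) (Groth.GrDualH.piece ℬ Y.gr g)) =
      GrSeg.segrePiece k X.gr Y.gr g :=
  range_incl2 (𝒳 := X.gr) (𝒴 := Y.gr) (g := g) _ _ (fun _ => Iff.rfl) (fun _ => Iff.rfl)

/-- The inclusion of the complex of pieces into the terms. -/
noncomputable def phiMap (g : ℤ) (n : ℕ) :
    Kun.K k (pC DM g) (pC DN g) n →ₗ[k] ∀ p : Kun.Idx n, Dg hT (DM.C p.1.1) (DN.C p.1.2) :=
  LinearMap.pi fun p =>
    ((incl2 (Groth.GrDualH.piece 𝒜 (DM.C p.1.1).gr g) (Groth.GrDualH.piece ℬ (DN.C p.1.2).gr g) ∘ₗ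
      LinearMap.proj p).codRestrict (dgSub (DM.C p.1.1) (DN.C p.1.2)) fun z =>
        segrePiece_le_dgSub g ((range_piece (DM.C p.1.1) (DN.C p.1.2) g).le ⟨z p, rfl⟩))

theorem incl_phiMap (g : ℤ) (n : ℕ) (z : Kun.K k (pC DM g) (pC DN g) n) :
    SegreK.incl hT DM DN n (phiMap hT DM DN g n z) = fun p => incl2 _ _ (z p) := rfl

theorem phiMap_injective (g : ℤ) (n : ℕ) : Function.Injective (phiMap hT DM DN g n) := fun a b h =>
  funext fun p => incl2_injective _ _ (congrFun (congrArg (SegreK.incl hT DM DN n) h) p)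

theorem D_phiMap (g : ℤ) (n : ℕ) (z : Kun.K k (pC DM g) (pC DN g) n) :
    SegreK.incl hT DM DN (n + 1) (SegreK.d hT DM DN n (phiMap hT DM DN g n z)) =
      SegreK.incl hT DM DN (n + 1)
        (phiMap hT DM DN g (n + 1) (Kun.D (dP DM g) (dP DN g) n z)) := by
  rw [SegreK.incl_d, incl_phiMap, incl_phiMap]
  exact Kun.D_natural (fun i => (Groth.GrDualH.piece 𝒜 (DM.C i).gr g).subtype)
    (fun j => (Groth.GrDualH.piece ℬ (DN.C j).gr g).subtype) (fun i => rfl) (fun j => rfl) n z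

theorem mem_phiMap_range (g : ℤ) (n : ℕ) (y : (SegreK.C hT DM DN n).carrier)
    (hy : y ∈ (SegreK.C hT DM DN n).gr g) :
    ∃ z, phiMap hT DM DN g n z = y := by
  have h1 : ∀ p : Kun.Idx n, Dg.val hT (y p) ∈ LinearMap.range
      (incl2 (Groth.GrDualH.piece 𝒜 (DM.C p.1.1).gr g)
        (Groth.GrDualH.piece ℬ (DN.C p.1.2).gr g)) := fun p => by
    rw [range_piece]
    exact (mem_piPc _).1 hy p
  choose z hz using h1
  exact ⟨z, funext fun p => Dg.val_injective hT (hz p)⟩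

theorem phiMap_mem (g : ℤ) (n : ℕ) (z : Kun.K k (pC DM g) (pC DN g) n) :
    (phiMap hT DM DN g n z : (SegreK.C hT DM DN n).carrier) ∈ (SegreK.C hT DM DN n).gr g :=
  (mem_piPc _).2 fun p => by
    show incl2 _ _ (z p) ∈ GrSeg.segrePiece k (DM.C p.1.1).gr (DN.C p.1.2).gr g
    rw [← range_piece]
    exact ⟨z p, rfl⟩

set_option synthInstance.maxHeartbeats 200000 in
/-- The pieces of the terms are the terms of the complex of pieces. -/
noncomputable def pEquiv (g : ℤ) (n : ℕ) : Kun.K k (pC DM g) (pC DN g) n ≃ₗ[k]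
    Groth.GrDualH.piece 𝒯 (SegreK.C hT DM DN n).gr g :=
  LinearEquiv.ofBijective
    ({ toFun := fun z => ⟨phiMap hT DM DN g n z, phiMap_mem hT DM DN g n z⟩
       map_add' := fun x y => Subtype.ext (map_add (phiMap hT DM DN g n) x y)
       map_smul' := fun c x => Subtype.ext ((map_smul (phiMap hT DM DN g n) c x).trans
        (funext fun p => (algebraMap_smul T c (phiMap hT DM DN g n x p)).symm)) } :
      Kun.K k (pC DM g) (pC DN g) n →ₗ[k] Groth.GrDualH.piece 𝒯 (SegreK.C hT DM DN n).gr g)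
    ⟨fun a b h => phiMap_injective hT DM DN g n (congrArg Subtype.val h), fun y => by
      obtain ⟨z, hz⟩ := mem_phiMap_range hT DM DN g n y.1 y.2
      exact ⟨z, Subtype.ext hz⟩⟩

theorem pEquiv_coe (g : ℤ) (n : ℕ) (z : Kun.K k (pC DM g) (pC DN g) n) :
    ((pEquiv hT DM DN g n z : Groth.GrDualH.piece 𝒯 (SegreK.C hT DM DN n).gr g) :
      (SegreK.C hT DM DN n).carrier) = phiMap hT DM DN g n z := rfl

variable (hmR : ∀ n : ℤ, 0 < n → ∀ r ∈ 𝒜 n, r ∈ mR.toIdeal)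
  (hmS : ∀ n : ℤ, 0 < n → ∀ s ∈ ℬ n, s ∈ mS.toIdeal)
  (hmT : mT.toIdeal = Ideal.span (⋃ n ∈ Set.Ioi (0 : ℤ), (𝒯 n : Set T)))
  {D : ℤ} (hD : 0 < D) (hbM : ∀ i, IsBij D (DM.C i)) (hbN : ∀ j, IsBij D (DN.C j))

variable {EM : StarInjRes 𝒜 ℳ} {EN : StarInjRes ℬ 𝒩} (EP : StarInjRes 𝒯 𝒬)

include hT hP hmR hmS hmT hD hbM hbN in
/-- The isomorphisms computing the local cohomology of a Segre product. -/
theorem segre_pieces [IsNoetherianRing R] [IsNoetherianRing S] [IsNoetherianRing T] (g : ℤ)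
    (hM0 : hPiece EM mR 0 g = ⊥) (hM1 : hPiece EM mR 1 g = ⊥)
    (hN0 : hPiece EN mS 0 g = ⊥) (hN1 : hPiece EN mS 1 g = ⊥) :
    hPiece EP mT 0 g = ⊥ ∧ hPiece EP mT 1 g = ⊥ ∧ ∀ n : ℕ, Nonempty
      ((∀ p : Kun.Idx (n + 1), Kun.H (dP DM g) p.1.1 ⊗[k] Kun.H (dP DN g) p.1.2) ≃ₗ[k]
        hPiece EP mT (n + 2) g) := by
  set DP : TorRes mT 𝒬 := SegreK.segRes hT DM DN hP hmR hmS hmT hD hbM hbN
  have hinjM := (hPiece_zero_eq_bot_iff DM EM g).1 hM0
  have hinjN := (hPiece_zero_eq_bot_iff DN EN g).1 hN0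
  have haug : ∀ p, SegreK.incl hT DM DN 0 (DP.aug p) =
      Pi.single (Kun.Idx.mk' 0 0 rfl) (SegreK.augT DM DN (φ p)) :=
    fun p => SegreK.incl_aug hT DM DN hP p
  refine ⟨(hPiece_zero_eq_bot_iff DP EP g).2 ((injective_iff_map_eq_zero _).2 ?_),
    (hPiece_one_eq_bot_iff DP EP g).2 ?_, fun n => ?_⟩
  · rintro ⟨p, hp⟩ hp0
    obtain ⟨w, hw⟩ := phi_mem (𝒜 := 𝒜) (ℬ := ℬ) hP g p hp
    have h0 : SegreK.augT DM DN (φ p) = 0 := by
      have h1 : DP.aug p = 0 := congrArg Subtype.val hp0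
      have h := congrFun ((haug p).symm.trans ((congrArg (SegreK.incl hT DM DN 0) h1).trans
        (SegreK.incl_zero hT DM DN 0))) (Kun.Idx.mk' 0 0 rfl)
      rw [Pi.single_eq_same] at h
      exact h
    rw [← hw, augT_incl2] at h0
    have hw0 : w = 0 := TensorProduct.map_injective_of_flat_flat _ _ hinjM hinjN
      ((incl2_injective _ _ (h0.trans (map_zero _).symm)).trans (map_zero _).symm)
    exact Subtype.ext (hP.injective (by rw [← hw, hw0, map_zero, ZeroMemClass.coe_zero, map_zero]))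
  · rintro ⟨z, hz⟩ hzk
    obtain ⟨z', hz'⟩ := mem_phiMap_range hT DM DN g 0 z hz
    have hz'D : Kun.D (dP DM g) (dP DN g) 0 z' = 0 := by
      refine phiMap_injective hT DM DN g 1 (SegreK.incl_injective hT DM DN 1 ?_)
      rw [← D_phiMap, hz', map_zero, map_zero]
      have h : SegreK.d hT DM DN 0 z = 0 := congrArg Subtype.val (LinearMap.mem_ker.1 hzk)
      rw [h, SegreK.incl_zero]
    have hkun : z' ∈ LinearMap.range (LinearMap.single k
        (fun p : Kun.Idx 0 => pC DM g p.1.1 ⊗[k] pC DN g p.1.2) (Kun.Idx.mk' 0 0 rfl) ∘ₗ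
          TensorProduct.map (augP DM g) (augP DN g)) := by
      refine Kun.mem_of_single (dP_dP DM g) (dP_dP DN g) _ bot_le ?_ hz'D
      intro i j h u v hu hv
      obtain ⟨rfl, rfl⟩ : i = 0 ∧ j = 0 := by omega
      obtain ⟨m, rfl⟩ := (hPiece_one_eq_bot_iff DM EM g).1 hM1 (LinearMap.mem_ker.2 hu)
      obtain ⟨m', rfl⟩ := (hPiece_one_eq_bot_iff DN EN g).1 hN1 (LinearMap.mem_ker.2 hv)
      exact ⟨m ⊗ₜ[k] m', rfl⟩
    obtain ⟨w, hw⟩ := hkun
    obtain ⟨p, hp, hpw⟩ := exists_phi_eq (𝒜 := 𝒜) (ℬ := ℬ) hP g w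
    refine ⟨⟨p, hp⟩, Subtype.ext ?_⟩
    show DP.aug p = z
    refine SegreK.incl_injective hT DM DN 0 ?_
    rw [← hz', haug, hpw, augT_incl2]
    funext q
    obtain ⟨⟨i, j⟩, hq⟩ := q
    have h : i + j = 0 := Finset.HasAntidiagonal.mem_antidiagonal.1 hq
    obtain ⟨rfl, rfl⟩ : i = 0 ∧ j = 0 := by omega
    have hw' := congrFun hw (Kun.Idx.mk' 0 0 rfl)
    rw [LinearMap.comp_apply, LinearMap.single_apply, Pi.single_eq_same] at hw'
    rw [show (⟨(0, 0), hq⟩ : Kun.Idx 0) = Kun.Idx.mk' 0 0 rfl from rfl, Pi.single_eq_same, hw']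
    rfl
  · obtain ⟨e1⟩ := exists_equiv_succ DP EP g n
    obtain ⟨e2⟩ := Kun.nonempty_H_congr (dA := Kun.D (dP DM g) (dP DN g)) (dC := dP DP g)
      (fun m => pEquiv hT DM DN g m)
      (fun m z => Subtype.ext (SegreK.incl_injective hT DM DN (m + 1) (D_phiMap hT DM DN g m z)))
      (n + 1)
    exact ⟨((Kun.kunneth (dP_dP DM g) (dP_dP DN g) (n + 1)).symm.trans e2).trans e1⟩

end Gluing

end Groth.Misc15.SegLC
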