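import Mathlib
import Groth.Agent.Misc15.SegLC.SegDim

/-!
Local cohomology of a Segre product as a Segre product: the map given by one Künneth component.
-/

set_option autoImplicit false

universe u

open scoped TensorProduct
open DirectSum GrLC

namespace Groth.Misc15.SegLC

variable {k : Type u} [Field k]
variable {R : Type u} [CommRing R] [Algebra k R] {𝒜 : ℤ → Submodule k R} [GradedAlgebra 𝒜]
variable {mR : HomogeneousIdeal 𝒜}
variable {M : Type u} [AddCommGroup M] [Module R M] [Module k M] [IsScalarTower k R M]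
  {τ : Type u} [SetLike τ M] [AddSubgroupClass τ M] {ℳ : ℤ → τ} [DirectSum.Decomposition ℳ]
  [SetLike.GradedSMul 𝒜 ℳ]

/-- A map on a term of a resolution representing its cohomology classes. -/
structure Cls (DM : TorRes mR ℳ) (i : ℕ) {X : Type u} [AddCommGroup X] [Module R X] [Module k X]
    (𝒳 : ℤ → AddSubgroup X) where
  /-- The map. -/
  f : SegreK.A DM i →ₗ[k] X
  smul : ∀ (r : R) u, DM.d i u = 0 → f (r • u) = r • f u
  bd : ∀ u ∈ Kun.bd (SegreK.dA DM) i, f u = 0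
  proj : ∀ u, f (Kun.P (SegreK.dA DM) i u) = f u
  mem : ∀ g u, DM.d i u = 0 → u ∈ (DM.C i).gr g → f u ∈ 𝒳 g
  surj : ∀ g, ∀ x ∈ 𝒳 g, ∃ u, DM.d i u = 0 ∧ u ∈ (DM.C i).gr g ∧ f u = x

/-- The augmentation placed in degree zero. -/
noncomputable def augAt (DM : TorRes mR ℳ) : ∀ i : ℕ, M →ₗ[k] SegreK.A DM i
  | 0 => DM.aug.restrictScalars k
  | _ + 1 => 0

namespace Cls

variable {DM : TorRes mR ℳ} {i : ℕ} {X : Type u} [AddCommGroup X] [Module R X] [Module k X]
  {𝒳 : ℤ → AddSubgroup X} (c : Cls DM i 𝒳)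

/-- The map on cohomology. -/
noncomputable def bar : Kun.H (SegreK.dA DM) i →ₗ[k] X :=
  ((Kun.bd (SegreK.dA DM) i).comap (LinearMap.ker (SegreK.dA DM i)).subtype).liftQ
    (c.f ∘ₗ (LinearMap.ker (SegreK.dA DM i)).subtype) fun _ hu => c.bd _ hu

theorem bar_comp_cls : c.bar ∘ₗ Kun.cls (SegreK.dA DM) (SegreK.dA_dA DM) i = c.f :=
  LinearMap.ext fun u => c.proj u

theorem bar_mk (u : LinearMap.ker (SegreK.dA DM i)) :
    c.bar (Submodule.Quotient.mk u) = c.f u := rfl

theorem comp_d {m : ℕ} (c : Cls DM (m + 1) 𝒳) : c.f ∘ₗ SegreK.dA DM m = 0 :=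
  LinearMap.ext fun u => c.bd _ ⟨u, rfl⟩

end Cls

variable {S : Type u} [CommRing S] [Algebra k S] {ℬ : ℤ → Submodule k S} [GradedAlgebra ℬ]
variable {mS : HomogeneousIdeal ℬ}
variable {N : Type u} [AddCommGroup N] [Module S N] [Module k N] [IsScalarTower k S N]
  {τ' : Type u} [SetLike τ' N] [AddSubgroupClass τ' N] {𝒩 : ℤ → τ'} [DirectSum.Decomposition 𝒩]
  [SetLike.GradedSMul ℬ 𝒩]

section Comp

variable {DM : TorRes mR ℳ} {DN : TorRes mS 𝒩} {i j n : ℕ}
  {X : Type u} [AddCommGroup X] [Module R X] [Module k X] [IsScalarTower k R X]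
  {𝒳 : ℤ → AddSubgroup X} {Y : Type u} [AddCommGroup Y] [Module S Y] [Module k Y]
  [IsScalarTower k S Y] {𝒴 : ℤ → AddSubgroup Y}
  (cM : Cls DM i 𝒳) (cN : Cls DN j 𝒴) (h : i + j = n)

/-- The component of the Künneth map. -/
noncomputable def cmap : Kun.K k (SegreK.A DM) (SegreK.B DN) n →ₗ[k] X ⊗[k] Y :=
  TensorProduct.map cM.f cN.f ∘ₗ Kun.comp i j h

theorem cmap_apply (z : Kun.K k (SegreK.A DM) (SegreK.B DN) n) :
    cmap cM cN h z = TensorProduct.map cM.f cN.f (z (Kun.Idx.mk' i j h)) := rfl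

theorem cmap_bd {z : Kun.K k (SegreK.A DM) (SegreK.B DN) n}
    (hz : z ∈ Kun.bd (Kun.D (SegreK.dA DM) (SegreK.dB DN)) n) : cmap cM cN h z = 0 := by
  cases n with
  | zero => rw [(Submodule.mem_bot k).1 hz, map_zero]
  | succ n =>
    obtain ⟨w, rfl⟩ := hz
    rw [cmap_apply, Kun.D_apply, map_add]
    rcases i with _ | i <;> rcases j with _ | j
    · omega
    all_goals
      simp [Kun.DA, Kun.DB, TensorProduct.map_map, Cls.comp_d, TensorProduct.map_zero_left,
        TensorProduct.map_zero_right, LinearMap.comp_id]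

theorem cmap_single (u : SegreK.A DM i) (v : SegreK.B DN j) :
    cmap cM cN h (Pi.single (Kun.Idx.mk' i j h) (u ⊗ₜ[k] v)) = cM.f u ⊗ₜ[k] cN.f v := by
  rw [cmap_apply, Pi.single_eq_same, TensorProduct.map_tmul]

theorem cmap_single_ne {p : Kun.Idx n} (hp : p ≠ Kun.Idx.mk' i j h)
    (w : SegreK.A DM p.1.1 ⊗[k] SegreK.B DN p.1.2) : cmap cM cN h (Pi.single p w) = 0 := by
  rw [cmap_apply, Pi.single_eq_of_ne hp.symm, map_zero]

theorem cmap_act (y : R ⊗[k] S) {z : Kun.K k (SegreK.A DM) (SegreK.B DN) n}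
    (hz : Kun.D (SegreK.dA DM) (SegreK.dB DN) n z = 0) :
    cmap cM cN h (SegreK.actK DM DN n y z) = GrSeg.act k R S X Y y (cmap cM cN h z) := by
  classical
  let W : Submodule k (Kun.K k (SegreK.A DM) (SegreK.B DN) n) :=
    LinearMap.ker (cmap cM cN h ∘ₗ SegreK.actK DM DN n y - GrSeg.act k R S X Y y ∘ₗ cmap cM cN h)
  suffices hW : z ∈ W by
    exact sub_eq_zero.1 (LinearMap.mem_ker.1 hW)
  refine Kun.mem_of_single (SegreK.dA_dA DM) (SegreK.dB_dB DN) W ?_ ?_ hz
  · intro w hw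
    refine LinearMap.mem_ker.2 ?_
    rw [LinearMap.sub_apply, LinearMap.comp_apply, LinearMap.comp_apply, cmap_bd cM cN h hw,
      map_zero, sub_zero]
    cases n with
    | zero => rw [(Submodule.mem_bot k).1 hw, map_zero, map_zero]
    | succ n =>
      obtain ⟨x, rfl⟩ := hw
      exact cmap_bd cM cN h ⟨SegreK.actK DM DN n y x, SegreK.D_actK DM DN n y x⟩
  · intro a b hab u v hu hv
    refine LinearMap.mem_ker.2 ?_
    rw [LinearMap.sub_apply, sub_eq_zero, LinearMap.comp_apply, LinearMap.comp_apply]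
    induction y using TensorProduct.induction_on with
    | zero => simp
    | add p q hp hq => simp only [map_add, LinearMap.add_apply, hp, hq]
    | tmul r s =>
      rw [SegreK.actK_single DM DN n (Kun.Idx.mk' a b hab) r s u v]
      by_cases he : Kun.Idx.mk' a b hab = Kun.Idx.mk' i j h
      · obtain ⟨rfl, rfl⟩ : a = i ∧ b = j := Prod.mk.inj (congrArg Subtype.val he)
        rw [cmap_single, cmap_single, GrSeg.act_tmul, cM.smul r u hu, cN.smul s v hv]
      · rw [cmap_single_ne cM cN h he, cmap_single_ne cM cN h he, map_zero]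

/-- The image of the augmentation in degree zero. -/
noncomputable def augRange (DM : TorRes mR ℳ) (DN : TorRes mS 𝒩) :
    ∀ n : ℕ, Submodule k (Kun.K k (SegreK.A DM) (SegreK.B DN) n)
  | 0 => LinearMap.range (LinearMap.single k
      (fun p : Kun.Idx 0 => SegreK.A DM p.1.1 ⊗[k] SegreK.B DN p.1.2) (Kun.Idx.mk' 0 0 rfl) ∘ₗ
        SegreK.augT DM DN)
  | _ + 1 => ⊥

theorem cmap_augRange (haug : (∀ m, cM.f (augAt DM i m) = 0) ∨ (∀ m, cN.f (augAt DN j m) = 0))
    {z : Kun.K k (SegreK.A DM) (SegreK.B DN) n} (hz : z ∈ augRange DM DN n) :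
    cmap cM cN h z = 0 := by
  classical
  cases n with
  | succ n => rw [(Submodule.mem_bot k).1 hz, map_zero]
  | zero =>
    obtain ⟨rfl, rfl⟩ : i = 0 ∧ j = 0 := by omega
    obtain ⟨w, rfl⟩ := hz
    rw [cmap_apply, LinearMap.comp_apply, LinearMap.single_apply, Pi.single_eq_same]
    induction w using TensorProduct.induction_on with
    | zero => simp
    | add p q hp hq => simp only [map_add, hp, hq, add_zero]
    | tmul m m' =>
      rw [SegreK.augT_tmul, TensorProduct.map_tmul]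
      rcases haug with ha | ha
      · rw [show cM.f (DM.aug m) = 0 from ha m, TensorProduct.zero_tmul]
      · rw [show cN.f (DN.aug m') = 0 from ha m', TensorProduct.tmul_zero]

end Comp

section Map

variable {T : Type u} [CommRing T] [Algebra k T] {𝒯 : ℤ → Submodule k T} [GradedAlgebra 𝒯]
variable {ψ : T →ₐ[k] R ⊗[k] S} (hT : GrSeg.IsSegreRing 𝒜 ℬ 𝒯 ψ) {mT : HomogeneousIdeal 𝒯}
variable {P : Type u} [AddCommGroup P] [Module T P] [Module k P] [IsScalarTower k T P]
  {τQ : Type u} [SetLike τQ P] [AddSubgroupClass τQ P] {𝒬 : ℤ → τQ} [DirectSum.Decomposition 𝒬]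
  [SetLike.GradedSMul 𝒯 𝒬] {φ : P →ₗ[k] M ⊗[k] N} (hP : GrSeg.IsSegreMod ψ ℳ 𝒩 𝒬 φ)
variable {DM : TorRes mR ℳ} {DN : TorRes mS 𝒩} {i j n : ℕ}
  {X : Type u} [AddCommGroup X] [Module R X] [Module k X] [IsScalarTower k R X]
  {𝒳 : ℤ → AddSubgroup X} {Y : Type u} [AddCommGroup Y] [Module S Y] [Module k Y]
  [IsScalarTower k S Y] {𝒴 : ℤ → AddSubgroup Y}
  (cM : Cls DM i 𝒳) (cN : Cls DN j 𝒴) (h : i + j = n)
variable (hmR : ∀ n : ℤ, 0 < n → ∀ r ∈ 𝒜 n, r ∈ mR.toIdeal)
  (hmS : ∀ n : ℤ, 0 < n → ∀ s ∈ ℬ n, s ∈ mS.toIdeal)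
  (hmT : mT.toIdeal = Ideal.span (⋃ n ∈ Set.Ioi (0 : ℤ), (𝒯 n : Set T)))
  {D : ℤ} (hD : 0 < D) (hbM : ∀ i, IsBij D (DM.C i)) (hbN : ∀ j, IsBij D (DN.C j))
  [IsNoetherianRing T] (EP : StarInjRes 𝒯 𝒬)

include hT hP hmR hmS hmT hD hbM hbN in
/-- Local cohomology of a Segre product as the Segre product given by one component. -/
theorem exists_segreMap_H
    (haug : (∀ m, cM.f (augAt DM i m) = 0) ∨ (∀ m, cN.f (augAt DN j m) = 0))
    (hinj : ∀ z, Kun.D (SegreK.dA DM) (SegreK.dB DN) n z = 0 → cmap cM cN h z = 0 →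
      z ∈ Kun.bd (Kun.D (SegreK.dA DM) (SegreK.dB DN)) n ⊔ augRange DM DN n) :
    ∃ L : EP.H mT (n + 1) →+ X ⊗[k] Y, Function.Injective L ∧
      (∀ g : ℤ, L '' (EP.Hgr mT (n + 1) g : Set (EP.H mT (n + 1))) =
        (GrSeg.segrePiece k 𝒳 𝒴 g : Set (X ⊗[k] Y))) ∧
      ∀ (t : T) x, L (t • x) = GrSeg.act k R S X Y (ψ t) (L x) := by
  classical
  let DP : TorRes mT 𝒬 := SegreK.segRes hT DM DN hP hmR hmS hmT hD hbM hbN
  obtain ⟨φc⟩ := nonempty_compMap EP DP
  let inc : ∀ m, (DP.C m).carrier → Kun.K k (SegreK.A DM) (SegreK.B DN) m :=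
    fun m => SegreK.incl hT DM DN m
  have hcyc : ∀ {m : ℕ} {z : (DP.C m).carrier}, DP.d m z = 0 →
      Kun.D (SegreK.dA DM) (SegreK.dB DN) m (inc m z) = 0 := fun {m z} hz => by
    show Kun.D (SegreK.dA DM) (SegreK.dB DN) m (SegreK.incl hT DM DN m z) = 0
    rw [← SegreK.incl_d]
    exact (congrArg (SegreK.incl hT DM DN (m + 1)) hz).trans (SegreK.incl_zero hT DM DN (m + 1))
  -- the kernel of the class map
  have hker : ∀ z : LinearMap.ker (DP.d n), φc.psi n z = 0 → cmap cM cN h (inc n z) = 0 := by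
    intro z hz
    cases n with
    | zero =>
      obtain ⟨p, hp⟩ := (φc.psi_zero_eq_zero_iff z).1 hz
      refine cmap_augRange cM cN h haug ⟨φ p, ?_⟩
      show _ = SegreK.incl hT DM DN 0 (z : (DP.C 0).carrier)
      rw [← hp]
      exact (SegreK.incl_aug hT DM DN hP p).symm
    | succ n =>
      obtain ⟨w, hw⟩ := (φc.psi_succ_eq_zero_iff n z).1 hz
      refine cmap_bd cM cN h ⟨inc n w, ?_⟩
      show _ = SegreK.incl hT DM DN (n + 1) (z : (DP.C (n + 1)).carrier)
      rw [← hw]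
      exact (SegreK.incl_d hT DM DN n w).symm
  let sec : EP.H mT (n + 1) → LinearMap.ker (DP.d n) := Function.surjInv (φc.psi_surjective n)
  let L0 : EP.H mT (n + 1) → X ⊗[k] Y := fun x => cmap cM cN h (inc n (sec x))
  have hL0 : ∀ (z : LinearMap.ker (DP.d n)) (x), φc.psi n z = x →
      L0 x = cmap cM cN h (inc n z) := by
    intro z x hx
    refine sub_eq_zero.1 ?_
    have h1 := hker (sec x - z) (by
      rw [map_sub, hx, Function.surjInv_eq (φc.psi_surjective n) x, sub_self])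
    rw [← map_sub]
    refine Eq.trans (congrArg _ ?_) h1
    exact (map_sub (SegreK.incl hT DM DN n) _ _).symm
  have hsmul : ∀ (t : T) (x : EP.H mT (n + 1)),
      L0 (t • x) = GrSeg.act k R S X Y (ψ t) (L0 x) := by
    intro t x
    obtain ⟨z, rfl⟩ := φc.psi_surjective n x
    rw [hL0 (t • z) _ (map_smul _ _ _), hL0 z _ rfl, ← cmap_act cM cN h (ψ t) (hcyc z.2)]
    rfl
  have hadd : ∀ x y, L0 (x + y) = L0 x + L0 y := by
    intro x y
    obtain ⟨z, rfl⟩ := φc.psi_surjective n x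
    obtain ⟨w, rfl⟩ := φc.psi_surjective n y
    rw [hL0 (z + w) _ (map_add _ _ _), hL0 z _ rfl, hL0 w _ rfl, ← map_add]
    exact congrArg _ (map_add (SegreK.incl hT DM DN n) _ _)
  let L : EP.H mT (n + 1) →+ X ⊗[k] Y := AddMonoidHom.mk' L0 hadd
  refine ⟨L, ?_, fun g => ?_, hsmul⟩
  · refine (injective_iff_map_eq_zero _).2 fun x hx => ?_
    obtain ⟨z, rfl⟩ := φc.psi_surjective n x
    have h0 : cmap cM cN h (inc n z) = 0 := (hL0 z _ rfl).symm.trans hx
    obtain ⟨b, hb, w, hw, hbw⟩ := Submodule.mem_sup.1 (hinj _ (hcyc z.2) h0)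
    cases n with
    | succ n =>
      rw [(Submodule.mem_bot k).1 hw, add_zero] at hbw
      rw [hbw] at hb
      exact (φc.psi_succ_eq_zero_iff n z).2 (SegreK.mem_range_d hT DM DN hb)
    | zero =>
      rw [(Submodule.mem_bot k).1 hb, zero_add] at hbw
      obtain ⟨v, rfl⟩ := hw
      refine (φc.psi_zero_eq_zero_iff z).2 ?_
      obtain ⟨p, hp⟩ := Segre.diag_mem_range 𝒜 ℬ ℳ 𝒩 hP.image_piece v
      refine ⟨p, SegreK.incl_injective hT DM DN 0 ?_⟩
      refine (SegreK.incl_aug hT DM DN hP p).trans ?_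
      rw [hp, SegreK.augT_diag]
      funext q
      obtain ⟨⟨a, b⟩, hq⟩ := q
      have hab : a + b = 0 := Finset.HasAntidiagonal.mem_antidiagonal.1 hq
      obtain ⟨rfl, rfl⟩ : a = 0 ∧ b = 0 := by omega
      have hv := congrFun hbw (Kun.Idx.mk' 0 0 rfl)
      rw [LinearMap.comp_apply, LinearMap.single_apply, Pi.single_eq_same] at hv
      rw [show (⟨(0, 0), hq⟩ : Kun.Idx 0) = Kun.Idx.mk' 0 0 rfl from rfl, Pi.single_eq_same, hv]
      exact mem_dgSub.1 (Dg.val_mem hT _)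
  refine Set.Subset.antisymm ?_ ?_
  · rintro _ ⟨x, hx, rfl⟩
    obtain ⟨z, hzg, rfl⟩ := φc.exists_psi_of_mem_Hgr n hx
    show L0 _ ∈ GrSeg.segrePiece k 𝒳 𝒴 g
    rw [hL0 z _ rfl]
    obtain ⟨z', hz'⟩ := mem_phiMap_range hT DM DN g n (z : (DP.C n).carrier) hzg
    have hz'D : Kun.D (dP DM g) (dP DN g) n z' = 0 := by
      refine phiMap_injective hT DM DN g (n + 1) (SegreK.incl_injective hT DM DN (n + 1) ?_)
      rw [← D_phiMap, hz', map_zero, map_zero]
      exact (congrArg (SegreK.incl hT DM DN (n + 1)) z.2).trans (SegreK.incl_zero hT DM DN (n + 1))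
    let G : Kun.K k (pC DM g) (pC DN g) n →ₗ[k] X ⊗[k] Y :=
      cmap cM cN h ∘ₗ LinearMap.pi fun p =>
        incl2 (Groth.GrDualH.piece 𝒜 (DM.C p.1.1).gr g) (Groth.GrDualH.piece ℬ (DN.C p.1.2).gr g) ∘ₗ
          LinearMap.proj p
    have hinc : cmap cM cN h (inc n z) = G z' := by
      show cmap cM cN h (SegreK.incl hT DM DN n (z : (DP.C n).carrier)) = _
      rw [← hz', incl_phiMap]
      rfl
    rw [hinc]
    suffices H : z' ∈ (GrSeg.segrePiece k 𝒳 𝒴 g).comap G from H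
    refine Kun.mem_of_single (dP_dP DM g) (dP_dP DN g) _ ?_ ?_ hz'D
    · intro w hw
      rw [Submodule.mem_comap]
      have : G w = 0 := by
        cases n with
        | zero => rw [(Submodule.mem_bot k).1 hw, map_zero]
        | succ n =>
          obtain ⟨x, rfl⟩ := hw
          show cmap cM cN h (fun p => incl2 _ _ (Kun.D (dP DM g) (dP DN g) n x p)) = 0
          refine cmap_bd cM cN h ⟨fun p => incl2 _ _ (x p), ?_⟩
          exact Kun.D_natural (fun i => (Groth.GrDualH.piece 𝒜 (DM.C i).gr g).subtype)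
            (fun j => (Groth.GrDualH.piece ℬ (DN.C j).gr g).subtype) (fun i => rfl) (fun j => rfl)
            n x
      rw [this]
      exact zero_mem _
    · intro a b hab u v hu hv
      rw [Submodule.mem_comap]
      have hG : G (Pi.single (Kun.Idx.mk' a b hab) (u ⊗ₜ[k] v)) =
          cmap cM cN h (Pi.single (Kun.Idx.mk' a b hab) ((u : SegreK.A DM a) ⊗ₜ[k] (v : SegreK.B DN b))) := by
        refine congrArg (cmap cM cN h) (funext fun p => ?_)
        show incl2 _ _ ((Pi.single (Kun.Idx.mk' a b hab) (u ⊗ₜ[k] v) :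
          Kun.K k (pC DM g) (pC DN g) n) p) = _
        by_cases hp : p = Kun.Idx.mk' a b hab
        · subst hp; rw [Pi.single_eq_same, Pi.single_eq_same]; rfl
        · rw [Pi.single_eq_of_ne hp, Pi.single_eq_of_ne hp, map_zero]
      rw [hG]
      by_cases he : Kun.Idx.mk' a b hab = Kun.Idx.mk' i j h
      · obtain ⟨rfl, rfl⟩ : a = i ∧ b = j := Prod.mk.inj (congrArg Subtype.val he)
        rw [cmap_single]
        exact Submodule.subset_span ⟨_, cM.mem g _ (congrArg Subtype.val hu) u.2,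
          _, cN.mem g _ (congrArg Subtype.val hv) v.2, rfl⟩
      · rw [cmap_single_ne cM cN h he]
        exact zero_mem _
  · intro y hy
    induction hy using Submodule.span_induction with
    | zero => exact ⟨0, zero_mem _, map_zero L⟩
    | add a b _ _ ha hb =>
      obtain ⟨x, hx, rfl⟩ := ha
      obtain ⟨x', hx', rfl⟩ := hb
      exact ⟨x + x', add_mem hx hx', map_add L _ _⟩
    | smul c a _ ha =>
      obtain ⟨x, hx, rfl⟩ := ha
      refine ⟨algebraMap k T c • x,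
        (EP.Hcomp mT (n + 1) g).smul_mem ⟨algebraMap k T c, SetLike.algebraMap_mem_graded 𝒯 c⟩ hx, ?_⟩
      show L0 (algebraMap k T c • x) = c • L0 x
      rw [hsmul, AlgHom.commutes, Algebra.algebraMap_eq_smul_one, map_smul, LinearMap.smul_apply,
        Segre.act_one, LinearMap.id_apply]
    | mem w hw =>
      obtain ⟨x, hx, y, hy, rfl⟩ := hw
      obtain ⟨u, hu, hug, rfl⟩ := cM.surj g x hx
      obtain ⟨v, hv, hvg, rfl⟩ := cN.surj g y hy
      let z : (SegreK.C hT DM DN n).carrier := fun p =>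
        Dg.mk hT ((Pi.single (Kun.Idx.mk' i j h) (u ⊗ₜ[k] v) : Kun.K k (SegreK.A DM) (SegreK.B DN) n) p) (by
          by_cases hp : p = Kun.Idx.mk' i j h
          · subst hp; rw [Pi.single_eq_same]; exact tmul_mem_dgSub hug hvg
          · rw [Pi.single_eq_of_ne hp]; exact zero_mem _)
      have hz : SegreK.incl hT DM DN n z = Pi.single (Kun.Idx.mk' i j h) (u ⊗ₜ[k] v) := rfl
      have hzk : DP.d n z = 0 := SegreK.incl_injective hT DM DN (n + 1)
        ((SegreK.incl_d hT DM DN n z).trans ((hz ▸ Kun.D_eq_zero_of_tmul (SegreK.dA_dA DM)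
          (SegreK.dB_dB DN) h hu hv).trans (SegreK.incl_zero hT DM DN (n + 1)).symm))
      have hzg : z ∈ (DP.C n).gr g := (mem_piPc _).2 fun p => by
        show (Pi.single (Kun.Idx.mk' i j h) (u ⊗ₜ[k] v) : Kun.K k (SegreK.A DM) (SegreK.B DN) n) p ∈
          GrSeg.segrePiece k (DM.C p.1.1).gr (DN.C p.1.2).gr g
        by_cases hp : p = Kun.Idx.mk' i j h
        · subst hp; rw [Pi.single_eq_same]; exact Submodule.subset_span ⟨u, hug, v, hvg, rfl⟩
        · rw [Pi.single_eq_of_ne hp]; exact zero_mem _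
      refine ⟨φc.psi n ⟨z, hzk⟩, φc.psi_mem_Hgr n hzg, ?_⟩
      show L0 _ = _
      rw [hL0 ⟨z, hzk⟩ _ rfl]
      show cmap cM cN h (SegreK.incl hT DM DN n z) = _
      rw [hz, cmap_single]

end Map

end Groth.Misc15.SegLC
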