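import Mathlib
import Groth.Agent.Misc15.SegLC.KunMap

/-!
Class maps from local cohomology, the resolution of a module with a bijective element, injectivity.
-/

set_option autoImplicit false

universe u

open scoped TensorProduct
open DirectSum GrLC

namespace Groth.Misc15.SegLC

variable {k : Type u} [Field k]
variable {R : Type u} [CommRing R] [Algebra k R] {𝒜 : ℤ → Submodule k R} [GradedAlgebra 𝒜]
variable {mR : HomogeneousIdeal 𝒜}
variable {M : Type u} [AddCommGroup M] [Module R M] [Module k M] [IsScalarTower k R M]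
  {τ : Type u} [SetLike τ M] [AddSubgroupClass τ M] {ℳ : ℤ → τ} [DirectSum.Decomposition ℳ]
  [SetLike.GradedSMul 𝒜 ℳ]

section Psi

variable [IsNoetherianRing R] {DM : TorRes mR ℳ} {EM : StarInjRes 𝒜 ℳ} (φ : CompMap EM DM) (i : ℕ)
  {X : Type u} [AddCommGroup X] [Module R X] [Module k X] [IsScalarTower k R X]
  (e : EM.H mR (i + 1) ≃ₗ[R] X) {𝒳 : ℤ → AddSubgroup X}
  (he : ∀ g x, x ∈ EM.Hgr mR (i + 1) g ↔ e x ∈ 𝒳 g)

theorem psi_bd (z : LinearMap.ker (DM.d i)) (hz : (z : SegreK.A DM i) ∈ Kun.bd (SegreK.dA DM) i) :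
    φ.psi i z = 0 := by
  cases i with
  | zero =>
    rw [show z = 0 from Subtype.ext ((Submodule.mem_bot k).1 hz), map_zero]
  | succ i =>
    obtain ⟨w, hw⟩ := hz
    exact (φ.psi_succ_eq_zero_iff i z).2 ⟨w, hw⟩

/-- The class map of local cohomology. -/
noncomputable def clsPsi : Cls DM i 𝒳 where
  f :=
    { toFun := fun u => e (φ.psi i ⟨Kun.P (SegreK.dA DM) i u,
        Kun.d_P (SegreK.dA DM) (SegreK.dA_dA DM) i u⟩)
      map_add' := fun a b => by
        rw [← map_add, ← map_add]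
        exact congrArg (fun z => e (φ.psi i z)) (Subtype.ext (map_add (Kun.P (SegreK.dA DM) i) a b))
      map_smul' := fun c a => by
        rw [RingHom.id_apply, ← algebraMap_smul R c
          (e (φ.psi i ⟨Kun.P (SegreK.dA DM) i a, Kun.d_P (SegreK.dA DM) (SegreK.dA_dA DM) i a⟩)),
          ← map_smul, ← map_smul]
        refine congrArg (fun z => e (φ.psi i z)) (Subtype.ext ?_)
        exact (map_smul (Kun.P (SegreK.dA DM) i) c a).trans (algebraMap_smul R c _).symm }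
  smul r u hu := by
    have key : ∀ (w : SegreK.A DM i) (hw : DM.d i w = 0),
        φ.psi i ⟨Kun.P (SegreK.dA DM) i w, Kun.d_P (SegreK.dA DM) (SegreK.dA_dA DM) i w⟩ =
          φ.psi i ⟨w, hw⟩ := fun w hw => by
      rw [← sub_eq_zero, ← map_sub]
      exact psi_bd φ i _ (Kun.P_sub_mem (SegreK.dA DM) i w hw)
    have hru : DM.d i (r • u) = 0 := by rw [map_smul, hu, smul_zero]
    show e _ = r • e _
    rw [key _ hru, key u hu, ← map_smul e, ← map_smul]
    rfl
  bd u hu := by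
    show e _ = 0
    rw [show (⟨Kun.P (SegreK.dA DM) i u, Kun.d_P (SegreK.dA DM) (SegreK.dA_dA DM) i u⟩ :
      LinearMap.ker (DM.d i)) = 0 from Subtype.ext (Kun.P_bd (SegreK.dA DM) (SegreK.dA_dA DM) i u hu),
      map_zero, map_zero]
  proj u := by
    refine congrArg e ?_
    rw [← sub_eq_zero, ← map_sub]
    exact psi_bd φ i _ (Kun.P_sub_mem (SegreK.dA DM) i _
      (Kun.d_P (SegreK.dA DM) (SegreK.dA_dA DM) i u))
  mem g u hu hug := by
    refine (he g _).1 ?_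
    rw [show φ.psi i ⟨Kun.P (SegreK.dA DM) i u, Kun.d_P (SegreK.dA DM) (SegreK.dA_dA DM) i u⟩ =
        φ.psi i ⟨u, hu⟩ by
      rw [← sub_eq_zero, ← map_sub]
      exact psi_bd φ i _ (Kun.P_sub_mem (SegreK.dA DM) i u hu)]
    exact φ.psi_mem_Hgr i hug
  surj g x hx := by
    obtain ⟨z, hzg, hzx⟩ := φ.exists_psi_of_mem_Hgr i (x := e.symm x) ((he g _).2 (by
      rwa [LinearEquiv.apply_symm_apply]))
    refine ⟨z, z.2, hzg, ?_⟩
    show e _ = x
    rw [show φ.psi i ⟨Kun.P (SegreK.dA DM) i z, Kun.d_P (SegreK.dA DM) (SegreK.dA_dA DM) i z⟩ =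
        φ.psi i z by
      rw [← sub_eq_zero, ← map_sub]
      exact psi_bd φ i _ (Kun.P_sub_mem (SegreK.dA DM) i z z.2), hzx, LinearEquiv.apply_symm_apply]

theorem clsPsi_cocycle (u : LinearMap.ker (DM.d i)) :
    (clsPsi φ i e he).f u = e (φ.psi i u) := by
  refine congrArg e ?_
  rw [← sub_eq_zero, ← map_sub]
  exact psi_bd φ i _ (Kun.P_sub_mem (SegreK.dA DM) i u u.2)

theorem clsPsi_augAt (m : M) : (clsPsi φ i e he).f (augAt DM i m) = 0 := by
  cases i with
  | succ i => exact map_zero _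
  | zero =>
    refine (clsPsi_cocycle φ 0 e he ⟨DM.aug m, DM.d_aug m⟩).trans ?_
    rw [(φ.psi_zero_eq_zero_iff ⟨DM.aug m, DM.d_aug m⟩).2 ⟨m, rfl⟩, map_zero]

theorem clsPsi_bar_injective {i' : ℕ} (hi : i = i' + 1) :
    Function.Injective (clsPsi φ i e he).bar := by
  subst hi
  refine (injective_iff_map_eq_zero _).2 fun q hq => ?_
  obtain ⟨⟨u, hu⟩, rfl⟩ := Submodule.Quotient.mk_surjective _ q
  rw [Cls.bar_mk] at hq
  have h1 : φ.psi (i' + 1) ⟨u, hu⟩ = 0 :=
    e.injective ((clsPsi_cocycle φ (i' + 1) e he ⟨u, hu⟩).symm.trans (hq.trans (map_zero e).symm))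
  exact (Submodule.Quotient.mk_eq_zero _).2 ((φ.psi_succ_eq_zero_iff i' _).1 h1)

theorem exists_aug_of_cls_zero {e : EM.H mR 1 ≃ₗ[R] X}
    (he : ∀ g x, x ∈ EM.Hgr mR 1 g ↔ e x ∈ 𝒳 g) {u : SegreK.A DM 0} (hu : DM.d 0 u = 0)
    (h0 : (clsPsi φ 0 e he).f u = 0) : ∃ m, DM.aug m = u :=
  (φ.psi_zero_eq_zero_iff ⟨u, hu⟩).1
    (e.injective ((clsPsi_cocycle φ 0 e he ⟨u, hu⟩).symm.trans (h0.trans (map_zero e).symm)))

include φ in
theorem subsingleton_kunH (i : ℕ) [Subsingleton (EM.H mR (i + 2))] :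
    Subsingleton (Kun.H (SegreK.dA DM) (i + 1)) := by
  refine subsingleton_of_forall_eq 0 fun q => ?_
  obtain ⟨⟨u, hu⟩, rfl⟩ := Submodule.Quotient.mk_surjective _ q
  exact (Submodule.Quotient.mk_eq_zero _).2
    ((φ.psi_succ_eq_zero_iff i ⟨u, hu⟩).1 (Subsingleton.elim _ _))

end Psi

section Bij

variable (ℳ) {g0 : R} (hg0 : g0 ∈ mR.toIdeal.radical)
  (hb : Function.Bijective fun y : M => g0 • y)

/-- The terms of the resolution of a module with a bijective element. -/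
noncomputable def bijC : ℕ → GMod.{u} 𝒜
  | 0 => GMod.of 𝒜 M (clsM ℳ)
  | _ + 1 => piMod fun _ : Fin 0 => GMod.of 𝒜 M (clsM ℳ)

/-- A module with a bijective element is its own resolution up to torsion. -/
noncomputable def bijRes (hg0 : g0 ∈ mR.toIdeal.radical)
    (hb : Function.Bijective fun y : M => g0 • y) : TorRes mR ℳ where
  C := bijC ℳ
  d _ := 0
  aug := (LinearMap.id : M →ₗ[R] M)
  d_grHom n g x _ := zero_mem _
  aug_grHom g x hx := hx
  d_aug _ := rfl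
  d_d _ _ := rfl
  ta n := by
    cases n with
    | zero => exact TA.of_bijective hg0 hb
    | succ n =>
      exact TA.of_bijective hg0 ⟨fun a b _ => funext fun i => i.elim0,
        fun a => ⟨a, funext fun i => i.elim0⟩⟩
  tor_aug m hm := by
    rw [show m = 0 from hm]
    exact zero_mem _
  tor_zero z _ := ⟨0, fun r _ => ⟨r • z, rfl⟩⟩
  tor_succ n z _ := ⟨0, fun r _ => ⟨0, funext fun i => i.elim0⟩⟩

include hb in
theorem isBij_bijC {D : ℤ} {x : R} (hx : x ∈ 𝒜 D) (hxb : Function.Bijective fun y : M => x • y) :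
    ∀ n, IsBij D (bijC (𝒜 := 𝒜) ℳ n)
  | 0 => ⟨Unit, inferInstance, fun _ => bijC (𝒜 := 𝒜) ℳ 0, fun _ => x, fun _ => LinearMap.id,
      fun _ => LinearMap.id, fun _ _ _ h => h, fun _ _ _ h => h, fun v => by simp, fun _ => hx,
      fun _ => hxb⟩
  | _ + 1 => ⟨Fin 0, inferInstance, fun i => i.elim0, fun i => i.elim0, fun i => i.elim0,
      fun i => i.elim0, fun i => i.elim0, fun i => i.elim0, fun _ => funext fun i => i.elim0,
      fun i => i.elim0, fun i => i.elim0⟩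

/-- The class map of a module with a bijective element. -/
noncomputable def clsId {𝒳 : ℤ → AddSubgroup M} (hX : ∀ g x, x ∈ 𝒳 g ↔ x ∈ ℳ g) :
    Cls (bijRes ℳ hg0 hb) 0 𝒳 where
  f :=
    { toFun := fun u => u
      map_add' := fun _ _ => rfl
      map_smul' := fun c u => algebraMap_smul (M := M) R c u }
  smul _ _ _ := rfl
  bd u hu := @id ((u : SegreK.A (bijRes ℳ hg0 hb) 0) = 0) ((Submodule.mem_bot k).1 hu)
  proj u := by
    refine congrArg _ ?_
    rw [Kun.P, LinearMap.sub_apply, LinearMap.comp_apply,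
      show SegreK.dA (bijRes ℳ hg0 hb) 0 u = 0 from rfl, map_zero, sub_zero]
    rfl
  mem g u _ hu := (hX g u).2 hu
  surj g x hx := ⟨x, rfl, (hX g x).1 hx, rfl⟩

end Bij

variable {S : Type u} [CommRing S] [Algebra k S] {ℬ : ℤ → Submodule k S} [GradedAlgebra ℬ]
variable {mS : HomogeneousIdeal ℬ}
variable {N : Type u} [AddCommGroup N] [Module S N] [Module k N] [IsScalarTower k S N]
  {τ' : Type u} [SetLike τ' N] [AddSubgroupClass τ' N] {𝒩 : ℤ → τ'} [DirectSum.Decomposition 𝒩]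
  [SetLike.GradedSMul ℬ 𝒩]

section Inj

variable {DM : TorRes mR ℳ} {DN : TorRes mS 𝒩} {i j n : ℕ}
  {X : Type u} [AddCommGroup X] [Module R X] [Module k X] [IsScalarTower k R X]
  {𝒳 : ℤ → AddSubgroup X} {Y : Type u} [AddCommGroup Y] [Module S Y] [Module k Y]
  [IsScalarTower k S Y] {𝒴 : ℤ → AddSubgroup Y}
  (cM : Cls DM i 𝒳) (cN : Cls DN j 𝒴) (h : i + j = n)

theorem cmap_eq_bar (z : Kun.K k (SegreK.A DM) (SegreK.B DN) n) :
    cmap cM cN h z = TensorProduct.map cM.bar cN.bar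
      (Kun.clsK (dA := SegreK.dA DM) (dB := SegreK.dB DN) (SegreK.dA_dA DM) (SegreK.dB_dB DN) n z
        (Kun.Idx.mk' i j h)) := by
  rw [cmap_apply, Kun.clsK_apply, TensorProduct.map_map]
  show TensorProduct.map cM.f cN.f _ = TensorProduct.map _ _ _
  rw [cM.bar_comp_cls]
  congr 1
  rw [← cN.bar_comp_cls]

/-- Injectivity when one component survives. -/
theorem hinj_of_injective (hMi : Function.Injective cM.bar) (hNi : Function.Injective cN.bar)
    (hvan : ∀ p : Kun.Idx n, p ≠ Kun.Idx.mk' i j h →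
      Subsingleton (Kun.H (SegreK.dA DM) p.1.1) ∨ Subsingleton (Kun.H (SegreK.dB DN) p.1.2)) :
    ∀ z, Kun.D (SegreK.dA DM) (SegreK.dB DN) n z = 0 → cmap cM cN h z = 0 →
      z ∈ Kun.bd (Kun.D (SegreK.dA DM) (SegreK.dB DN)) n ⊔ augRange DM DN n := by
  intro z hz h0
  refine Submodule.mem_sup_left (Kun.mem_bd_of_clsK (SegreK.dA_dA DM) (SegreK.dB_dB DN) n z hz
    (funext fun p => ?_))
  rw [Pi.zero_apply]
  by_cases hp : p = Kun.Idx.mk' i j h
  · subst hp
    rw [cmap_eq_bar] at h0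
    exact TensorProduct.map_injective_of_flat_flat _ _ hMi hNi (h0.trans (map_zero _).symm)
  · generalize Kun.clsK _ _ n z p = w
    induction w using TensorProduct.induction_on with
    | zero => rfl
    | add a b ha hb => rw [ha, hb, add_zero]
    | tmul a b =>
      rcases hvan p hp with hs | hs
      · rw [Subsingleton.elim a 0, TensorProduct.zero_tmul]
      · rw [Subsingleton.elim b 0, TensorProduct.tmul_zero]

/-- Injectivity in degree zero. -/
theorem hinj_zero (cM : Cls DM 0 𝒳) (cN : Cls DN 0 𝒴) (h : 0 + 0 = 0)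
    (hMk : ∀ u, DM.d 0 u = 0 → cM.f u = 0 → ∃ m, DM.aug m = u)
    (hNi : Function.Injective cN.bar) (hNa : ∀ v, DN.d 0 v = 0 → ∃ m, DN.aug m = v) :
    ∀ z, Kun.D (SegreK.dA DM) (SegreK.dB DN) 0 z = 0 → cmap cM cN h z = 0 →
      z ∈ Kun.bd (Kun.D (SegreK.dA DM) (SegreK.dB DN)) 0 ⊔ augRange DM DN 0 := by
  classical
  intro z hz h0
  rw [cmap_eq_bar] at h0
  let p0 : Kun.Idx 0 := Kun.Idx.mk' 0 0 h
  let q : Kun.K k (SegreK.A DM) (SegreK.B DN) 0 →ₗ[k]
      Kun.H (SegreK.dA DM) 0 ⊗[k] Kun.H (SegreK.dB DN) 0 :=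
    LinearMap.proj (R := k) (φ := fun p : Kun.Idx 0 =>
        Kun.H (SegreK.dA DM) p.1.1 ⊗[k] Kun.H (SegreK.dB DN) p.1.2) p0 ∘ₗ
      Kun.clsK (dA := SegreK.dA DM) (dB := SegreK.dB DN) (SegreK.dA_dA DM) (SegreK.dB_dB DN) 0
  have hq : q z ∈ (augRange DM DN 0).map q := by
    refine mem_of_map_eq_zero cM.bar cN.bar _ ?_ ?_ h0
    · intro a b ha
      obtain ⟨⟨u, hu⟩, rfl⟩ := Submodule.Quotient.mk_surjective _ a
      obtain ⟨⟨v, hv⟩, rfl⟩ := Submodule.Quotient.mk_surjective _ b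
      obtain ⟨m, rfl⟩ := hMk u hu ha
      obtain ⟨m', rfl⟩ := hNa v hv
      refine ⟨_, ⟨m ⊗ₜ[k] m', rfl⟩, ?_⟩
      dsimp only [q, p0]
      rw [LinearMap.comp_apply, LinearMap.proj_apply, Kun.clsK_apply, LinearMap.comp_apply, LinearMap.single_apply, Pi.single_eq_same,
        SegreK.augT_tmul, TensorProduct.map_tmul,
        Kun.cls_coe (SegreK.dA DM) (SegreK.dA_dA DM) 0 ⟨DM.aug m, hu⟩,
        Kun.cls_coe (SegreK.dB DN) (SegreK.dB_dB DN) 0 ⟨DN.aug m', hv⟩]
    · intro a b hb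
      rw [hNi (hb.trans (map_zero _).symm), TensorProduct.tmul_zero]
      exact zero_mem _
  obtain ⟨w, hw, hwz⟩ := hq
  refine Submodule.mem_sup.2 ⟨z - w, ?_, w, hw, sub_add_cancel z w⟩
  refine Kun.mem_bd_of_clsK (SegreK.dA_dA DM) (SegreK.dB_dB DN) 0 _ ?_ (funext fun p => ?_)
  · obtain ⟨x, rfl⟩ := hw
    rw [map_sub, hz, zero_sub, neg_eq_zero]
    exact SegreK.D_single_augT DM DN x
  · obtain ⟨⟨a, b⟩, hab⟩ := p
    have hab' : a + b = 0 := Finset.HasAntidiagonal.mem_antidiagonal.1 hab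
    obtain ⟨rfl, rfl⟩ : a = 0 ∧ b = 0 := by omega
    show q (z - w) = 0
    rw [map_sub, hwz, sub_self]

end Inj

end Groth.Misc15.SegLC
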