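import Mathlib

/-!
The homogeneous ideal spanned by the pieces of positive degree.
-/

set_option autoImplicit false

universe u

namespace Groth.Misc15.SegLC

variable {k : Type u} [CommRing k] {R : Type u} [CommRing R] [Algebra k R]

/-- The ideal of elements of positive degree. -/
noncomputable def posIdeal (𝒜 : ℤ → Submodule k R) [GradedAlgebra 𝒜] : HomogeneousIdeal 𝒜 :=
  ⟨Ideal.span (⋃ n ∈ Set.Ioi (0 : ℤ), (𝒜 n : Set R)), by
    refine Ideal.homogeneous_span 𝒜 _ fun x hx => ?_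
    obtain ⟨n, -, hxn⟩ := Set.mem_iUnion₂.1 hx
    exact ⟨n, hxn⟩⟩

theorem posIdeal_eq (𝒜 : ℤ → Submodule k R) [GradedAlgebra 𝒜] :
    (posIdeal 𝒜).toIdeal = Ideal.span (⋃ n ∈ Set.Ioi (0 : ℤ), (𝒜 n : Set R)) :=
  rfl

end Groth.Misc15.SegLC
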