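import Mathlib
import Groth.Agent.Misc15.SegLC.ClsPsi
import Groth.Agent.Misc15.SegLC.IrrIdeal

/-!
Local cohomology of `M # N` when a homogeneous element acts bijectively on `N`.
-/

set_option autoImplicit false

universe u

open scoped TensorProduct
open DirectSum GrLC

namespace Groth.Misc15.SegLC

variable {k : Type u} [Field k]
variable {R : Type u} [CommRing R] [Algebra k R] {𝒜 : ℤ → Submodule k R} [GradedAlgebra 𝒜]
variable {S : Type u} [CommRing S] [Algebra k S] {ℬ : ℤ → Submodule k S} [GradedAlgebra ℬ]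
variable {T : Type u} [CommRing T] [Algebra k T] {𝒯 : ℤ → Submodule k T} [GradedAlgebra 𝒯]

/-- Presentations of Segre products from additive maps. -/
theorem exists_isSegreMod_of_addMap {ψ : T →ₐ[k] R ⊗[k] S} {X : Type u} [AddCommGroup X]
    [Module R X] [Module k X] [IsScalarTower k R X] {Y : Type u} [AddCommGroup Y] [Module S Y]
    [Module k Y] [IsScalarTower k S Y] {H : Type u} [AddCommGroup H] [Module T H] [Module k H]
    [IsScalarTower k T H] {𝒳 : ℤ → AddSubgroup X} {𝒴 : ℤ → AddSubgroup Y} {ℋ : ℤ → AddSubgroup H}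
    [DirectSum.Decomposition ℋ] (L : H →+ X ⊗[k] Y) (hi : Function.Injective L)
    (him : ∀ g : ℤ, L '' (ℋ g : Set H) = (GrSeg.segrePiece k 𝒳 𝒴 g : Set (X ⊗[k] Y)))
    (hsm : ∀ (t : T) x, L (t • x) = GrSeg.act k R S X Y (ψ t) (L x)) :
    ∃ L' : H →ₗ[k] X ⊗[k] Y, GrSeg.IsSegreMod ψ 𝒳 𝒴 ℋ L' := by
  refine ⟨{ toFun := L, map_add' := map_add L, map_smul' := fun c x => ?_ }, ⟨hi, him, hsm⟩⟩
  rw [RingHom.id_apply, ← algebraMap_smul T c x, hsm, AlgHom.commutes,
    Algebra.algebraMap_eq_smul_one, map_smul, LinearMap.smul_apply, Segre.act_one, LinearMap.id_apply]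

section Zero

variable {M : Type u} [AddCommGroup M] [Module R M]
  {τ : Type u} [SetLike τ M] [AddSubgroupClass τ M] {ℳ : ℤ → τ} [DirectSum.Decomposition ℳ]
  [SetLike.GradedSMul 𝒜 ℳ]

/-- The zeroth local cohomology is the torsion. -/
theorem exists_H_zero_incl (E : StarInjRes 𝒜 ℳ) (a : HomogeneousIdeal 𝒜) :
    ∃ ι : E.H a 0 →ₗ[R] M, Function.Injective ι ∧ LinearMap.range ι = gam a.toIdeal M ∧
      ∀ g x, x ∈ E.Hgr a 0 g ↔ ι x ∈ ℳ g := by
  let eM : gam a.toIdeal M →ₗ[R] E.H a 0 := E.toH a 0 ∘ₗ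
    (E.ε ∘ₗ (gam a.toIdeal M).subtype).codRestrict (E.cocyc a 0) fun m =>
      ⟨map_gam' E.ε m.2, E.exact_zero.ge ⟨m, rfl⟩⟩
  have hb : Function.Bijective eM := by
    refine ⟨(injective_iff_map_eq_zero eM).2 fun m hm => ?_, fun x => ?_⟩
    · have h1 := (Submodule.Quotient.mk_eq_zero _).1 hm
      exact Subtype.ext (E.ε_injective (((Submodule.mem_bot R).1 h1).trans (map_zero _).symm))
    · obtain ⟨⟨z, hzΓ, hzd⟩, rfl⟩ := Submodule.Quotient.mk_surjective _ x
      obtain ⟨m, hm⟩ := E.exact_zero.le hzd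
      obtain ⟨N, hN⟩ : z ∈ gam a.toIdeal (E.X 0).carrier := hzΓ
      exact ⟨⟨m, ⟨N, fun r hr => E.ε_injective (by rw [map_smul, hm, hN r hr, map_zero])⟩⟩,
        congrArg (E.toH a 0) (Subtype.ext hm)⟩
  let e := LinearEquiv.ofBijective eM hb
  refine ⟨(gam a.toIdeal M).subtype ∘ₗ e.symm.toLinearMap,
    Subtype.val_injective.comp e.symm.injective, ?_, fun g x => ?_⟩
  · rw [LinearMap.range_comp, LinearEquiv.range, Submodule.map_top, Submodule.range_subtype]
  · obtain ⟨m, rfl⟩ := e.surjective x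
    rw [LinearMap.comp_apply, LinearEquiv.coe_coe, e.symm_apply_apply]
    constructor
    · rintro ⟨z, hz, hze⟩
      have h1 := (Submodule.Quotient.eq _).1 hze
      have h2 : (z : (E.X 0).carrier) = E.ε (m : M) := sub_eq_zero.1 ((Submodule.mem_bot R).1 h1)
      have h3 : E.ε (Groth.GrDualH.proj ℳ g (m : M)) = E.ε (m : M) := by
        letI : Module k M := Module.compHom M (algebraMap k R)
        rw [map_proj E.ε_grHom, ← h2, GrothGr.pr_of_mem _ hz]
      show (m : M) ∈ ℳ g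
      rw [← E.ε_injective h3]
      exact Groth.GrDualH.proj_mem (ℳ := ℳ) g _
    · intro hm
      exact ⟨_, E.ε_grHom g _ hm, rfl⟩

end Zero

variable {M : Type u} [AddCommGroup M] [Module R M] [Module k M] [IsScalarTower k R M]
  {ℳ : ℤ → AddSubgroup M} [DirectSum.Decomposition ℳ] [SetLike.GradedSMul 𝒜 ℳ]
variable {N : Type u} [AddCommGroup N] [Module S N] [Module k N] [IsScalarTower k S N]
  {𝒩 : ℤ → AddSubgroup N} [DirectSum.Decomposition 𝒩] [SetLike.GradedSMul ℬ 𝒩]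
variable {P : Type u} [AddCommGroup P] [Module T P] [Module k P] [IsScalarTower k T P]
  {𝒬 : ℤ → AddSubgroup P} [DirectSum.Decomposition 𝒬] [SetLike.GradedSMul 𝒯 𝒬]
  {ψ : T →ₐ[k] R ⊗[k] S} (hT : GrSeg.IsSegreRing 𝒜 ℬ 𝒯 ψ)
  {φ : P →ₗ[k] M ⊗[k] N} (hP : GrSeg.IsSegreMod ψ ℳ 𝒩 𝒬 φ)
  {mR : HomogeneousIdeal 𝒜}
  (hmR : mR.toIdeal = Ideal.span (⋃ n ∈ Set.Ioi (0 : ℤ), (𝒜 n : Set R)))
  {mT : HomogeneousIdeal 𝒯}
  (hmT : mT.toIdeal = Ideal.span (⋃ n ∈ Set.Ioi (0 : ℤ), (𝒯 n : Set T)))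
  [IsNoetherianRing R] [IsNoetherianRing T] {e : ℕ} (he : 0 < e) {g0 : S} (hg : g0 ∈ ℬ (e : ℤ))
  (hgN : Function.Bijective fun y : N => g0 • y)
  (EM : StarInjRes 𝒜 ℳ) (EP : StarInjRes 𝒯 𝒬)

include hT hP hmR hmT he hg hgN in
theorem exists_segre_bij_zero {X : Type u} [AddCommGroup X] [Module R X] [Module k X]
    [IsScalarTower k R X] (eX : EM.H mR 0 ≃ₗ[R] X) {𝒳 : ℤ → AddSubgroup X}
    (hX : ∀ g x, x ∈ EM.Hgr mR 0 g ↔ eX x ∈ 𝒳 g) :
    ∃ L : EP.H mT 0 →+ X ⊗[k] N, Function.Injective L ∧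
      (∀ g : ℤ, L '' (EP.Hgr mT 0 g : Set (EP.H mT 0)) =
        (GrSeg.segrePiece k 𝒳 𝒩 g : Set (X ⊗[k] N))) ∧
      ∀ (t : T) x, L (t • x) = GrSeg.act k R S X N (ψ t) (L x) := by
  classical
  obtain ⟨D1, hD1, hgR⟩ := exists_gens (𝒜 := 𝒜) hmR
  obtain ⟨c, x, hx, hxm, hxrad⟩ := hgR e he
  let DM : TorRes mR ℳ := locRes x hx mR hxm hxrad
  have hrad : g0 ∈ (posIdeal ℬ).toIdeal.radical := Ideal.le_radical
    (Ideal.subset_span (Set.mem_iUnion₂.2 ⟨(e : ℤ), Set.mem_Ioi.2 (by exact_mod_cast he), hg⟩))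
  let DN : TorRes (posIdeal ℬ) 𝒩 := bijRes 𝒩 hrad hgN
  have hbM : ∀ i, IsBij ((D1 * e : ℕ) : ℤ) (DM.C i) := fun i => isBij_step x hx _
  have hbN : ∀ j, IsBij ((D1 * e : ℕ) : ℤ) (DN.C j) := isBij_bijC 𝒩
    (x := g0 ^ D1) hgN (by
      have := SetLike.pow_mem_graded D1 hg
      rwa [nsmul_eq_mul, ← Nat.cast_mul] at this)
    (by
      have hh : (fun y : N => g0 ^ D1 • y) = (fun y : N => g0 • y)^[D1] := (smul_iterate g0 D1).symm
      rw [hh]
      exact hgN.iterate D1)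
  have hsub : ∀ n : ℤ, 0 < n → ∀ r ∈ 𝒜 n, r ∈ mR.toIdeal := fun n hn r hr => by
    rw [hmR]; exact Ideal.subset_span (Set.mem_iUnion₂.2 ⟨n, hn, hr⟩)
  have hsub' : ∀ n : ℤ, 0 < n → ∀ r ∈ ℬ n, r ∈ (posIdeal ℬ).toIdeal := fun n hn r hr =>
    Ideal.subset_span (Set.mem_iUnion₂.2 ⟨n, hn, hr⟩)
  have hDpos : (0 : ℤ) < ((D1 * e : ℕ) : ℤ) := by exact_mod_cast Nat.mul_pos hD1 he
  let DP := SegreK.segRes hT DM DN hP hsub hsub' hmT hDpos hbM hbN
  obtain ⟨ιM, hιMi, hιMr, hιMg⟩ := exists_H_zero_incl EM mR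
  obtain ⟨ιP, hιPi, hιPr, hιPg⟩ := exists_H_zero_incl EP mT
  let ιX : X →ₗ[k] M :=
    { toFun := fun z => ιM (eX.symm z)
      map_add' := fun a b => by rw [map_add, map_add]
      map_smul' := fun c a => by
        rw [RingHom.id_apply, ← algebraMap_smul R c a, map_smul, map_smul, algebraMap_smul] }
  let f := TensorProduct.map ιX (LinearMap.id : N →ₗ[k] N)
  have hfi : Function.Injective f :=
    TensorProduct.map_injective_of_flat_flat _ _ (hιMi.comp eX.symm.injective) Function.injective_id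
  have hιX : ∀ m ∈ gam mR.toIdeal M, ∃ z, ιX z = m := fun m hm => by
    obtain ⟨z, hz⟩ := hιMr.ge hm
    exact ⟨eX z, by show ιM (eX.symm (eX z)) = m; rw [eX.symm_apply_apply, hz]⟩
  have hfact : ∀ (y : R ⊗[k] S) (w : X ⊗[k] N),
      f (GrSeg.act k R S X N y w) = GrSeg.act k R S M N y (f w) := by
    intro y w
    induction y using TensorProduct.induction_on with
    | zero => simp
    | add a b ha hb => simp [ha, hb]
    | tmul r s =>
      induction w using TensorProduct.induction_on with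
      | zero => simp
      | add a b ha hb => simp [ha, hb]
      | tmul u v =>
        rw [GrSeg.act_tmul, TensorProduct.map_tmul, TensorProduct.map_tmul, GrSeg.act_tmul,
          show ιX (r • u) = r • ιX u from by
            show ιM (eX.symm (r • u)) = r • ιM (eX.symm u); rw [map_smul, map_smul],
          LinearMap.id_apply, LinearMap.id_apply]
  have hmem : ∀ z : EP.H mT 0, φ (ιP z) ∈ LinearMap.range f := by
    intro z
    have h0 : DP.aug (ιP z) = 0 := (DP.ta 0).torsionFree (map_gam' DP.aug (hιPr.le ⟨z, rfl⟩))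
    have h1 : SegreK.augT DM DN (φ (ιP z)) = 0 := by
      have := congrFun ((SegreK.incl_aug hT DM DN hP (ιP z)).symm.trans
        ((congrArg (SegreK.incl hT DM DN 0) h0).trans (SegreK.incl_zero hT DM DN 0)))
        (Kun.Idx.mk' 0 0 rfl)
      rwa [Pi.single_eq_same] at this
    refine mem_of_map_eq_zero (DM.aug.restrictScalars k) (DN.aug.restrictScalars k) _ ?_ ?_ h1
    · intro a b ha
      obtain ⟨z', hz'⟩ := hιX a (DM.tor_aug a ha)
      exact ⟨z' ⊗ₜ[k] b, by rw [TensorProduct.map_tmul, hz', LinearMap.id_apply]⟩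
    · intro a b hb
      rw [show b = 0 from hb, TensorProduct.tmul_zero]
      exact zero_mem _
  choose L0 hL0 using hmem
  have hL0u : ∀ z w, f w = φ (ιP z) → L0 z = w := fun z w hw => hfi ((hL0 z).trans hw.symm)
  let L : EP.H mT 0 →+ X ⊗[k] N := AddMonoidHom.mk' L0 fun a b => hL0u _ _ (by
    rw [map_add f, hL0, hL0, map_add ιP, map_add φ])
  refine ⟨L, fun a b hab => hιPi (hP.injective (by rw [← hL0, ← hL0]; exact congrArg f hab)),
    fun g => ?_, fun t z => hL0u _ _ (by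
      show f (GrSeg.act k R S X N (ψ t) (L0 z)) = _
      rw [hfact, hL0, map_smul, hP.map_smul])⟩
  refine Set.Subset.antisymm ?_ ?_
  · rintro _ ⟨z, hz, rfl⟩
    let π : M ⊗[k] N →ₗ[k] M ⊗[k] N :=
      TensorProduct.map (Groth.GrDualH.projₗ (k := k) 𝒜 ℳ g) (Groth.GrDualH.projₗ (k := k) ℬ 𝒩 g)
    have hπ : π (φ (ιP z)) = φ (ιP z) := by
      have h1 : φ (ιP z) ∈ (GrSeg.segrePiece k ℳ 𝒩 g : Set (M ⊗[k] N)) := by
        rw [← hP.image_piece g]; exact ⟨_, (hιPg g z).1 hz, rfl⟩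
      generalize φ (ιP z) = w at h1
      rw [SetLike.mem_coe] at h1
      induction h1 using Submodule.span_induction with
      | zero => exact map_zero π
      | add a b _ _ ha hb => rw [map_add, ha, hb]
      | smul c a _ ha => rw [map_smul, ha]
      | mem v hv =>
        obtain ⟨a, ha, b, hb, rfl⟩ := hv
        exact congrArg₂ (fun p q => p ⊗ₜ[k] q) (Groth.GrDualH.proj_of_mem ha)
          (Groth.GrDualH.proj_of_mem hb)
    have hkey : π (f (L0 z)) ∈ (GrSeg.segrePiece k 𝒳 𝒩 g).map f := by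
      generalize L0 z = w
      induction w using TensorProduct.induction_on with
      | zero => rw [map_zero, map_zero]; exact zero_mem _
      | add a b ha hb => rw [map_add, map_add]; exact add_mem ha hb
      | tmul u v =>
        have hm : Groth.GrDualH.proj ℳ g (ιX u) ∈ gam mR.toIdeal M := by
          have h := gam_isHomogeneous 𝒜 mR ℳ g (hιMr.le ⟨eX.symm u, rfl⟩)
          exact h
        obtain ⟨u', hu'⟩ := hιX _ hm
        refine ⟨u' ⊗ₜ[k] Groth.GrDualH.proj 𝒩 g v, Submodule.subset_span ⟨u', ?_, _,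
          Groth.GrDualH.proj_mem (ℳ := 𝒩) g v, rfl⟩, ?_⟩
        · have h1 : ιM (eX.symm u') ∈ ℳ g := by
            rw [show ιM (eX.symm u') = _ from hu']
            exact Groth.GrDualH.proj_mem (ℳ := ℳ) g _
          have := (hX g _).1 ((hιMg g _).2 h1)
          rwa [eX.apply_symm_apply] at this
        · rw [TensorProduct.map_tmul, hu']
          rfl
    rw [hL0, hπ] at hkey
    obtain ⟨w, hw, hwz⟩ := hkey
    show L0 z ∈ _
    rw [hL0u z w hwz]
    exact hw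
  · intro y hy
    induction hy using Submodule.span_induction with
    | zero => exact ⟨0, zero_mem _, map_zero L⟩
    | add a b _ _ ha hb =>
      obtain ⟨p, hp, rfl⟩ := ha
      obtain ⟨q, hq, rfl⟩ := hb
      exact ⟨p + q, add_mem hp hq, map_add L p q⟩
    | smul c a _ ha =>
      obtain ⟨p, hp, rfl⟩ := ha
      refine ⟨algebraMap k T c • p,
        (EP.Hcomp mT 0 g).smul_mem ⟨algebraMap k T c, SetLike.algebraMap_mem_graded 𝒯 c⟩ hp, ?_⟩
      refine hL0u _ _ ?_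
      rw [map_smul f, map_smul ιP, algebraMap_smul, map_smul φ]
      exact congrArg (c • ·) (hL0 p)
    | mem w hw =>
      obtain ⟨u, hu, v, hv, rfl⟩ := hw
      have hu' : ιX u ∈ ℳ g := (hιMg g _).1 ((hX g _).2 (by rwa [eX.apply_symm_apply]))
      obtain ⟨p, hp, hpw⟩ : ιX u ⊗ₜ[k] v ∈ φ '' (𝒬 g : Set P) := by
        rw [hP.image_piece g]; exact Submodule.subset_span ⟨_, hu', v, hv, rfl⟩
      have hz : DP.aug p = 0 := SegreK.incl_injective hT DM DN 0 (by
        refine (SegreK.incl_aug hT DM DN hP p).trans (Eq.trans ?_ (SegreK.incl_zero hT DM DN 0).symm)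
        rw [hpw, SegreK.augT_tmul, (DM.ta 0).torsionFree (map_gam' DM.aug
          (hιMr.le ⟨eX.symm u, rfl⟩) : DM.aug (ιX u) ∈ _), TensorProduct.zero_tmul, Pi.single_zero])
      obtain ⟨z, hz'⟩ := hιPr.ge (DP.tor_aug p hz)
      refine ⟨z, (hιPg g z).2 (hz' ▸ hp), hL0u z _ ?_⟩
      rw [hz', hpw, TensorProduct.map_tmul]
      rfl

include hT hP hmR hmT he hg hgN in
theorem exists_segre_bij_succ (n : ℕ) {X : Type u} [AddCommGroup X] [Module R X] [Module k X]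
    [IsScalarTower k R X] (eX : EM.H mR (n + 1) ≃ₗ[R] X) {𝒳 : ℤ → AddSubgroup X}
    (hX : ∀ g x, x ∈ EM.Hgr mR (n + 1) g ↔ eX x ∈ 𝒳 g) :
    ∃ L : EP.H mT (n + 1) →+ X ⊗[k] N, Function.Injective L ∧
      (∀ g : ℤ, L '' (EP.Hgr mT (n + 1) g : Set (EP.H mT (n + 1))) =
        (GrSeg.segrePiece k 𝒳 𝒩 g : Set (X ⊗[k] N))) ∧
      ∀ (t : T) x, L (t • x) = GrSeg.act k R S X N (ψ t) (L x) := by
  classical
  obtain ⟨D1, hD1, hgR⟩ := exists_gens (𝒜 := 𝒜) hmR
  obtain ⟨c, x, hx, hxm, hxrad⟩ := hgR e he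
  let DM : TorRes mR ℳ := locRes x hx mR hxm hxrad
  have hrad : g0 ∈ (posIdeal ℬ).toIdeal.radical := Ideal.le_radical
    (Ideal.subset_span (Set.mem_iUnion₂.2 ⟨(e : ℤ), Set.mem_Ioi.2 (by exact_mod_cast he), hg⟩))
  let DN : TorRes (posIdeal ℬ) 𝒩 := bijRes 𝒩 hrad hgN
  have hbM : ∀ i, IsBij ((D1 * e : ℕ) : ℤ) (DM.C i) := fun i => isBij_step x hx _
  have hbN : ∀ j, IsBij ((D1 * e : ℕ) : ℤ) (DN.C j) := isBij_bijC 𝒩
    (x := g0 ^ D1) hgN (by
      have := SetLike.pow_mem_graded D1 hg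
      rwa [nsmul_eq_mul, ← Nat.cast_mul] at this)
    (by
      have hh : (fun y : N => g0 ^ D1 • y) = (fun y : N => g0 • y)^[D1] := (smul_iterate g0 D1).symm
      rw [hh]
      exact hgN.iterate D1)
  have hsub : ∀ n : ℤ, 0 < n → ∀ r ∈ 𝒜 n, r ∈ mR.toIdeal := fun n hn r hr => by
    rw [hmR]; exact Ideal.subset_span (Set.mem_iUnion₂.2 ⟨n, hn, hr⟩)
  have hsub' : ∀ n : ℤ, 0 < n → ∀ r ∈ ℬ n, r ∈ (posIdeal ℬ).toIdeal := fun n hn r hr =>
    Ideal.subset_span (Set.mem_iUnion₂.2 ⟨n, hn, hr⟩)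
  have hDpos : (0 : ℤ) < ((D1 * e : ℕ) : ℤ) := by exact_mod_cast Nat.mul_pos hD1 he
  obtain ⟨φM⟩ := nonempty_compMap EM DM
  let cM : Cls DM n 𝒳 := clsPsi φM n eX hX
  let cN : Cls DN 0 𝒩 := clsId 𝒩 hrad hgN (fun _ _ => Iff.rfl)
  have hNbar : Function.Injective cN.bar := by
    refine (injective_iff_map_eq_zero _).2 fun q hq => ?_
    obtain ⟨⟨v, hv⟩, rfl⟩ := Submodule.Quotient.mk_surjective _ q
    exact (Submodule.Quotient.mk_eq_zero _).2 ((Submodule.mem_bot k).2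
      (@id ((v : SegreK.A DN 0) = 0) hq))
  refine exists_segreMap_H hT hP cM cN (Nat.add_zero n) hsub hsub' hmT hDpos hbM hbN EP
    (Or.inl (clsPsi_augAt φM n eX hX)) ?_
  cases n with
  | zero =>
    exact hinj_zero cM cN _ (fun u hu h0 => exists_aug_of_cls_zero φM hX hu h0) hNbar
      fun v _ => ⟨v, rfl⟩
  | succ n =>
    refine hinj_of_injective cM cN _ (clsPsi_bar_injective φM (n + 1) eX hX rfl) hNbar fun p hp => ?_
    obtain ⟨⟨a, b⟩, hab⟩ := p
    have hab' : a + b = n + 1 := Finset.HasAntidiagonal.mem_antidiagonal.1 hab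
    rcases b with _ | b
    · obtain rfl : a = n + 1 := by omega
      exact absurd rfl hp
    · refine Or.inr ?_
      haveI : Subsingleton (SegreK.B DN (b + 1)) :=
        ⟨fun v w => funext fun i : Fin 0 => i.elim0⟩
      exact ⟨fun v w => by
        obtain ⟨v, rfl⟩ := Submodule.Quotient.mk_surjective _ v
        obtain ⟨w, rfl⟩ := Submodule.Quotient.mk_surjective _ w
        exact congrArg _ (Subtype.ext (Subsingleton.elim _ _))⟩

end Groth.Misc15.SegLC
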