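import Mathlib
import Groth.Agent.Misc15.SegLC.SegDim
import Groth.Agent.GrDualH.Duality

/-!
Segre products of graded duals.
-/

set_option autoImplicit false

universe u

open scoped TensorProduct
open DirectSum

namespace Groth.Misc15.SegLC

variable {k : Type u} [Field k]
variable {R : Type u} [CommRing R] [Algebra k R] {𝒜 : ℤ → Submodule k R} [GradedAlgebra 𝒜]
variable {S : Type u} [CommRing S] [Algebra k S] {ℬ : ℤ → Submodule k S} [GradedAlgebra ℬ]
variable {T : Type u} [CommRing T] [Algebra k T] {ψ : T →ₐ[k] R ⊗[k] S}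

/-- The pairing of two tensor products. -/
noncomputable def pair {D M : Type u} [AddCommGroup D] [Module k D] [AddCommGroup M] [Module k M]
    {D' M' : Type u} [AddCommGroup D'] [Module k D'] [AddCommGroup M'] [Module k M']
    (β : D →ₗ[k] M →ₗ[k] k) (β' : D' →ₗ[k] M' →ₗ[k] k) :
    D ⊗[k] D' →ₗ[k] (M ⊗[k] M' →ₗ[k] k) :=
  TensorProduct.dualDistrib k M M' ∘ₗ TensorProduct.map β β'

@[simp] theorem pair_tmul {D M : Type u} [AddCommGroup D] [Module k D] [AddCommGroup M] [Module k M]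
    {D' M' : Type u} [AddCommGroup D'] [Module k D'] [AddCommGroup M'] [Module k M']
    (β : D →ₗ[k] M →ₗ[k] k) (β' : D' →ₗ[k] M' →ₗ[k] k) (d : D) (d' : D') (x : M) (x' : M') :
    pair β β' (d ⊗ₜ[k] d') (x ⊗ₜ[k] x') = β d x * β' d' x' := by
  simp [pair, TensorProduct.dualDistrib_apply]

/-- The pieces of a graded dual are the duals of the pieces. -/
theorem exists_pieceDual {M : Type u} [AddCommGroup M] [Module R M] [Module k M]
    [IsScalarTower k R M] {ℳ : ℤ → AddSubgroup M} [DirectSum.Decomposition ℳ]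
    [SetLike.GradedSMul 𝒜 ℳ] {D : Type u} [AddCommGroup D] [Module R D] [Module k D]
    [IsScalarTower k R D] {𝒟 : ℤ → AddSubgroup D} [DirectSum.Decomposition 𝒟]
    [SetLike.GradedSMul 𝒜 𝒟] {β : D →ₗ[k] M →ₗ[k] k} (hD : GrSeg.IsGDual R ℳ 𝒟 β) (n : ℤ) :
    ∃ θ : Groth.GrDualH.piece 𝒜 𝒟 n ≃ₗ[k] Module.Dual k (Groth.GrDualH.piece 𝒜 ℳ (-n)),
      ∀ d x, θ d x = β (d : D) (x : M) := by
  let f : Groth.GrDualH.piece 𝒜 𝒟 n →ₗ[k] Module.Dual k (Groth.GrDualH.piece 𝒜 ℳ (-n)) :=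
    (LinearMap.lcomp k k (Groth.GrDualH.piece 𝒜 ℳ (-n)).subtype) ∘ₗ β ∘ₗ
      (Groth.GrDualH.piece 𝒜 𝒟 n).subtype
  refine ⟨LinearEquiv.ofBijective f ⟨(injective_iff_map_eq_zero f).2 fun d hd => ?_, fun μ => ?_⟩,
    fun _ _ => rfl⟩
  · exact Subtype.ext (hD.eq_zero n d d.2 fun x hx => LinearMap.congr_fun hd ⟨x, hx⟩)
  · obtain ⟨g, hg⟩ := μ.exists_extend
    obtain ⟨d, hd, hdg⟩ := hD.exists_eq n g
    exact ⟨⟨d, hd⟩, LinearMap.ext fun x => (hdg x x.2).trans (LinearMap.congr_fun hg x)⟩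

variable {MR : Type u} [AddCommGroup MR] [Module R MR] [Module k MR] [IsScalarTower k R MR]
  {ℳR : ℤ → AddSubgroup MR} [DirectSum.Decomposition ℳR] [SetLike.GradedSMul 𝒜 ℳR]
  {DR : Type u} [AddCommGroup DR] [Module R DR] [Module k DR] [IsScalarTower k R DR]
  {𝒟R : ℤ → AddSubgroup DR} [DirectSum.Decomposition 𝒟R] [SetLike.GradedSMul 𝒜 𝒟R]
  {βR : DR →ₗ[k] MR →ₗ[k] k} (hR : GrSeg.IsGDual R ℳR 𝒟R βR)
variable {MS : Type u} [AddCommGroup MS] [Module S MS] [Module k MS] [IsScalarTower k S MS]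
  {ℳS : ℤ → AddSubgroup MS} [DirectSum.Decomposition ℳS] [SetLike.GradedSMul ℬ ℳS]
  {DS : Type u} [AddCommGroup DS] [Module S DS] [Module k DS] [IsScalarTower k S DS]
  {𝒟S : ℤ → AddSubgroup DS} [DirectSum.Decomposition 𝒟S] [SetLike.GradedSMul ℬ 𝒟S]
  {βS : DS →ₗ[k] MS →ₗ[k] k} (hS : GrSeg.IsGDual S ℳS 𝒟S βS)
variable {MT : Type u} [AddCommGroup MT] [Module T MT] [Module k MT] [IsScalarTower k T MT]
  {ℳT : ℤ → AddSubgroup MT} [DirectSum.Decomposition ℳT]
  {L : MT →ₗ[k] MR ⊗[k] MS} (hL : GrSeg.IsSegreMod ψ ℳR ℳS ℳT L)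
variable {P : Type u} [AddCommGroup P] [Module T P] [Module k P] [IsScalarTower k T P]
  {𝒬 : ℤ → AddSubgroup P} [DirectSum.Decomposition 𝒬]
  {φ : P →ₗ[k] DR ⊗[k] DS} (hP : GrSeg.IsSegreMod ψ 𝒟R 𝒟S 𝒬 φ)

include hR hS in
theorem pair_act (y : R ⊗[k] S) (u : DR ⊗[k] DS) (v : MR ⊗[k] MS) :
    pair βR βS (GrSeg.act k R S DR DS y u) v = pair βR βS u (GrSeg.act k R S MR MS y v) := by
  induction y using TensorProduct.induction_on with
  | zero => simp
  | add a b ha hb => simp [ha, hb]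
  | tmul r s =>
    induction u using TensorProduct.induction_on with
    | zero => simp
    | add a b ha hb => simp [ha, hb]
    | tmul d d' =>
      induction v using TensorProduct.induction_on with
      | zero => simp
      | add a b ha hb => simp [ha, hb]
      | tmul x x' => rw [GrSeg.act_tmul, GrSeg.act_tmul, pair_tmul, pair_tmul, hR.map_smul, hS.map_smul]

set_option synthInstance.maxHeartbeats 400000 in
include hR hS hL hP in
/-- The Segre product of graded duals is a graded dual of the Segre product. -/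
theorem exists_gdual_segre (hfR : ∀ n, FiniteDimensional k (Groth.GrDualH.piece 𝒜 𝒟R n))
    (hfS : ∀ n, FiniteDimensional k (Groth.GrDualH.piece ℬ 𝒟S n)) :
    ∃ β : P →ₗ[k] MT →ₗ[k] k, GrSeg.IsGDual T ℳT 𝒬 β := by
  classical
  let β : P →ₗ[k] MT →ₗ[k] k := (LinearMap.lcomp k k L) ∘ₗ pair βR βS ∘ₗ φ
  have hβ : ∀ p ξ, β p ξ = pair βR βS (φ p) (L ξ) := fun _ _ => rfl
  have hrange : ∀ (n : ℤ), LinearMap.range (incl2 (Groth.GrDualH.piece 𝒜 ℳR n)
      (Groth.GrDualH.piece ℬ ℳS n)) = GrSeg.segrePiece k ℳR ℳS n := fun n =>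
    range_incl2 (𝒳 := ℳR) (𝒴 := ℳS) (g := n) _ _ (fun _ => Iff.rfl) (fun _ => Iff.rfl)
  have hrange' : ∀ (n : ℤ), LinearMap.range (incl2 (Groth.GrDualH.piece 𝒜 𝒟R n)
      (Groth.GrDualH.piece ℬ 𝒟S n)) = GrSeg.segrePiece k 𝒟R 𝒟S n := fun n =>
    range_incl2 (𝒳 := 𝒟R) (𝒴 := 𝒟S) (g := n) _ _ (fun _ => Iff.rfl) (fun _ => Iff.rfl)
  have hφm : ∀ {n : ℤ} {p : P}, p ∈ 𝒬 n → φ p ∈ GrSeg.segrePiece k 𝒟R 𝒟S n := fun {n p} hp =>
    SetLike.mem_coe.1 (hP.image_piece n ▸ ⟨p, hp, rfl⟩)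
  have hLm : ∀ {n : ℤ} {ξ : MT}, ξ ∈ ℳT n → L ξ ∈ GrSeg.segrePiece k ℳR ℳS n := fun {n ξ} hξ =>
    SetLike.mem_coe.1 (hL.image_piece n ▸ ⟨ξ, hξ, rfl⟩)
  have hperf : ∀ n : ℤ, ∃ Θ : Groth.GrDualH.piece 𝒜 𝒟R n ⊗[k] Groth.GrDualH.piece ℬ 𝒟S n ≃ₗ[k]
      Module.Dual k (Groth.GrDualH.piece 𝒜 ℳR (-n) ⊗[k] Groth.GrDualH.piece ℬ ℳS (-n)),
      ∀ w v, Θ w v = pair βR βS (incl2 _ _ w) (incl2 _ _ v) := by
    intro n
    obtain ⟨θ, hθ⟩ := exists_pieceDual (𝒜 := 𝒜) hR n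
    obtain ⟨θ', hθ'⟩ := exists_pieceDual (𝒜 := ℬ) hS n
    haveI := hfR n
    haveI := hfS n
    haveI : FiniteDimensional k (Groth.GrDualH.piece 𝒜 ℳR (-n)) :=
      (Module.finite_dual_iff k).1 θ.finiteDimensional
    haveI : FiniteDimensional k (Groth.GrDualH.piece ℬ ℳS (-n)) :=
      (Module.finite_dual_iff k).1 θ'.finiteDimensional
    refine ⟨(TensorProduct.congr θ θ').trans (TensorProduct.dualDistribEquiv k _ _), fun w v => ?_⟩
    induction w using TensorProduct.induction_on with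
    | zero => simp
    | add a b ha hb =>
      rw [map_add, LinearMap.add_apply, map_add, map_add, LinearMap.add_apply, ha, hb]
    | tmul d d' =>
      induction v using TensorProduct.induction_on with
      | zero => simp
      | add a b ha hb => rw [map_add, map_add, map_add, ha, hb]
      | tmul x x' =>
        rw [LinearEquiv.trans_apply, TensorProduct.congr_tmul, show TensorProduct.dualDistribEquiv k
          (Groth.GrDualH.piece 𝒜 ℳR (-n)) (Groth.GrDualH.piece ℬ ℳS (-n)) (θ d ⊗ₜ[k] θ' d') =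
            TensorProduct.dualDistrib k _ _ (θ d ⊗ₜ[k] θ' d') from rfl,
          TensorProduct.dualDistrib_apply, hθ, hθ']
        exact (pair_tmul βR βS _ _ _ _).symm
  refine ⟨β, ⟨fun t p ξ => ?_, fun n p hp m hm ξ hξ => ?_, fun n p hp h => ?_, fun n g => ?_⟩⟩
  · rw [hβ, hβ, hP.map_smul, hL.map_smul, pair_act hR hS]
  · rw [hβ]
    have h1 := hφm hp
    have h2 := hLm hξ
    generalize φ p = u at h1
    generalize L ξ = v at h2
    induction h1 using Submodule.span_induction with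
    | zero => simp
    | add a b _ _ ha hb => rw [map_add, LinearMap.add_apply, ha, hb, add_zero]
    | smul c a _ ha => rw [map_smul, LinearMap.smul_apply, ha, smul_zero]
    | mem w hw =>
      obtain ⟨d, hd, d', hd', rfl⟩ := hw
      induction h2 using Submodule.span_induction with
      | zero => simp
      | add a b _ _ ha hb => rw [map_add, ha, hb, add_zero]
      | smul c a _ ha => rw [map_smul, ha, smul_zero]
      | mem w hw =>
        obtain ⟨x, hx, x', hx', rfl⟩ := hw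
        rw [pair_tmul, hR.vanish n d hd m hm x hx, zero_mul]
  · obtain ⟨w, hw⟩ := (hrange' n).ge (hφm hp)
    obtain ⟨Θ, hΘ⟩ := hperf n
    suffices hw0 : w = 0 from hP.injective (by rw [← hw, hw0, map_zero, map_zero])
    refine Θ.injective (LinearMap.ext fun v => ?_)
    rw [map_zero, LinearMap.zero_apply, hΘ, hw]
    obtain ⟨ξ, hξ, hξv⟩ : incl2 _ _ v ∈ L '' (ℳT (-n) : Set MT) := by
      rw [hL.image_piece (-n)]; exact (hrange (-n)).le ⟨v, rfl⟩
    rw [← hξv]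
    exact h ξ hξ
  · obtain ⟨Θ, hΘ⟩ := hperf n
    have hpre : ∀ v : Groth.GrDualH.piece 𝒜 ℳR (-n) ⊗[k] Groth.GrDualH.piece ℬ ℳS (-n),
        ∃ ξ ∈ ℳT (-n), L ξ = incl2 _ _ v := fun v => by
      have : incl2 _ _ v ∈ L '' (ℳT (-n) : Set MT) := by
        rw [hL.image_piece (-n)]; exact (hrange (-n)).le ⟨v, rfl⟩
      exact this
    choose ξ hξ hξL using hpre
    let g' : Module.Dual k (Groth.GrDualH.piece 𝒜 ℳR (-n) ⊗[k] Groth.GrDualH.piece ℬ ℳS (-n)) :=
      { toFun := fun v => g (ξ v)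
        map_add' := fun a b => by
          rw [← map_add]
          exact congrArg g (hL.injective (by rw [map_add L, hξL, hξL, hξL, map_add]))
        map_smul' := fun c a => by
          rw [RingHom.id_apply, ← map_smul]
          exact congrArg g (hL.injective (by rw [map_smul L, hξL, hξL, map_smul])) }
    obtain ⟨p, hp, hpw⟩ : incl2 _ _ (Θ.symm g') ∈ φ '' (𝒬 n : Set P) := by
      rw [hP.image_piece n]; exact (hrange' n).le ⟨_, rfl⟩
    refine ⟨p, hp, fun x hx => ?_⟩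
    obtain ⟨v, hv⟩ := (hrange (-n)).ge (hLm hx)
    rw [hβ, hpw, ← hv, ← hΘ, LinearEquiv.apply_symm_apply]
    show g (ξ v) = g x
    exact congrArg g (hL.injective (by rw [hξL, hv]))

end Groth.Misc15.SegLC
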