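import Mathlib
import Groth.Agent.Misc15.SegLC.SegDim
import Groth.Agent.S18646

/-!
The dimension formula for the local cohomology of a Segre product.
-/

set_option autoImplicit false

universe u

open scoped TensorProduct
open DirectSum GrLC

namespace Groth.Misc15.SegLC

/-- The arithmetic of the Künneth sum. -/
theorem sum_eq_of_vanish (M N : ℕ) (a b : ℕ → ℕ) (hA hB : ℕ → ℕ) (hA0 : hA 0 = M) (hB0 : hB 0 = N)
    (hAs : ∀ i, hA (i + 1) = a (i + 2)) (hBs : ∀ j, hB (j + 1) = b (j + 2))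
    (a0 : a 0 = 0) (a1 : a 1 = 0) (b0 : b 0 = 0) (b1 : b 1 = 0) (m : ℕ) :
    ∑ i ∈ Finset.range (m + 2), hA i * hB (m + 1 - i) =
      M * b (m + 2) + a (m + 2) * N +
        ∑ i ∈ Finset.range (m + 4), a i * b (m + 3 - i) := by
  rw [Finset.sum_range_succ' _ (m + 1), Finset.sum_range_succ _ m,
    Finset.sum_range_succ _ (m + 3), Finset.sum_range_succ _ (m + 2),
    Finset.sum_range_succ' _ (m + 1), Finset.sum_range_succ' _ m]
  simp only [Nat.sub_zero, hA0, hAs, hBs, a0, a1, zero_mul, add_zero, zero_add, Nat.sub_self,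
    hB0, Nat.succ_sub_succ_eq_sub]
  have e : m + 3 - (m + 2) = 1 := by omega
  simp only [e, b0, b1, mul_zero, add_zero]
  have h : ∀ i ∈ Finset.range m, a (i + 2) * hB (m - i) = a (i + 1 + 1) * b (m + 1 - i) := by
    intro i hi
    rw [Finset.mem_range] at hi
    obtain ⟨j, hj⟩ : ∃ j, m - i = j + 1 := ⟨m - i - 1, by omega⟩
    rw [hj, hBs, show m + 1 - i = j + 2 by omega]
  rw [Finset.sum_congr rfl h]
  simp only [show m + 1 - m = 1 by omega, b1, mul_zero, add_zero]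
  ring

variable {k : Type u} [Field k]
variable {R : Type u} [CommRing R] [Algebra k R] {𝒜 : ℤ → Submodule k R} [GradedAlgebra 𝒜]
variable {S : Type u} [CommRing S] [Algebra k S] {ℬ : ℤ → Submodule k S} [GradedAlgebra ℬ]
variable {T : Type u} [CommRing T] [Algebra k T] {𝒯 : ℤ → Submodule k T} [GradedAlgebra 𝒯]
variable {M : Type u} [AddCommGroup M] [Module R M] [Module k M] [IsScalarTower k R M]
  {τ : Type u} [SetLike τ M] [AddSubgroupClass τ M] {ℳ : ℤ → τ} [DirectSum.Decomposition ℳ]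
  [SetLike.GradedSMul 𝒜 ℳ]
variable {N : Type u} [AddCommGroup N] [Module S N] [Module k N] [IsScalarTower k S N]
  {τ' : Type u} [SetLike τ' N] [AddSubgroupClass τ' N] {𝒩 : ℤ → τ'} [DirectSum.Decomposition 𝒩]
  [SetLike.GradedSMul ℬ 𝒩]
variable {P : Type u} [AddCommGroup P] [Module T P] [Module k P] [IsScalarTower k T P]
  {τQ : Type u} [SetLike τQ P] [AddSubgroupClass τQ P] {𝒬 : ℤ → τQ} [DirectSum.Decomposition 𝒬]
  [SetLike.GradedSMul 𝒯 𝒬]

theorem nontrivial_segre [Nontrivial R] [Nontrivial S] (ψ : T →ₐ[k] R ⊗[k] S) : Nontrivial T := by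
  haveI : Nontrivial (R ⊗[k] S) := Algebra.TensorProduct.nontrivial_of_algebraMap_injective_of_flat_left
    k R S (algebraMap k S).injective
  exact ψ.toRingHom.domain_nontrivial

theorem hPiece_eq_bot_of {a : HomogeneousIdeal 𝒜} {E : StarInjRes 𝒜 ℳ} {q : ℕ} {d : ℤ}
    (h : E.Hcomp a q d = ⊥) : hPiece E a q d = ⊥ :=
  (Submodule.eq_bot_iff _).2 fun x hx => (Submodule.eq_bot_iff (E.Hcomp a q d)).1 h x hx

theorem isSegreMod_self {ψ : T →ₐ[k] R ⊗[k] S} (hT : GrSeg.IsSegreRing 𝒜 ℬ 𝒯 ψ) :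
    GrSeg.IsSegreMod ψ 𝒜 ℬ 𝒯 ψ.toLinearMap where
  injective := hT.1
  image_piece := image_piece hT
  map_smul t p := by
    rw [AlgHom.toLinearMap_apply, AlgHom.toLinearMap_apply, smul_eq_mul, map_mul, Segre.act_self]

section Finite

variable [IsNoetherianRing R] [Nontrivial R] (hposR : ∀ n : ℤ, n < 0 → 𝒜 n = ⊥)
  (h0R : 𝒜 0 = Submodule.span k {(1 : R)}) [Module.Finite R M] {mR : HomogeneousIdeal 𝒜}
  (hmR : mR.toIdeal = Ideal.span (⋃ n ∈ Set.Ioi (0 : ℤ), (𝒜 n : Set R)))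
  (D : TorRes mR ℳ) (E : StarInjRes 𝒜 ℳ) (g : ℤ)

include hposR h0R hmR in
/-- The dimensions of the cohomology of the pieces of a resolution. -/
theorem kunH_dims (h0 : hPiece E mR 0 g = ⊥) (h1 : hPiece E mR 1 g = ⊥) :
    (∀ i, FiniteDimensional k (Kun.H (dP D g) i)) ∧
      Module.finrank k (Kun.H (dP D g) 0) =
        Module.finrank k (Groth.GrDualH.piece 𝒜 ℳ g) ∧
      ∀ i, Module.finrank k (Kun.H (dP D g) (i + 1)) = Module.finrank k (hPiece E mR (i + 2) g) := by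
  haveI : IsNoetherian R M := isNoetherian_of_isNoetherianRing_of_finite R M
  obtain ⟨e0⟩ := exists_equiv_kunH_zero D E g h0 h1
  refine ⟨fun i => ?_, e0.finrank_eq.symm, fun i => ?_⟩
  · cases i with
    | zero =>
      haveI := Groth.GrDualH.finiteDimensional_piece (M := M) (ℳ := ℳ) h0R (Or.inl inferInstance) g
      exact e0.finiteDimensional
    | succ i =>
      obtain ⟨e⟩ := exists_equiv_succ D E g i
      haveI := finiteDimensional_hPiece hposR h0R mR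
        (GrRegSeq.toIdeal_eq_irr 𝒜 hposR hmR) E (i + 2) g
      exact e.symm.finiteDimensional
  · obtain ⟨e⟩ := exists_equiv_succ D E g i
    exact e.finrank_eq

end Finite

/-- The dimensions of the pieces of the local cohomology of a Segre product. -/
theorem finrank_segre [Nontrivial R] [Nontrivial S]
    (hposR : ∀ n : ℤ, n < 0 → 𝒜 n = ⊥) (h0R : 𝒜 0 = Submodule.span k {(1 : R)})
    [Algebra.FiniteType k R] (hposS : ∀ n : ℤ, n < 0 → ℬ n = ⊥)
    (h0S : ℬ 0 = Submodule.span k {(1 : S)}) [Algebra.FiniteType k S]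
    {ψ : T →ₐ[k] R ⊗[k] S} (hT : GrSeg.IsSegreRing 𝒜 ℬ 𝒯 ψ)
    {mR : HomogeneousIdeal 𝒜}
    (hmR : mR.toIdeal = Ideal.span (⋃ n ∈ Set.Ioi (0 : ℤ), (𝒜 n : Set R)))
    {mS : HomogeneousIdeal ℬ}
    (hmS : mS.toIdeal = Ideal.span (⋃ n ∈ Set.Ioi (0 : ℤ), (ℬ n : Set S)))
    {mT : HomogeneousIdeal 𝒯}
    (hmT : mT.toIdeal = Ideal.span (⋃ n ∈ Set.Ioi (0 : ℤ), (𝒯 n : Set T)))
    [Module.Finite R M] [Module.Finite S N] {φ : P →ₗ[k] M ⊗[k] N}
    (hP : GrSeg.IsSegreMod ψ ℳ 𝒩 𝒬 φ)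
    (EM : StarInjRes 𝒜 ℳ) (EN : StarInjRes ℬ 𝒩) (EP : StarInjRes 𝒯 𝒬)
    (hM : ∀ (q : ℕ) (d : ℤ), q ≤ 1 → hPiece EM mR q d = ⊥)
    (hN : ∀ (q : ℕ) (d : ℤ), q ≤ 1 → hPiece EN mS q d = ⊥) (q : ℕ) (d : ℤ) :
    Module.finrank k (hPiece EP mT q d) =
      Module.finrank k (Groth.GrDualH.piece 𝒜 ℳ d) * Module.finrank k (hPiece EN mS q d) +
      Module.finrank k (hPiece EM mR q d) * Module.finrank k (Groth.GrDualH.piece ℬ 𝒩 d) +
      (Finset.range (q + 2)).sum (fun i =>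
        Module.finrank k (hPiece EM mR i d) * Module.finrank k (hPiece EN mS (q + 1 - i) d)) := by
  haveI : IsNoetherianRing R := Algebra.FiniteType.isNoetherianRing k R
  haveI : IsNoetherianRing S := Algebra.FiniteType.isNoetherianRing k S
  haveI : IsNoetherianRing T :=
    Groth.Agent.S18646.result k R 𝒜 hposR h0R S ℬ hposS h0S T 𝒯 ψ hT.1 hT.2
  obtain ⟨D1, hD1, hgR⟩ := exists_gens (𝒜 := 𝒜) hmR
  obtain ⟨D2, hD2, hgS⟩ := exists_gens (𝒜 := ℬ) hmS
  obtain ⟨c, x, hx, hxm, hxrad⟩ := hgR D2 hD2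
  obtain ⟨c', y, hy, hym, hyrad⟩ := hgS D1 hD1
  have hy' : ∀ j, y j ∈ ℬ ((D1 * D2 : ℕ) : ℤ) := fun j => by rw [mul_comm]; exact hy j
  let DM : TorRes mR ℳ := locRes x hx mR hxm hxrad
  let DN : TorRes mS 𝒩 := locRes y hy' mS hym hyrad
  have hbM : ∀ i, IsBij ((D1 * D2 : ℕ) : ℤ) (DM.C i) := fun i => isBij_step x hx _
  have hbN : ∀ j, IsBij ((D1 * D2 : ℕ) : ℤ) (DN.C j) := fun j => isBij_step y hy' _
  have hsub : ∀ n : ℤ, 0 < n → ∀ r ∈ 𝒜 n, r ∈ mR.toIdeal := fun n hn r hr => by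
    rw [hmR]; exact Ideal.subset_span (Set.mem_iUnion₂.2 ⟨n, hn, hr⟩)
  have hsub' : ∀ n : ℤ, 0 < n → ∀ r ∈ ℬ n, r ∈ mS.toIdeal := fun n hn r hr => by
    rw [hmS]; exact Ideal.subset_span (Set.mem_iUnion₂.2 ⟨n, hn, hr⟩)
  obtain ⟨hP0, hP1, hPs⟩ := segre_pieces hT hP DM DN hsub hsub' hmT
    (D := ((D1 * D2 : ℕ) : ℤ)) (by exact_mod_cast Nat.mul_pos hD1 hD2) hbM hbN
    (EM := EM) (EN := EN) EP d (hM 0 d (Nat.zero_le _)) (hM 1 d le_rfl) (hN 0 d (Nat.zero_le _))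
    (hN 1 d le_rfl)
  obtain ⟨fM, hM0', hMs⟩ := kunH_dims hposR h0R hmR DM EM d (hM 0 d (Nat.zero_le _)) (hM 1 d le_rfl)
  obtain ⟨fN, hN0', hNs⟩ := kunH_dims hposS h0S hmS DN EN d (hN 0 d (Nat.zero_le _)) (hN 1 d le_rfl)
  have zM : ∀ i ≤ 1, Module.finrank k (hPiece EM mR i d) = 0 := fun i hi => by
    rw [hM i d hi, finrank_bot]
  have zN : ∀ i ≤ 1, Module.finrank k (hPiece EN mS i d) = 0 := fun i hi => by
    rw [hN i d hi, finrank_bot]
  match q with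
  | 0 =>
    rw [hP0, finrank_bot, Finset.sum_range_succ, Finset.sum_range_succ, Finset.sum_range_zero,
      zM 0 (by omega), zN 0 (by omega), zM 1 le_rfl]
    simp
  | 1 =>
    rw [hP1, finrank_bot, Finset.sum_range_succ, Finset.sum_range_succ, Finset.sum_range_succ,
      Finset.sum_range_zero, zM 0 (by omega), zM 1 le_rfl, zN 1 le_rfl]
    simp [zN 0 (by omega)]
  | m + 2 =>
    obtain ⟨e⟩ := hPs m
    haveI := fM
    haveI := fN
    rw [← e.finrank_eq, Module.finrank_pi_fintype]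
    simp only [Module.finrank_tensorProduct]
    rw [Finset.sum_coe_sort (Finset.HasAntidiagonal.antidiagonal (m + 1))
      (fun p : ℕ × ℕ => Module.finrank k (Kun.H (dP DM d) p.1) *
        Module.finrank k (Kun.H (dP DN d) p.2)),
      Finset.Nat.sum_antidiagonal_eq_sum_range_succ (fun i j =>
        Module.finrank k (Kun.H (dP DM d) i) * Module.finrank k (Kun.H (dP DN d) j)) (m + 1)]
    exact sum_eq_of_vanish _ _ (fun i => Module.finrank k (hPiece EM mR i d))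
      (fun j => Module.finrank k (hPiece EN mS j d))
      (fun i => Module.finrank k (Kun.H (dP DM d) i)) (fun j => Module.finrank k (Kun.H (dP DN d) j))
      hM0' hN0' hMs hNs (zM 0 (by omega)) (zM 1 le_rfl) (zN 0 (by omega)) (zN 1 le_rfl) m

end Groth.Misc15.SegLC
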