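import Mathlib
import Groth.Agent.Misc15.SegLC.SegFormula
import Groth.Agent.Misc15.SegreCMOne
import Groth.Agent.GrMod.Res

/-!
The Cohen–Macaulay criterion for Segre products.
-/

set_option autoImplicit false

universe u

open scoped TensorProduct
open DirectSum GrLC

namespace Groth.Misc15.SegLC

variable {k : Type u} [Field k]
variable {R : Type u} [CommRing R] [Algebra k R] {𝒜 : ℤ → Submodule k R} [GradedAlgebra 𝒜]
  [Nontrivial R] [Algebra.FiniteType k R]
  (hposR : ∀ n : ℤ, n < 0 → 𝒜 n = ⊥) (h0R : 𝒜 0 = Submodule.span k {(1 : R)})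
  {mR : HomogeneousIdeal 𝒜}
  (hmR : mR.toIdeal = Ideal.span (⋃ n ∈ Set.Ioi (0 : ℤ), (𝒜 n : Set R)))
  {r : ℕ} (hr : ringKrullDim R = r) (I : StarInjRes 𝒜 𝒜)

include hposR h0R hmR hr in
/-- Cohen–Macaulay rings have no local cohomology below the dimension. -/
theorem hPiece_eq_bot_of_lt [LocCoh.IsCohenMacaulayRing R] {i : ℕ} (hi : i < r) (g : ℤ) :
    hPiece I mR i g = ⊥ := by
  haveI : IsNoetherianRing R := Algebra.FiniteType.isNoetherianRing k R
  obtain ⟨L, hlen, hL, hreg⟩ := GrRegSeq.exists_regSeq 𝒜 hposR h0R hr (e := 1) one_pos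
  have hm := GrRegSeq.toIdeal_eq_irr 𝒜 hposR hmR
  have hd : (r : ℕ∞) ≤ LocCoh.idealDepth mR.toIdeal R := by
    rw [LocCoh.idealDepth]
    split
    · exact le_top
    · refine le_trans (le_of_eq ?_) (le_iSup₂ (L.map Prod.snd) ⟨hreg, fun x hx => ?_⟩)
      · rw [List.length_map, hlen]
      · obtain ⟨p, hp, rfl⟩ := List.mem_map.1 hx
        rw [hm]
        exact GrCurve.mem_irr_of_mem 𝒜 hposR (hL p hp).2 (by
          exact_mod_cast Nat.mul_pos one_pos (hL p hp).1)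
  have hs : Subsingleton (LocCoh.H mR.toIdeal i R) :=
    (Groth.LocCohBase.le_idealDepth_iff_localCohomology mR.toIdeal r R).1 hd i hi
  obtain ⟨e⟩ : Nonempty (I.H mR i ≃ₗ[R] LocCoh.H mR.toIdeal i R) :=
    GrothGr.nonempty_H_equiv (cls 𝒜) (clsM 𝒜) ⟨mR.toIdeal, isHomogeneous_cls 𝒜 mR.isHomogeneous⟩
      (clsRes I) i
  haveI : Subsingleton (I.H mR i) := e.toEquiv.subsingleton
  exact (Submodule.eq_bot_iff _).2 fun x _ => Subsingleton.elim x 0

include hposR h0R hmR hr in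
/-- Vanishing below the dimension gives the Cohen–Macaulay property. -/
theorem isCM_of_vanish (h : ∀ i < r, ∀ g, hPiece I mR i g = ⊥) :
    LocCoh.IsCohenMacaulayRing R := by
  classical
  haveI : IsNoetherianRing R := Algebra.FiniteType.isNoetherianRing k R
  have hm := GrRegSeq.toIdeal_eq_irr 𝒜 hposR hmR
  have hsub : ∀ i < r, Subsingleton (LocCoh.H mR.toIdeal i R) := by
    intro i hi
    obtain ⟨e⟩ : Nonempty (I.H mR i ≃ₗ[R] LocCoh.H mR.toIdeal i R) :=
      GrothGr.nonempty_H_equiv (cls 𝒜) (clsM 𝒜) ⟨mR.toIdeal, isHomogeneous_cls 𝒜 mR.isHomogeneous⟩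
        (clsRes I) i
    suffices Subsingleton (I.H mR i) from e.symm.toEquiv.subsingleton
    have hint := GrothGr.Hgr_isInternal (cls 𝒜) (clsM 𝒜) (clsRes I)
      ⟨mR.toIdeal, isHomogeneous_cls 𝒜 mR.isHomogeneous⟩ i
    refine subsingleton_of_forall_eq 0 fun x => ?_
    obtain ⟨y, rfl⟩ := hint.2 x
    induction y using DirectSum.induction_on with
    | zero => exact map_zero _
    | of g z =>
      exact (DirectSum.coeAddMonoidHom_of _ g z).trans
        ((Submodule.eq_bot_iff _).1 (h i hi g) _ z.2)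
    | add a b ha hb => exact (map_add _ a b).trans ((congrArg₂ (· + ·) ha hb).trans (add_zero _))
  have hd := (Groth.LocCohBase.le_idealDepth_iff_localCohomology mR.toIdeal r R).2 hsub
  refine GrCM.isCM_of_le_depth 𝒜 hposR h0R hr ?_
  by_contra hne
  push Not at hne
  haveI hmax := GrCurve.irr_isMaximal 𝒜 hposR h0R
  have hne' : mR.toIdeal • (⊤ : Submodule R R) ≠ ⊤ := by
    rw [smul_eq_mul, Ideal.mul_top, hm]
    exact hmax.ne_top
  rcases Nat.eq_zero_or_pos r with h0 | hpos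
  · obtain ⟨x, hx, -⟩ := hne [] (by simp [h0]) (RingTheory.Sequence.IsWeaklyRegular.nil R R)
    simp at hx
  · rw [LocCoh.idealDepth, if_neg hne'] at hd
    have hle : (⨆ (rs : List R) (_ : RingTheory.Sequence.IsWeaklyRegular R rs ∧
        ∀ x ∈ rs, x ∈ mR.toIdeal), (rs.length : ℕ∞)) ≤ ((r - 1 : ℕ) : ℕ∞) := by
      refine iSup₂_le fun rs hrs => ?_
      by_contra hlt
      push Not at hlt
      have hlt' : r - 1 < rs.length := by exact_mod_cast hlt
      have hreg : RingTheory.Sequence.IsWeaklyRegular R (rs.take r) := by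
        have h1 := hrs.1
        rw [← List.take_append_drop r rs, RingTheory.Sequence.isWeaklyRegular_append_iff] at h1
        exact h1.1
      obtain ⟨x, hx, hxm⟩ := hne (rs.take r) (by rw [List.length_take]; omega) hreg
      exact hxm (hm ▸ hrs.2 x (List.mem_of_mem_take hx))
    have := hd.trans hle
    have : r ≤ r - 1 := by exact_mod_cast this
    omega

include hposR h0R hmR hr in
/-- Local cohomology vanishes above the dimension. -/
theorem hPiece_eq_bot_of_gt {i : ℕ} (hi : r < i) (g : ℤ) : hPiece I mR i g = ⊥ := by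
  haveI : IsNoetherianRing R := Algebra.FiniteType.isNoetherianRing k R
  haveI : Subsingleton (LocCoh.H mR.toIdeal i R) :=
    Groth.LocCohBase.subsingleton_H_of_supportDim_lt mR.toIdeal R (by
      rw [Module.supportDim_self_eq_ringKrullDim, hr]; exact_mod_cast hi)
  obtain ⟨e⟩ : Nonempty (I.H mR i ≃ₗ[R] LocCoh.H mR.toIdeal i R) :=
    GrothGr.nonempty_H_equiv (cls 𝒜) (clsM 𝒜) ⟨mR.toIdeal, isHomogeneous_cls 𝒜 mR.isHomogeneous⟩
      (clsRes I) i
  haveI : Subsingleton (I.H mR i) := e.toEquiv.subsingleton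
  exact (Submodule.eq_bot_iff _).2 fun x _ => Subsingleton.elim x 0

omit [Nontrivial R] [Algebra.FiniteType k R] in
theorem IsStarInj.ofCls {X : GMod.{u} (cls 𝒜)} (hX : IsStarInj (cls 𝒜) X.gr) :
    haveI : SetLike.GradedSMul 𝒜 X.gr := ⟨fun {a j r m} hr hm =>
      SetLike.GradedSMul.smul_mem (A := cls 𝒜) (B := X.gr) (i := a) (j := j) hr hm⟩
    IsStarInj 𝒜 X.gr := by
  intro A B f hf hfi g hg
  haveI hA : SetLike.GradedSMul (cls 𝒜) A.gr :=
    ⟨fun {a j r m} hr hm =>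
      SetLike.GradedSMul.smul_mem (A := 𝒜) (B := A.gr) (i := a) (j := j) hr hm⟩
  haveI hB : SetLike.GradedSMul (cls 𝒜) B.gr :=
    ⟨fun {a j r m} hr hm =>
      SetLike.GradedSMul.smul_mem (A := 𝒜) (B := B.gr) (i := a) (j := j) hr hm⟩
  exact hX (GMod.of (cls 𝒜) A.carrier A.gr) (GMod.of (cls 𝒜) B.carrier B.gr) f hf hfi g hg

/-- A resolution for the grading by subspaces from one for the grading by additive subgroups. -/
noncomputable def someRes : StarInjRes 𝒜 𝒜 :=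
  haveI : ∀ n, SetLike.GradedSMul 𝒜 ((GrothGr.starRes (cls 𝒜) (clsM 𝒜)).X n).gr := fun n =>
    ⟨fun {a j r m} hr hm => SetLike.GradedSMul.smul_mem (A := cls 𝒜)
      (B := ((GrothGr.starRes (cls 𝒜) (clsM 𝒜)).X n).gr) (i := a) (j := j) hr hm⟩
  { X := fun n => GMod.of 𝒜 ((GrothGr.starRes (cls 𝒜) (clsM 𝒜)).X n).carrier
      ((GrothGr.starRes (cls 𝒜) (clsM 𝒜)).X n).gr
    d := (GrothGr.starRes (cls 𝒜) (clsM 𝒜)).d
    ε := (GrothGr.starRes (cls 𝒜) (clsM 𝒜)).ε
    d_grHom := (GrothGr.starRes (cls 𝒜) (clsM 𝒜)).d_grHom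
    ε_grHom := (GrothGr.starRes (cls 𝒜) (clsM 𝒜)).ε_grHom
    ε_injective := (GrothGr.starRes (cls 𝒜) (clsM 𝒜)).ε_injective
    exact_zero := (GrothGr.starRes (cls 𝒜) (clsM 𝒜)).exact_zero
    exact_succ := (GrothGr.starRes (cls 𝒜) (clsM 𝒜)).exact_succ
    starInj := fun n => IsStarInj.ofCls ((GrothGr.starRes (cls 𝒜) (clsM 𝒜)).starInj n) }

variable {S : Type u} [CommRing S] [Algebra k S] {ℬ : ℤ → Submodule k S} [GradedAlgebra ℬ]
  [Nontrivial S] [Algebra.FiniteType k S]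
  (hposS : ∀ n : ℤ, n < 0 → ℬ n = ⊥) (h0S : ℬ 0 = Submodule.span k {(1 : S)})
  {mS : HomogeneousIdeal ℬ}
  (hmS : mS.toIdeal = Ideal.span (⋃ n ∈ Set.Ioi (0 : ℤ), (ℬ n : Set S)))
  {s : ℕ} (hs : ringKrullDim S = s) (J : StarInjRes ℬ ℬ)
variable {T : Type u} [CommRing T] [Algebra k T] {𝒯 : ℤ → Submodule k T} [GradedAlgebra 𝒯]
  {ψ : T →ₐ[k] R ⊗[k] S} (hT : GrSeg.IsSegreRing 𝒜 ℬ 𝒯 ψ)

include hposR h0R hmR hr hposS h0S hmS hs hT in
/-- The criterion. -/
theorem isCM_segre_iff [LocCoh.IsCohenMacaulayRing R] [LocCoh.IsCohenMacaulayRing S]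
    (h2r : 2 ≤ r) (h2s : 2 ≤ s) :
    LocCoh.IsCohenMacaulayRing T ↔
      (∀ n : ℤ, 𝒜 n = ⊥ ∨ hPiece J mS s n = ⊥) ∧ (∀ n : ℤ, hPiece I mR r n = ⊥ ∨ ℬ n = ⊥) := by
  haveI : IsNoetherianRing R := Algebra.FiniteType.isNoetherianRing k R
  haveI : IsNoetherianRing S := Algebra.FiniteType.isNoetherianRing k S
  haveI : Nontrivial T := nontrivial_segre ψ
  haveI := SegreCMOne.finiteType 𝒜 ℬ 𝒯 ψ hT.1 hT.2 hposR h0R hposS h0S
  haveI : IsNoetherianRing T := Algebra.FiniteType.isNoetherianRing k T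
  have hposT := SegreDimOne.t_pos 𝒜 ℬ 𝒯 ψ hT.1 hT.2 hposR
  have h0T := SegreDimOne.t_zero 𝒜 ℬ 𝒯 ψ hT.1 hT.2 h0R h0S
  have hdim : ringKrullDim T = ((r + s - 1 : ℕ) : WithBot ℕ∞) :=
    Groth.Agent.S18647.result k R 𝒜 hposR h0R S ℬ hposS h0S T 𝒯 ψ hT.1 hT.2 r s hr hs (by omega)
      (by omega)
  let mT : HomogeneousIdeal 𝒯 := ⟨Ideal.span (⋃ n ∈ Set.Ioi (0 : ℤ), (𝒯 n : Set T)), by
    refine Ideal.homogeneous_span 𝒯 _ fun x hx => ?_
    obtain ⟨n, -, hxn⟩ := Set.mem_iUnion₂.1 hx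
    exact ⟨n, hxn⟩⟩
  let IT : StarInjRes 𝒯 𝒯 := someRes (𝒜 := 𝒯)
  have hvR : ∀ i < r, ∀ g, hPiece I mR i g = ⊥ := fun i hi g =>
    hPiece_eq_bot_of_lt hposR h0R hmR hr I hi g
  have hvS : ∀ j < s, ∀ g, hPiece J mS j g = ⊥ := fun j hj g =>
    hPiece_eq_bot_of_lt hposS h0S hmS hs J hj g
  have hform := fun q d => finrank_segre (M := R) (N := S) (P := T) (ℳ := 𝒜) (𝒩 := ℬ) (𝒬 := 𝒯)
    hposR h0R hposS h0S hT hmR hmS (mT := mT) rfl (isSegreMod_self hT) I J IT
    (fun q d hq => hvR q (by omega) d) (fun q d hq => hvS q (by omega) d) q d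
  have hfT : ∀ q d, FiniteDimensional k (hPiece IT mT q d) := fun q d =>
    finiteDimensional_hPiece hposT h0T mT (GrRegSeq.toIdeal_eq_irr 𝒯 hposT rfl) IT q d
  have hfR : ∀ q d, FiniteDimensional k (hPiece I mR q d) := fun q d =>
    finiteDimensional_hPiece hposR h0R mR (GrRegSeq.toIdeal_eq_irr 𝒜 hposR hmR) I q d
  have hfS : ∀ q d, FiniteDimensional k (hPiece J mS q d) := fun q d =>
    finiteDimensional_hPiece hposS h0S mS (GrRegSeq.toIdeal_eq_irr ℬ hposS hmS) J q d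
  have hpR : ∀ d, FiniteDimensional k (Groth.GrDualH.piece 𝒜 𝒜 d) := fun d =>
    Groth.GrDualH.finiteDimensional_piece (M := R) (ℳ := 𝒜) h0R (Or.inl inferInstance) d
  have hpS : ∀ d, FiniteDimensional k (Groth.GrDualH.piece ℬ ℬ d) := fun d =>
    Groth.GrDualH.finiteDimensional_piece (M := S) (ℳ := ℬ) h0S (Or.inl inferInstance) d
  have zero_iff : ∀ {V : Type u} [AddCommGroup V] [Module k V] (W : Submodule k V)
      [FiniteDimensional k W], Module.finrank k W = 0 ↔ W = ⊥ := fun W _ => Submodule.finrank_eq_zero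
  have hsum : ∀ q < r + s - 1, ∀ d, (Finset.range (q + 2)).sum (fun i =>
      Module.finrank k (hPiece I mR i d) * Module.finrank k (hPiece J mS (q + 1 - i) d)) = 0 := by
    intro q hq d
    refine Finset.sum_eq_zero fun i _ => ?_
    by_cases hi : i < r
    · rw [hvR i hi d, finrank_bot, zero_mul]
    · rw [hvS (q + 1 - i) (by omega) d, finrank_bot, mul_zero]
  constructor
  · intro hcm
    have hv : ∀ q < r + s - 1, ∀ d, Module.finrank k (hPiece IT mT q d) = 0 := fun q hq d => by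
      rw [hPiece_eq_bot_of_lt hposT h0T (mR := mT) rfl hdim IT hq d, finrank_bot]
    constructor
    · intro n
      have h := hv s (by omega) n
      rw [hform, hsum s (by omega) n, add_zero, Nat.add_eq_zero_iff, mul_eq_zero] at h
      exact h.1.imp (fun h => (zero_iff (Groth.GrDualH.piece 𝒜 𝒜 n)).1 h)
        (fun h => (zero_iff _).1 h)
    · intro n
      have h := hv r (by omega) n
      rw [hform, hsum r (by omega) n, add_zero, Nat.add_eq_zero_iff, mul_eq_zero, mul_eq_zero] at h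
      exact h.2.imp (fun h => (zero_iff _).1 h)
        (fun h => (zero_iff (Groth.GrDualH.piece ℬ ℬ n)).1 h)
  · rintro ⟨h1, h2⟩
    refine isCM_of_vanish hposT h0T (mR := mT) rfl hdim IT fun q hq d => (zero_iff _).1 ?_
    rw [hform, hsum q hq d, add_zero, Nat.add_eq_zero_iff]
    constructor
    · by_cases hqs : q = s
      · subst hqs
        rcases h1 d with h | h
        · rw [show Groth.GrDualH.piece 𝒜 𝒜 d = ⊥ from h, finrank_bot, zero_mul]
        · rw [h, finrank_bot, mul_zero]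
      · rcases lt_or_gt_of_ne hqs with h | h
        · rw [hvS q h d, finrank_bot, mul_zero]
        · rw [hPiece_eq_bot_of_gt hposS h0S hmS hs J h d, finrank_bot, mul_zero]
    · by_cases hqr : q = r
      · subst hqr
        rcases h2 d with h | h
        · rw [h, finrank_bot, zero_mul]
        · rw [show Groth.GrDualH.piece ℬ ℬ d = ⊥ from h, finrank_bot, mul_zero]
      · rcases lt_or_gt_of_ne hqr with h | h
        · rw [hvR q h d, finrank_bot, zero_mul]
        · rw [hPiece_eq_bot_of_gt hposR h0R hmR hr I h d, finrank_bot, zero_mul]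

end Groth.Misc15.SegLC
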