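import Mathlib
import Groth.Agent.Misc15.SegLC.SegCM

/-!
The Cohen–Macaulay criterion for Segre products of standard graded rings.
-/

set_option autoImplicit false

universe u

open DirectSum GrLC

namespace Groth.Misc15.SegLC

theorem nontrivial_of_dim {A : Type u} [CommRing A] {r : ℕ} (hr : ringKrullDim A = r) :
    Nontrivial A := by
  by_contra h
  rw [not_nontrivial_iff_subsingleton] at h
  rw [ringKrullDim_eq_bot_of_subsingleton] at hr
  simp at hr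

variable {k : Type u} [Field k]
variable {R : Type u} [CommRing R] [Algebra k R] {𝒜 : ℤ → Submodule k R} [GradedAlgebra 𝒜]

theorem hPiece_eq_bot_iff {a : HomogeneousIdeal 𝒜} {M : Type u} [AddCommGroup M] [Module R M]
    [Module k M] [IsScalarTower k R M] {τ : Type u} [SetLike τ M] [AddSubgroupClass τ M]
    {ℳ : ℤ → τ} [DirectSum.Decomposition ℳ] [SetLike.GradedSMul 𝒜 ℳ] {E : StarInjRes 𝒜 ℳ} {q : ℕ}
    {d : ℤ} : hPiece E a q d = ⊥ ↔ E.Hcomp a q d = ⊥ :=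
  ⟨fun h => (Submodule.eq_bot_iff _).2 ((Submodule.eq_bot_iff (hPiece E a q d)).1 h),
    hPiece_eq_bot_of⟩

/-- Standard graded rings of positive dimension have no vanishing pieces in nonnegative degrees. -/
theorem piece_ne_bot [Algebra.FiniteType k R] (hposR : ∀ n : ℤ, n < 0 → 𝒜 n = ⊥)
    (h0R : 𝒜 0 = Submodule.span k {(1 : R)}) {mR : HomogeneousIdeal 𝒜}
    (hmR : mR.toIdeal = Ideal.span (⋃ n ∈ Set.Ioi (0 : ℤ), (𝒜 n : Set R)))
    (hstd : Ideal.span (⋃ n ∈ Set.Ioi (0 : ℤ), (𝒜 n : Set R)) =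
      Ideal.span ((𝒜 1 : Submodule k R) : Set R))
    {r : ℕ} (hr : ringKrullDim R = r) (h1r : 1 ≤ r) {n : ℤ} (hn : 0 ≤ n) : 𝒜 n ≠ ⊥ := by
  haveI := nontrivial_of_dim hr
  obtain ⟨m, rfl⟩ := Int.eq_ofNat_of_zero_le hn
  intro hb
  have hnil : ∀ x ∈ 𝒜 1, IsNilpotent x := fun x hx => by
    refine ⟨m, ?_⟩
    have := SetLike.pow_mem_graded m hx
    rwa [nsmul_eq_mul, mul_one, hb, Submodule.mem_bot] at this
  have hirr : GrCurve.irr 𝒜 hposR ≤ nilradical R := by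
    rw [← GrRegSeq.toIdeal_eq_irr 𝒜 hposR hmR, hmR, hstd, Ideal.span_le]
    exact fun x hx => mem_nilradical.2 (hnil x hx)
  haveI hmax := GrCurve.irr_isMaximal 𝒜 hposR h0R
  haveI : Ring.KrullDimLE 0 R :=
    Ring.krullDimLE_zero_iff_forall_minimalPrimes_isMaximal.2 fun P hP => by
      have hPp : P.IsPrime := hP.1.1
      rw [← hmax.eq_of_le hPp.ne_top (hirr.trans (nilradical_le_prime P))]
      exact hmax
  have := Order.KrullDimLE.krullDim_le (α := PrimeSpectrum R) (n := 0)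
  rw [show Order.krullDim (PrimeSpectrum R) = (r : WithBot ℕ∞) from hr] at this
  have : r ≤ 0 := by exact_mod_cast this
  omega

/-- The end is negative exactly when the pieces meet those of the ring trivially. -/
theorem endDeg_neg_iff [Algebra.FiniteType k R] (hposR : ∀ n : ℤ, n < 0 → 𝒜 n = ⊥)
    (h0R : 𝒜 0 = Submodule.span k {(1 : R)}) {mR : HomogeneousIdeal 𝒜}
    (hmR : mR.toIdeal = Ideal.span (⋃ n ∈ Set.Ioi (0 : ℤ), (𝒜 n : Set R)))
    (hstd : Ideal.span (⋃ n ∈ Set.Ioi (0 : ℤ), (𝒜 n : Set R)) =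
      Ideal.span ((𝒜 1 : Submodule k R) : Set R))
    {r : ℕ} (hr : ringKrullDim R = r) (h2r : 2 ≤ r)
    {S : Type u} [CommRing S] [Algebra k S] {ℬ : ℤ → Submodule k S} [GradedAlgebra ℬ]
    [Algebra.FiniteType k S] (hposS : ∀ n : ℤ, n < 0 → ℬ n = ⊥)
    (h0S : ℬ 0 = Submodule.span k {(1 : S)}) {mS : HomogeneousIdeal ℬ}
    (hmS : mS.toIdeal = Ideal.span (⋃ n ∈ Set.Ioi (0 : ℤ), (ℬ n : Set S)))
    (_hstdS : Ideal.span (⋃ n ∈ Set.Ioi (0 : ℤ), (ℬ n : Set S)) =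
      Ideal.span ((ℬ 1 : Submodule k S) : Set S))
    {s : ℕ} (_hs : ringKrullDim S = s) (_h2s : 2 ≤ s) (J : StarInjRes ℬ ℬ) :
    GrLC.endDeg (J.Hgr mS s) < 0 ↔ ∀ n : ℤ, 𝒜 n = ⊥ ∨ hPiece J mS s n = ⊥ := by
  have hiff : ∀ n, J.Hgr mS s n = ⊥ ↔ hPiece J mS s n = ⊥ := fun n =>
    ⟨fun h => (Submodule.eq_bot_iff _).2 ((AddSubgroup.eq_bot_iff_forall _).1 h),
      fun h => (AddSubgroup.eq_bot_iff_forall _).2 ((Submodule.eq_bot_iff (hPiece J mS s n)).1 h)⟩
  constructor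
  · intro h n
    by_cases hn : 0 ≤ n
    · right
      rw [← hiff]
      by_contra hne
      have h2 : ((n : WithTop ℤ) : WithBot (WithTop ℤ)) < 0 :=
        lt_of_le_of_lt (le_iSup₂ (f := fun (m : ℤ) (_ : J.Hgr mS s m ≠ ⊥) =>
          ((m : WithTop ℤ) : WithBot (WithTop ℤ))) n hne) h
      have : n < 0 := by exact_mod_cast h2
      omega
    · exact Or.inl (hposR n (not_le.1 hn))
  · intro h
    refine lt_of_le_of_lt (iSup₂_le fun n hne => ?_)
      (show ((( -1 : ℤ) : WithTop ℤ) : WithBot (WithTop ℤ)) < 0 by exact_mod_cast (by norm_num : (-1 : ℤ) < 0))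
    by_cases hn : 0 ≤ n
    · exact absurd ((hiff n).2 ((h n).resolve_left
        (piece_ne_bot hposR h0R hmR hstd hr (by omega) hn))) hne
    · exact WithBot.coe_le_coe.2 (WithTop.coe_le_coe.2 (by omega))

end Groth.Misc15.SegLC
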