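import Mathlib
import Groth.Agent.Misc15.SegLC.SegCM
import Groth.Agent.Ega4Algebra1.SuppLoc
import Groth.Agent.EGA41Two.CMPrime
import Groth.Agent.GrMod.Bass
import Groth.Agent.GrMod.SupportDim
import Groth.Agent.GrMod.StarInjDim
import Groth.Agent.DualCore.Depth

/-!
Cohen–Macaulay graded modules over positively graded algebras and their local cohomology.
-/

set_option autoImplicit false

universe u

open DirectSum GrLC IsLocalRing
open scoped TensorProduct

namespace Groth.Misc15.SegLC

/-- Cohen–Macaulay at every prime of the support. -/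
def CMAll (R : Type u) [CommRing R] (M : Type u) [AddCommGroup M] [Module R M] : Prop :=
  ∀ (q : Ideal R) [q.IsPrime], Subsingleton (LocalizedModule q.primeCompl M) ∨
    LocCoh.IsCohenMacaulayModule (Localization.AtPrime q) (LocalizedModule q.primeCompl M)

variable {k : Type u} [Field k]
variable {R : Type u} [CommRing R] [Algebra k R] {𝒜 : ℤ → Submodule k R} [GradedAlgebra 𝒜]
  (hposR : ∀ n : ℤ, n < 0 → 𝒜 n = ⊥) (h0R : 𝒜 0 = Submodule.span k {(1 : R)})

section Nakayama

variable {N : Type u} [AddCommGroup N] [Module R N] (𝒩 : ℤ → AddSubgroup N)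
  [DirectSum.Decomposition 𝒩] [SetLike.GradedSMul 𝒜 𝒩]

include hposR in
theorem pr_min_smul {g0 : ℤ} {z : N} (hmin : ∀ g < g0, GrothGr.pr 𝒩 g z = 0) (r : R) :
    GrothGr.pr 𝒩 g0 (r • z) = (decompose 𝒜 r 0 : R) • GrothGr.pr 𝒩 g0 z := by
  classical
  induction r using DirectSum.Decomposition.inductionOn 𝒜 with
  | zero => simp
  | add a b ha hb => rw [add_smul, map_add, ha, hb, decompose_add, DirectSum.add_apply,
      Submodule.coe_add, add_smul]
  | @homogeneous i a =>
    rw [GrothGr.pr_smul 𝒩 𝒜 a.2]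
    rcases lt_trichotomy i 0 with hi | rfl | hi
    · rw [GrCurve.eq_zero_of_mem_neg 𝒜 hposR hi a.2]
      simp
    · rw [decompose_of_mem_same 𝒜 a.2, sub_zero]
    · rw [hmin _ (by omega), decompose_of_mem_ne 𝒜 a.2 hi.ne', smul_zero, zero_smul]

include 𝒩 hposR h0R in
/-- Elements outside the irrelevant ideal act injectively on graded modules. -/
theorem eq_zero_of_smul {s : R} (hs : s ∉ GrCurve.irr 𝒜 hposR) {z : N} (h : s • z = 0) :
    z = 0 := by
  classical
  by_contra hz
  have hne : (decompose 𝒩 z).support.Nonempty := by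
    rw [Finset.nonempty_iff_ne_empty]
    intro he
    exact hz (by rw [← sum_support_decompose 𝒩 z, he, Finset.sum_empty])
  set g0 := (decompose 𝒩 z).support.min' hne
  have hmin : ∀ g < g0, GrothGr.pr 𝒩 g z = 0 := by
    intro g hg
    rw [GrothGr.pr_apply]
    by_contra hne'
    have : g ∈ (decompose 𝒩 z).support := DFinsupp.mem_support_iff.2 fun h0 => hne' (by
      rw [h0]; rfl)
    exact absurd (Finset.min'_le _ g this) (not_le.2 hg)
  have hg0 : GrothGr.pr 𝒩 g0 z ≠ 0 := fun h0 =>
    DFinsupp.mem_support_iff.1 (Finset.min'_mem _ hne) (Subtype.ext h0)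
  have h1 := pr_min_smul hposR 𝒩 hmin s
  rw [h, map_zero] at h1
  have h00 : (decompose 𝒜 s 0 : R) ∈ Submodule.span k {(1 : R)} := h0R ▸ (decompose 𝒜 s 0).2
  obtain ⟨c, hc⟩ := Submodule.mem_span_singleton.1 h00
  have hc0 : c ≠ 0 := fun h0 => hs (by rw [GrCurve.mem_irr, ← hc, h0, zero_smul])
  refine hg0 ?_
  rw [← hc, Algebra.smul_def, mul_one] at h1
  have h2 : algebraMap k R c⁻¹ • algebraMap k R c • GrothGr.pr 𝒩 g0 z = 0 := by
    rw [← h1, smul_zero]
  rwa [smul_smul, ← map_mul, inv_mul_cancel₀ hc0, map_one, one_smul] at h2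

include 𝒩 hposR h0R in
theorem subsingleton_of_localized (m : Ideal R) [m.IsPrime] (hm : m = GrCurve.irr 𝒜 hposR)
    (h : Subsingleton (LocalizedModule m.primeCompl N)) : Subsingleton N := by
  refine subsingleton_of_forall_eq 0 fun z => ?_
  obtain ⟨s, hs, hsz⟩ := LocalizedModule.subsingleton_iff.1 h z
  exact eq_zero_of_smul hposR h0R 𝒩 (hm ▸ hs) hsz

end Nakayama

variable [Algebra.FiniteType k R] [Nontrivial R]
variable {M : Type u} [AddCommGroup M] [Module R M] [Module.Finite R M]
  {τ : Type u} [SetLike τ M] [AddSubgroupClass τ M] (ℳ : ℤ → τ) [DirectSum.Decomposition ℳ]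
  [SetLike.GradedSMul 𝒜 ℳ]

include ℳ hposR h0R in
/-- Depth along a homogeneous ideal is computed at the vertex. -/
theorem le_idealDepth_of_localized (m : Ideal R) [m.IsPrime] (hm : m = GrCurve.irr 𝒜 hposR)
    (a : HomogeneousIdeal (cls 𝒜)) (n : ℕ)
    (h : (n : ℕ∞) ≤ LocCoh.idealDepth (a.toIdeal.map (algebraMap R (Localization.AtPrime m)))
      (LocalizedModule m.primeCompl M)) :
    (n : ℕ∞) ≤ LocCoh.idealDepth a.toIdeal M := by
  haveI : IsNoetherianRing R := Algebra.FiniteType.isNoetherianRing k R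
  rw [Groth.LocCohBase.le_idealDepth_iff_localCohomology] at h ⊢
  intro i hi
  let A := Localization.AtPrime m
  let eM : A ⊗[R] M ≃ₗ[A] LocalizedModule m.primeCompl M :=
    (IsLocalizedModule.isBaseChange m.primeCompl A
      (LocalizedModule.mkLinearMap m.primeCompl M)).equiv
  haveI : Subsingleton (LocCoh.H (a.toIdeal.map (algebraMap R A)) i (A ⊗[R] M)) :=
    (Groth.LocCohBase.subsingleton_H_congr _ i eM).2 (h i hi)
  obtain ⟨e₁⟩ := Groth.LocCohTransform.nonempty_baseChange_equiv A a.toIdeal M i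
  haveI : Subsingleton (A ⊗[R] LocCoh.H a.toIdeal i M) := e₁.toEquiv.subsingleton
  haveI hloc : Subsingleton (LocalizedModule m.primeCompl (LocCoh.H a.toIdeal i M)) :=
    (IsLocalizedModule.isBaseChange m.primeCompl A
      (LocalizedModule.mkLinearMap m.primeCompl (LocCoh.H a.toIdeal i M))).equiv.symm.toEquiv.subsingleton
  let E := GrothGr.starRes (cls 𝒜) (clsM ℳ)
  obtain ⟨eH⟩ := GrothGr.nonempty_H_equiv (cls 𝒜) (clsM ℳ) a E i
  letI := (GrothGr.Hgr_isInternal (cls 𝒜) (clsM ℳ) E a i).chooseDecomposition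
  haveI : SetLike.GradedSMul 𝒜 (E.Hgr a i) := ⟨fun {b j r x} hr hx => by
    obtain ⟨z, hz, rfl⟩ := hx
    exact ⟨r • z, GrothGr.smul_mem (E.X i).gr (cls 𝒜) (a := b) hr hz, map_smul _ _ _⟩⟩
  haveI : Subsingleton (E.H a i) := by
    refine subsingleton_of_localized hposR h0R (E.Hgr a i) m hm (LocalizedModule.subsingleton_iff.2 ?_)
    intro z
    obtain ⟨s, hs, hsz⟩ := LocalizedModule.subsingleton_iff.1 hloc (eH z)
    exact ⟨s, hs, eH.injective (by rw [map_smul, hsz, map_zero])⟩
  exact eH.symm.toEquiv.subsingleton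

omit [GradedAlgebra 𝒜] [Module.Finite R M] [Nontrivial R] [Algebra.FiniteType k R] in
/-- The dimension at a smaller prime inside a localisation. -/
theorem supportDim_localized_map (m q : Ideal R) [m.IsPrime] [q.IsPrime] (hqm : q ≤ m)
    [(q.map (algebraMap R (Localization.AtPrime m))).IsPrime] :
    Module.supportDim (Localization.AtPrime (q.map (algebraMap R (Localization.AtPrime m))))
        (LocalizedModule (q.map (algebraMap R (Localization.AtPrime m))).primeCompl
          (LocalizedModule m.primeCompl M)) =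
      Module.supportDim (Localization.AtPrime q) (LocalizedModule q.primeCompl M) := by
  rw [Groth.Ega4Algebra1.supportDim_localizedModule_atPrime,
    Groth.Ega4Algebra1.supportDim_localizedModule_atPrime]
  let e := IsLocalization.AtPrime.primeSpectrumOrderIso (Localization.AtPrime m) m
  have hcomap : (q.map (algebraMap R (Localization.AtPrime m))).comap
      (algebraMap R (Localization.AtPrime m)) = q :=
    IsLocalization.under_map_of_isPrime_disjoint m.primeCompl _ inferInstance
      (Set.disjoint_left.2 fun a ha haq => ha (hqm haq))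
  have hle : ∀ P : PrimeSpectrum (Localization.AtPrime m),
      P.asIdeal ≤ q.map (algebraMap R (Localization.AtPrime m)) ↔
        (PrimeSpectrum.comap (algebraMap R (Localization.AtPrime m)) P).asIdeal ≤ q := by
    intro P
    constructor
    · intro h
      rw [← hcomap]
      exact Ideal.comap_mono h
    · intro h
      rw [← IsLocalization.map_under m.primeCompl (Localization.AtPrime m) P.asIdeal]
      exact Ideal.map_mono h
  have hmem : ∀ b : PrimeSpectrum R, ∀ hb : b.asIdeal ≤ m,
      PrimeSpectrum.comap (algebraMap R (Localization.AtPrime m)) (e.symm ⟨b, hb⟩) = b := fun b hb =>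
    congrArg Subtype.val (e.apply_symm_apply ⟨b, hb⟩)
  apply Order.krullDim_eq_of_orderIso
  exact
    { toFun := fun a => ⟨(e a.1).1,
        (Groth.Ega4Algebra1.mem_support_localizedModule_iff m.primeCompl a.1).mp a.2.1,
        (hle a.1).1 a.2.2⟩
      invFun := fun b => ⟨e.symm ⟨b.1, b.2.2.trans hqm⟩,
        (Groth.Ega4Algebra1.mem_support_localizedModule_iff m.primeCompl _).mpr
          (by rw [hmem]; exact b.2.1),
        (hle _).2 (by rw [hmem]; exact b.2.2)⟩
      left_inv := fun a => by apply Subtype.ext; exact e.symm_apply_apply a.1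
      right_inv := fun b => by apply Subtype.ext; exact hmem b.1 (b.2.2.trans hqm)
      map_rel_iff' := fun {a b} => e.le_iff_le (x := a.1) (y := b.1) }

include ℳ hposR h0R in
/-- Cohen–Macaulay at the vertex gives Cohen–Macaulay at smaller homogeneous primes. -/
theorem isCM_of_le (m : Ideal R) [m.IsPrime] (hm : m = GrCurve.irr 𝒜 hposR)
    (hcm : LocCoh.IsCohenMacaulayModule (Localization.AtPrime m) (LocalizedModule m.primeCompl M))
    (q : Ideal R) [q.IsPrime] (hqh : q.IsHomogeneous (cls 𝒜)) (hqm : q ≤ m)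
    [Nontrivial (LocalizedModule q.primeCompl M)] :
    LocCoh.IsCohenMacaulayModule (Localization.AtPrime q) (LocalizedModule q.primeCompl M) := by
  haveI : IsNoetherianRing R := Algebra.FiniteType.isNoetherianRing k R
  let B := Localization.AtPrime m
  let q' : Ideal B := q.map (algebraMap R B)
  have hdisj : Disjoint (m.primeCompl : Set R) q :=
    Set.disjoint_left.2 fun a ha haq => ha (hqm haq)
  haveI hq' : q'.IsPrime := IsLocalization.isPrime_of_isPrime_disjoint _ B q inferInstance hdisj
  haveI := Groth.LocCohBase.nontrivial_of_CM hcm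
  have hdim := supportDim_localized_map (M := M) m q hqm
  haveI hnt : Nontrivial (LocalizedModule q'.primeCompl (LocalizedModule m.primeCompl M)) := by
    rw [← Module.supportDim_ne_bot_iff_nontrivial (Localization.AtPrime q'), hdim,
      Module.supportDim_ne_bot_iff_nontrivial]
    infer_instance
  obtain ⟨n, hn⟩ := ENat.ne_top_iff_exists.1 (Groth.LocCohBase.idealDepth_ne_top
    (Groth.LocCohBase.smul_maximalIdeal_ne_top (LocalizedModule m.primeCompl M) hq'.ne_top))
  have h1 := Groth.EGA41Two.supportDim_localized_eq_idealDepth n _ hcm q' hnt hn.symm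
  rw [hdim] at h1
  have h2 : (n : ℕ∞) ≤ LocCoh.idealDepth q M :=
    le_idealDepth_of_localized hposR h0R ℳ m hm ⟨q, hqh⟩ n (le_of_eq hn)
  have h3 := h2.trans (Groth.LocCohBase.idealDepth_le_depth_localized q q le_rfl M)
  refine le_antisymm ?_ (Groth.LocCohBase.depth_le_supportDim _)
  rw [h1]
  exact WithBot.coe_le_coe.2 h3

include ℳ hposR h0R in
/-- Cohen–Macaulay at the vertex gives Cohen–Macaulay everywhere. -/
theorem cmAll_of_vertex (m : Ideal R) [m.IsPrime] (hm : m = GrCurve.irr 𝒜 hposR)
    (hcm : LocCoh.IsCohenMacaulayModule (Localization.AtPrime m) (LocalizedModule m.primeCompl M)) :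
    CMAll R M := by
  haveI : IsNoetherianRing R := Algebra.FiniteType.isNoetherianRing k R
  intro p _
  by_cases hs : Subsingleton (LocalizedModule p.primeCompl M)
  · exact Or.inl hs
  refine Or.inr ?_
  haveI hnt : Nontrivial (LocalizedModule p.primeCompl M) := not_subsingleton_iff_nontrivial.1 hs
  haveI : (GrothGr.core (cls 𝒜) p).IsPrime := GrothGr.isPrime_core_int (cls 𝒜) p
  have hle : ∀ (q : Ideal R) [q.IsPrime], q.IsHomogeneous (cls 𝒜) → q ≤ m := fun q _ hq =>
    hm ▸ GrCurve.le_irr 𝒜 hposR h0R (fun i x hx => hq i hx) (inferInstance : q.IsPrime).ne_top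
  by_cases hp : p.IsHomogeneous (cls 𝒜)
  · exact isCM_of_le hposR h0R ℳ m hm hcm p hp (hle p hp)
  have hcore : (GrothGr.core (cls 𝒜) p).IsHomogeneous (cls 𝒜) :=
    (p.homogeneousCore (cls 𝒜)).isHomogeneous
  have hh := GrothGr.height_core_eq_one (cls 𝒜) p hp
  haveI := GrothGr.core_mem_support (cls 𝒜) (clsM ℳ) hnt
  have h1 := GrothGr.supportDim_core (cls 𝒜) (clsM ℳ) p hh hnt
  have h2 := GrothGr.depth_core_shift (cls 𝒜) (clsM ℳ) p hh
  have h3 := isCM_of_le hposR h0R ℳ m hm hcm (GrothGr.core (cls 𝒜) p) hcore (hle _ hcore)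
  show Module.supportDim _ _ = _
  rw [h1, h2, show Module.supportDim _ _ = _ from h3]
  rfl

include ℳ hposR h0R in
/-- The dimension of a graded module is attained at the vertex. -/
theorem supportDim_vertex (m : Ideal R) [m.IsPrime] (hm : m = GrCurve.irr 𝒜 hposR) :
    Module.supportDim R M =
      Module.supportDim (Localization.AtPrime m) (LocalizedModule m.primeCompl M) := by
  classical
  haveI : IsNoetherianRing R := Algebra.FiniteType.isNoetherianRing k R
  haveI hmax : m.IsMaximal := hm ▸ GrCurve.irr_isMaximal 𝒜 hposR h0R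
  refine le_antisymm ?_ ?_
  · refine iSup_le fun l => ?_
    let p : Ideal R := l.last.1.asIdeal
    haveI hnt : Nontrivial (LocalizedModule p.primeCompl M) := Module.mem_support_iff.1 l.last.2
    have hlp : (l.length : WithBot ℕ∞) ≤
        Module.supportDim (Localization.AtPrime p) (LocalizedModule p.primeCompl M) := by
      rw [Groth.Ega4Algebra1.supportDim_localizedModule_atPrime, Order.le_krullDim_iff]
      exact ⟨⟨l.length, fun i => ⟨(l i).1, (l i).2, (show l i ≤ l.last from l.monotone (Fin.le_last i))⟩,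
        fun i => l.step i⟩, rfl⟩
    refine hlp.trans ?_
    haveI : (GrothGr.core (cls 𝒜) p).IsPrime := GrothGr.isPrime_core_int (cls 𝒜) p
    have hle : ∀ (q : Ideal R) [q.IsPrime], q.IsHomogeneous (cls 𝒜) → q ≤ m := fun q _ hq =>
      hm ▸ GrCurve.le_irr 𝒜 hposR h0R (fun i x hx => hq i hx) (inferInstance : q.IsPrime).ne_top
    by_cases hp : p.IsHomogeneous (cls 𝒜)
    · exact Groth.Ega4Algebra1.supportDim_localizedModule_mono R M (hle p hp)
    have hh := GrothGr.height_core_eq_one (cls 𝒜) p hp
    haveI := GrothGr.core_mem_support (cls 𝒜) (clsM ℳ) hnt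
    rw [GrothGr.supportDim_core (cls 𝒜) (clsM ℳ) p hh hnt]
    have hcm : GrothGr.core (cls 𝒜) p ≤ m :=
      hle _ (p.homogeneousCore (cls 𝒜)).isHomogeneous
    have hne : GrothGr.core (cls 𝒜) p < m := lt_of_le_of_ne hcm fun he => hp (by
      have hpm : m ≤ p := he ▸ (p.toIdeal_homogeneousCore_le (cls 𝒜))
      rw [← hmax.eq_of_le (inferInstance : p.IsPrime).ne_top hpm, ← he]
      exact (p.homogeneousCore (cls 𝒜)).isHomogeneous)
    obtain ⟨e, he⟩ := Groth.DualCore.exists_supportDim_eq
      (Localization.AtPrime (GrothGr.core (cls 𝒜) p))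
      (LocalizedModule (GrothGr.core (cls 𝒜) p).primeCompl M)
    rw [he, Groth.Ega4Algebra1.supportDim_localizedModule_atPrime R M m]
    rw [Groth.Ega4Algebra1.supportDim_localizedModule_atPrime] at he
    obtain ⟨c, hc⟩ := Order.le_krullDim_iff.1 he.ge
    let c' : LTSeries {P : PrimeSpectrum R // P ∈ Module.support R M ∧ P.asIdeal ≤ m} :=
      c.map (fun a => ⟨a.1, a.2.1, a.2.2.trans hcm⟩) fun _ _ h => h
    have hmsupp : (⟨m, inferInstance⟩ : PrimeSpectrum R) ∈ Module.support R M :=
      Module.mem_support_mono (show c'.last.1 ≤ ⟨m, inferInstance⟩ from c'.last.2.2) c'.last.2.1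
    let top : {P : PrimeSpectrum R // P ∈ Module.support R M ∧ P.asIdeal ≤ m} :=
      ⟨⟨m, inferInstance⟩, hmsupp, le_rfl⟩
    have hlt : c'.last < top := show c'.last.1 < ⟨m, inferInstance⟩ from
      lt_of_le_of_lt (show c'.last.1 ≤ ⟨GrothGr.core (cls 𝒜) p, inferInstance⟩ from by
        rw [show c'.last = _ from LTSeries.last_map _ _ _]
        exact c.last.2.2) hne
    have := Order.LTSeries.length_le_krullDim (c'.snoc top hlt)
    rw [RelSeries.snoc_length, show c'.length = e from hc] at this
    exact_mod_cast this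
  · rw [Groth.Ega4Algebra1.supportDim_localizedModule_atPrime]
    exact Order.krullDim_le_of_strictMono (fun a => ⟨a.1, a.2.1⟩) fun _ _ h => h

end Groth.Misc15.SegLC
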