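import Mathlib
import Groth.Agent.Misc15.SegLC.ModCM
import Groth.Agent.Misc15.GrRegSeq
import Groth.Agent.GrMod.RegSeq

/-!
Local cohomology of graded Cohen–Macaulay modules: the criterion and the degrees of the top one.
-/

set_option autoImplicit false

universe u

open DirectSum GrLC IsLocalRing
open scoped TensorProduct Pointwise

namespace Groth.Misc15.SegLC

variable {k : Type u} [Field k]
variable {R : Type u} [CommRing R] [Algebra k R] {𝒜 : ℤ → Submodule k R} [GradedAlgebra 𝒜]
  [Algebra.FiniteType k R] [Nontrivial R]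
  (hposR : ∀ n : ℤ, n < 0 → 𝒜 n = ⊥) (h0R : 𝒜 0 = Submodule.span k {(1 : R)})
  (a : HomogeneousIdeal (cls 𝒜)) (ha : a.toIdeal = GrCurve.irr 𝒜 hposR)

section Criterion

variable {M : Type u} [AddCommGroup M] [Module R M] [Module.Finite R M] [Nontrivial M]
  {τ : Type u} [SetLike τ M] [AddSubgroupClass τ M] (ℳ : ℤ → τ) [DirectSum.Decomposition ℳ]
  [SetLike.GradedSMul 𝒜 ℳ]

include ℳ hposR h0R ha in
/-- Graded Cohen–Macaulay modules are those without local cohomology below the dimension. -/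
theorem cmAll_iff {r : ℕ} (hr : Module.supportDim R M = r) :
    CMAll R M ↔ ∀ i < r, Subsingleton (LocCoh.H a.toIdeal i M) := by
  haveI : IsNoetherianRing R := Algebra.FiniteType.isNoetherianRing k R
  haveI hmax : a.toIdeal.IsMaximal := ha ▸ GrCurve.irr_isMaximal 𝒜 hposR h0R
  haveI hnt : Nontrivial (LocalizedModule a.toIdeal.primeCompl M) := by
    rw [← not_subsingleton_iff_nontrivial]
    intro h
    letI : Decomposition (clsM ℳ) := clsMDecomposition ℳ
    exact not_subsingleton M (subsingleton_of_localized hposR h0R (clsM ℳ) a.toIdeal ha h)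
  have hdim := (supportDim_vertex hposR h0R ℳ a.toIdeal ha).symm.trans hr
  constructor
  · intro h
    refine (Groth.LocCohBase.le_idealDepth_iff_localCohomology a.toIdeal r M).1 ?_
    refine le_idealDepth_of_localized hposR h0R ℳ a.toIdeal ha a r ?_
    rw [IsLocalization.AtPrime.map_eq_maximalIdeal a.toIdeal (Localization.AtPrime a.toIdeal)]
    have hcm := (h a.toIdeal).resolve_left (not_subsingleton _)
    have h1 : Module.supportDim _ _ = _ := hcm
    rw [hdim] at h1
    exact le_of_eq (WithBot.coe_injective h1)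
  · intro h
    refine cmAll_of_vertex hposR h0R ℳ a.toIdeal ha ?_
    have h1 := (Groth.LocCohBase.le_idealDepth_iff_localCohomology a.toIdeal r M).2 h
    have h2 := h1.trans (Groth.LocCohBase.idealDepth_le_depth_localized a.toIdeal a.toIdeal le_rfl M)
    refine le_antisymm ?_ (Groth.LocCohBase.depth_le_supportDim _)
    rw [hdim]
    exact WithBot.coe_le_coe.2 h2

end Criterion

section Top

variable {M : Type u} [AddCommGroup M] [Module R M] (ℳ : ℤ → AddSubgroup M)
  [DirectSum.Decomposition ℳ] [SetLike.GradedSMul (cls 𝒜) ℳ]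

omit [Algebra.FiniteType k R] [Nontrivial R] in
include hposR ℳ in
theorem gradedSMul_of_cls : SetLike.GradedSMul 𝒜 ℳ :=
  ⟨fun {b j r m} hr hm =>
    SetLike.GradedSMul.smul_mem (A := cls 𝒜) (B := ℳ) (i := b) (j := j) hr hm⟩


include hposR ha in
/-- A homogeneous regular element of degree a multiple of a given one. -/
theorem exists_regular_deg [Module.Finite R M] (hH0 : Subsingleton (LocCoh.H a.toIdeal 0 M))
    [a.toIdeal.IsMaximal] (D : ℕ) :
    ∃ (p : ℕ) (x : R), 0 < p ∧ x ∈ 𝒜 ((D * p : ℕ) : ℤ) ∧ IsSMulRegular M x := by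
  classical
  haveI : IsNoetherianRing R := Algebra.FiniteType.isNoetherianRing k R
  have htor : DRing.torsionSub a.toIdeal M = ⊥ := (Groth.LocCohBase.subsingleton_H_zero_iff _ M).1 hH0
  have hfin := associatedPrimes.finite R M
  obtain ⟨n, z, hn, hz, hzp⟩ := GrRegSeq.exists_avoid 𝒜 hposR hfin.toFinset fun p hp => by
    have hpa : p ∈ associatedPrimes R M := hfin.mem_toFinset.1 hp
    refine ⟨hpa.isPrime, fun hle => ?_⟩
    have hpe : a.toIdeal = p :=
      Ideal.IsMaximal.eq_of_le inferInstance hpa.isPrime.ne_top (ha.trans_le hle)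
    obtain ⟨-, m, hm⟩ := isAssociatedPrime_iff.1 hpa
    have hm0 : m = 0 := by
      rw [← Submodule.mem_bot R, ← htor]
      refine ⟨1, fun r hr => ?_⟩
      rw [pow_one, hpe, hm] at hr
      simpa using hr
    refine hpa.isPrime.ne_top ?_
    rw [hm, hm0]
    ext r
    simp
  refine ⟨n, z ^ D, hn, ?_, IsSMulRegular.pow D ?_⟩
  · have := SetLike.pow_mem_graded D hz
    rwa [nsmul_eq_mul, ← Nat.cast_mul] at this
  · by_contra hreg
    have : z ∈ ⋃ p ∈ associatedPrimes R M, (p : Set R) := by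
      rw [biUnion_associatedPrimes_eq_compl_regular R M]
      exact hreg
    obtain ⟨p, hp, hzp'⟩ := Set.mem_iUnion₂.1 this
    exact hzp p (hfin.mem_toFinset.2 hp) hzp'

end Top

include hposR h0R ha in
/-- The top local cohomology meets each class of degrees met by the module. -/
theorem exists_top_ne_bot (r : ℕ) : ∀ (M : Type u) [AddCommGroup M] [Module R M]
    [Module.Finite R M] (ℳ : ℤ → AddSubgroup M) [DirectSum.Decomposition ℳ]
    [SetLike.GradedSMul (cls 𝒜) ℳ] (_ : ∀ i < r, Subsingleton (LocCoh.H a.toIdeal i M))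
    (_ : Module.supportDim R M ≤ r) (E : StarInjRes (cls 𝒜) ℳ) (D : ℕ) (_ : 0 < D) (d : ℤ)
    (_ : ℳ d ≠ ⊥), ∃ j : ℤ, E.Hgr a r (d + j * D) ≠ ⊥ := by
  haveI : IsNoetherianRing R := Algebra.FiniteType.isNoetherianRing k R
  haveI hmax : a.toIdeal.IsMaximal := ha ▸ GrCurve.irr_isMaximal 𝒜 hposR h0R
  induction r with
  | zero =>
    intro M _ _ _ ℳ _ _ _ hdim E D _ d hd
    refine ⟨0, fun hbot => hd ((AddSubgroup.eq_bot_iff_forall _).2 fun m hm => ?_)⟩
    rw [zero_mul, add_zero, AddSubgroup.eq_bot_iff_forall] at hbot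
    have hall : ∀ x : M, x ∈ gam a.toIdeal M := by
      intro x
      by_cases hx : x = 0
      · rw [hx]; exact zero_mem _
      -- every prime of the support is maximal, hence the vertex
      haveI : Nontrivial M := ⟨⟨x, 0, hx⟩⟩
      haveI := gradedSMul_of_cls hposR ℳ
      have hle : a.toIdeal ≤ (Submodule.span R {x}).annihilator.radical := by
        rw [Ideal.radical_eq_sInf]
        refine le_sInf fun p ⟨hp, hpp⟩ => ?_
        haveI := hpp
        haveI : (GrothGr.core (cls 𝒜) p).IsPrime := GrothGr.isPrime_core_int (cls 𝒜) p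
        have hsupp : (⟨p, hpp⟩ : PrimeSpectrum R) ∈ Module.support R M := by
          rw [Module.mem_support_iff_exists_annihilator]
          exact ⟨x, hp⟩
        have hsc : Nontrivial (LocalizedModule (GrothGr.core (cls 𝒜) p).primeCompl M) :=
          GrothGr.core_mem_support (cls 𝒜) ℳ (Module.mem_support_iff.1 hsupp)
        have hcm : GrothGr.core (cls 𝒜) p ≤ a.toIdeal := ha ▸ GrCurve.le_irr 𝒜 hposR h0R
          (fun i x hx => (p.homogeneousCore (cls 𝒜)).isHomogeneous i hx)
          (inferInstance : (GrothGr.core (cls 𝒜) p).IsPrime).ne_top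
        refine le_trans ?_ (p.toIdeal_homogeneousCore_le (cls 𝒜))
        by_contra hne
        have hlt : GrothGr.core (cls 𝒜) p < a.toIdeal := lt_of_le_of_ne hcm fun h => hne h.ge
        let A := PrimeSpectrum R
        let c : LTSeries (Module.support R M) :=
          (RelSeries.singleton _ (⟨⟨_, inferInstance⟩, Module.mem_support_iff.2 hsc⟩ :
            Module.support R M)).snoc
            ⟨⟨a.toIdeal, inferInstance⟩, Module.mem_support_mono
              (show (⟨_, inferInstance⟩ : A) ≤ ⟨_, inferInstance⟩ from hlt.le)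
              (Module.mem_support_iff.2 hsc)⟩ hlt
        have h1 : (1 : WithBot ℕ∞) ≤ 0 := (Order.LTSeries.length_le_krullDim c).trans hdim
        exact absurd h1 (by norm_num)
      obtain ⟨N, hN⟩ := Ideal.exists_pow_le_of_le_radical_of_fg hle (IsNoetherian.noetherian _)
      exact ⟨N, fun r hr => (Submodule.mem_annihilator_span_singleton _ _).1 (hN hr)⟩
    exact E.ε_injective (by
      have hz : E.ε m ∈ E.cocyc a 0 :=
        ⟨map_gam' E.ε (hall m), E.exact_zero.ge ⟨m, rfl⟩⟩
      have h0 := hbot _ ⟨⟨E.ε m, hz⟩, E.ε_grHom d m hm, rfl⟩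
      have h1 : (⟨E.ε m, hz⟩ : E.cocyc a 0) ∈ (E.cobdy a 0).comap (E.cocyc a 0).subtype :=
        (Submodule.Quotient.mk_eq_zero _).1 h0
      rw [map_zero]
      exact (Submodule.mem_bot R).1 h1)
  | succ r ih =>
    intro M _ _ _ ℳ _ _ hvan hdim E D hD d hd
    haveI := gradedSMul_of_cls hposR ℳ
    obtain ⟨p, x, hp, hx, hreg⟩ := exists_regular_deg hposR a ha (hvan 0 (Nat.succ_pos r)) D
    have hxc : x ∈ cls 𝒜 ((D * p : ℕ) : ℤ) := hx
    let P : Submodule R M := x • (⊤ : Submodule R M)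
    have hP : P.IsHomogeneous ℳ := GrothGr.isHomogeneous_smul_top ℳ hxc
    letI := (GrothGr.quotPc_isInternal ℳ hP).chooseDecomposition
    haveI := GrothGr.quotPc_gradedSMul (cls 𝒜) ℳ P
    let 𝒩 := GrothGr.quotPc ℳ P
    have hπ : IsGrHom ℳ 𝒩 P.mkQ := GrothGr.mkQ_isGrHom ℳ P
    let EN := GrothGr.starRes (cls 𝒜) 𝒩
    have hseq := fun i => GrothGr.exists_regular_seq E EN a hxc hreg P.mkQ hπ P.mkQ_surjective
      (GrothGr.ker_mkQ_smul_top x) i
    have hHM : ∀ i < r + 1, Subsingleton (E.H a i) := fun i hi => by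
      obtain ⟨e⟩ := GrothGr.nonempty_H_equiv (cls 𝒜) ℳ a E i
      haveI := hvan i hi
      exact e.toEquiv.subsingleton
    have hvanN : ∀ i < r, Subsingleton (LocCoh.H a.toIdeal i (M ⧸ P)) := fun i hi => by
      obtain ⟨q, δ, -, -, -, hqd, hdx, -⟩ := hseq i
      haveI := hHM i (by omega)
      haveI := hHM (i + 1) (by omega)
      obtain ⟨e⟩ := GrothGr.nonempty_H_equiv (cls 𝒜) 𝒩 a EN i
      suffices Subsingleton (EN.H a i) from e.symm.toEquiv.subsingleton
      refine subsingleton_of_forall_eq 0 fun z => ?_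
      obtain ⟨w, rfl⟩ := (hqd z).1 (Subsingleton.elim _ _)
      rw [Subsingleton.elim w 0, map_zero]
    have hdimN : Module.supportDim R (M ⧸ P) ≤ r := by
      have h1 : Module.supportDim R (QuotSMulTop x M) + 1 ≤ Module.supportDim R M :=
        Module.supportDim_quotSMulTop_succ_le_of_notMem_minimalPrimes
          fun q hq => hreg.notMem_of_mem_minimalPrimes hq
      have h2 := h1.trans hdim
      rw [Nat.cast_succ] at h2
      exact ENat.WithBot.add_le_add_one_right_iff.1 h2
    -- a degree congruent to `d` where the quotient is non-zero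
    obtain ⟨j0, hj0⟩ : ∃ j : ℕ, 𝒩 (d - (j * (D * p) : ℕ)) ≠ ⊥ := by
      by_contra! hall
      haveI : IsNoetherian R M := isNoetherian_of_isNoetherianRing_of_finite R M
      letI : Module k M := Module.compHom M (algebraMap k R)
      haveI : IsScalarTower k R M := IsScalarTower.of_algebraMap_smul fun _ _ => rfl
      obtain ⟨c, hc⟩ := Groth.GrDualH.exists_lowerBound (M := M) (ℳ := ℳ) hposR
      have key : ∀ j : ℕ, ∀ m ∈ ℳ d, ∃ w ∈ ℳ (d - (j * (D * p) : ℕ)), m = x ^ j • w := by
        intro j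
        induction j with
        | zero => exact fun m hm => ⟨m, by simpa using hm, by simp⟩
        | succ j ihj =>
          intro m hm
          obtain ⟨w, hw, rfl⟩ := ihj m hm
          have hw0 : P.mkQ w = 0 :=
            (AddSubgroup.eq_bot_iff_forall _).1 (hall j) _ ⟨w, hw, rfl⟩
          obtain ⟨v, -, rfl⟩ := (Submodule.mem_smul_pointwise_iff_exists _ _ _).1
            ((Submodule.Quotient.mk_eq_zero P).1 hw0)
          refine ⟨GrothGr.pr ℳ (d - ((j + 1) * (D * p) : ℕ)) v, GrothGr.pr_mem _ _ _, ?_⟩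
          rw [pow_succ, mul_smul]
          congr 1
          rw [← GrothGr.pr_smul_add ℳ (cls 𝒜) hxc]
          rw [show ((D * p : ℕ) : ℤ) + (d - ((j + 1) * (D * p) : ℕ)) = d - (j * (D * p) : ℕ) by
            push_cast; ring]
          exact (GrothGr.pr_of_mem ℳ hw).symm
      refine hd ((AddSubgroup.eq_bot_iff_forall _).2 fun m hm => ?_)
      obtain ⟨j, hj⟩ : ∃ j : ℕ, d - (j * (D * p) : ℕ) < c := by
        refine ⟨(d - c).toNat + 1, ?_⟩
        have h1 : 1 ≤ D * p := Nat.mul_pos hD hp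
        have h2 : ((d - c).toNat + 1) * 1 ≤ ((d - c).toNat + 1) * (D * p) := Nat.mul_le_mul_left _ h1
        have h3 : (((d - c).toNat + 1 : ℕ) : ℤ) ≤ (((d - c).toNat + 1) * (D * p) : ℕ) := by
          exact_mod_cast (by simpa using h2)
        omega
      obtain ⟨w, hw, rfl⟩ := key j m hm
      rw [hc _ hj w hw, smul_zero]
    obtain ⟨j, hj⟩ := ih (M ⧸ P) 𝒩 hvanN hdimN EN D hD _ hj0
    obtain ⟨q, δ, -, hδ, -, hqd, -, -⟩ := hseq r
    refine ⟨j - ((j0 + 1) * p : ℕ), fun hbot => hj ((AddSubgroup.eq_bot_iff_forall _).2 fun z hz => ?_)⟩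
    haveI := hHM r (Nat.lt_succ_self r)
    have h1 := hδ _ z hz
    rw [show d - (j0 * (D * p) : ℕ) + j * D + -((D * p : ℕ) : ℤ) =
      d + (j - ((j0 + 1) * p : ℕ)) * D by push_cast; ring] at h1
    obtain ⟨w, rfl⟩ := (hqd z).1 ((AddSubgroup.eq_bot_iff_forall _).1 hbot _ h1)
    rw [Subsingleton.elim w 0, map_zero]

include hposR h0R ha in
/-- Multiplication by a regular homogeneous element is surjective on the top local cohomology. -/
theorem top_sub_ne_bot {M : Type u} [AddCommGroup M] [Module R M] [Module.Finite R M]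
    (ℳ : ℤ → AddSubgroup M) [DirectSum.Decomposition ℳ] [SetLike.GradedSMul (cls 𝒜) ℳ]
    (E : StarInjRes (cls 𝒜) ℳ) {r : ℕ} (hdim : Module.supportDim R M ≤ r) {x : R} {e : ℤ}
    (hx : x ∈ 𝒜 e) (hreg : IsSMulRegular M x) {g : ℤ} (hg : E.Hgr a r g ≠ ⊥) (n : ℕ) :
    E.Hgr a r (g - n * e) ≠ ⊥ := by
  haveI : IsNoetherianRing R := Algebra.FiniteType.isNoetherianRing k R
  induction n with
  | zero => simpa using hg
  | succ n ih =>
    have hxc : x ∈ cls 𝒜 e := hx
    let P : Submodule R M := x • (⊤ : Submodule R M)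
    have hP : P.IsHomogeneous ℳ := GrothGr.isHomogeneous_smul_top ℳ hxc
    letI := (GrothGr.quotPc_isInternal ℳ hP).chooseDecomposition
    haveI := GrothGr.quotPc_gradedSMul (cls 𝒜) ℳ P
    let EN := GrothGr.starRes (cls 𝒜) (GrothGr.quotPc ℳ P)
    obtain ⟨q, δ, -, -, hxq, -, -, -⟩ := GrothGr.exists_regular_seq E EN a hxc hreg P.mkQ
      (GrothGr.mkQ_isGrHom ℳ P) P.mkQ_surjective (GrothGr.ker_mkQ_smul_top x) r
    have hlt : Module.supportDim R (QuotSMulTop x M) < r := by
      by_contra! hle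
      have h1 : Module.supportDim R (QuotSMulTop x M) + 1 ≤ Module.supportDim R M :=
        Module.supportDim_quotSMulTop_succ_le_of_notMem_minimalPrimes
          fun q hq => hreg.notMem_of_mem_minimalPrimes hq
      have h2 : ((r : WithBot ℕ∞) + 1) ≤ r := (add_le_add_left hle 1).trans (h1.trans hdim)
      have h3 : r + 1 ≤ r := by exact_mod_cast h2
      omega
    haveI : Subsingleton (LocCoh.H a.toIdeal r (M ⧸ P)) :=
      Groth.LocCohBase.subsingleton_H_of_supportDim_lt a.toIdeal (QuotSMulTop x M) hlt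
    obtain ⟨e'⟩ := GrothGr.nonempty_H_equiv (cls 𝒜) (GrothGr.quotPc ℳ P) a EN r
    haveI : Subsingleton (EN.H a r) := e'.toEquiv.subsingleton
    intro hbot
    refine ih ((AddSubgroup.eq_bot_iff_forall _).2 fun z hz => ?_)
    obtain ⟨w, hw⟩ := (hxq z).1 (Subsingleton.elim _ _)
    letI := (GrothGr.Hgr_isInternal (cls 𝒜) ℳ E a r).chooseDecomposition
    haveI : SetLike.GradedSMul (cls 𝒜) (E.Hgr a r) := ⟨fun {b j t v} ht hv => by
      obtain ⟨y, hy, rfl⟩ := hv
      exact ⟨t • y, GrothGr.smul_mem (E.X r).gr (cls 𝒜) (a := b) ht hy, map_smul _ _ _⟩⟩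
    rw [← GrothGr.pr_of_mem (E.Hgr a r) hz, ← hw, GrothGr.pr_smul (E.Hgr a r) (cls 𝒜) hxc,
      show g - (n : ℤ) * e - e = g - ((n + 1 : ℕ) : ℤ) * e by push_cast; ring,
      (AddSubgroup.eq_bot_iff_forall _).1 hbot _ (GrothGr.pr_mem _ _ _), smul_zero]

end Groth.Misc15.SegLC
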