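import Mathlib
import Groth.Agent.Misc15.SegLC.SegFormula
import Groth.Agent.Misc15.SegLC.ModTop
import Groth.Agent.Misc15.SegreDimOne
import Groth.Agent.Misc15.SegreCMOne

/-!
Segre products of finitely generated graded modules: finiteness, dimension, local cohomology,
Cohen–Macaulayness.
-/

set_option autoImplicit false

universe u

open scoped TensorProduct
open DirectSum GrLC

namespace Groth.Misc15.SegLC

variable {k : Type u} [Field k]
variable {R : Type u} [CommRing R] [Algebra k R] {𝒜 : ℤ → Submodule k R} [GradedAlgebra 𝒜]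
variable {S : Type u} [CommRing S] [Algebra k S] {ℬ : ℤ → Submodule k S} [GradedAlgebra ℬ]
variable {T : Type u} [CommRing T] [Algebra k T] {𝒯 : ℤ → Submodule k T} [GradedAlgebra 𝒯]
variable {ψ : T →ₐ[k] R ⊗[k] S} (hT : GrSeg.IsSegreRing 𝒜 ℬ 𝒯 ψ)
variable {M : Type u} [AddCommGroup M] [Module R M] [Module k M] [IsScalarTower k R M]
  {τ : Type u} [SetLike τ M] [AddSubgroupClass τ M] {ℳ : ℤ → τ} [DirectSum.Decomposition ℳ]
  [SetLike.GradedSMul 𝒜 ℳ]
variable {N : Type u} [AddCommGroup N] [Module S N] [Module k N] [IsScalarTower k S N]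
  {τ' : Type u} [SetLike τ' N] [AddSubgroupClass τ' N] {𝒩 : ℤ → τ'} [DirectSum.Decomposition 𝒩]
  [SetLike.GradedSMul ℬ 𝒩]
variable {P : Type u} [AddCommGroup P] [Module T P] [Module k P] [IsScalarTower k T P]
  {τQ : Type u} [SetLike τQ P] [AddSubgroupClass τQ P] {𝒬 : ℤ → τQ} [DirectSum.Decomposition 𝒬]
  {φ : P →ₗ[k] M ⊗[k] N} (hP : GrSeg.IsSegreMod ψ ℳ 𝒩 𝒬 φ)

include hT hP in
/-- A Segre product of graded modules is graded over the Segre ring. -/
theorem gradedSMul_segre : SetLike.GradedSMul 𝒯 𝒬 := by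
  refine ⟨fun {a g t p} ht hp => ?_⟩
  have h1 : φ p ∈ (GrSeg.segrePiece k ℳ 𝒩 g : Set (M ⊗[k] N)) := by
    rw [← hP.image_piece g]; exact ⟨p, hp, rfl⟩
  have h2 : φ (t • p) ∈ (GrSeg.segrePiece k ℳ 𝒩 (a + g) : Set (M ⊗[k] N)) := by
    rw [hP.map_smul, SetLike.mem_coe]
    rw [SetLike.mem_coe] at h1
    generalize φ p = z at h1 ⊢
    have h := psi_mem hT ht
    generalize ψ t = y at h
    induction h using Submodule.span_induction with
    | zero => simp
    | add u v _ _ hu hv => rw [map_add, LinearMap.add_apply]; exact add_mem hu hv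
    | smul c u _ hu => rw [map_smul, LinearMap.smul_apply]; exact Submodule.smul_mem _ c hu
    | mem w hw =>
      obtain ⟨r, hr, s, hs, rfl⟩ := hw
      induction h1 using Submodule.span_induction with
      | zero => simp
      | add u v _ _ hu hv => rw [map_add]; exact add_mem hu hv
      | smul c u _ hu => rw [map_smul]; exact Submodule.smul_mem _ c hu
      | mem v hv =>
        obtain ⟨m, hm, n, hn, rfl⟩ := hv
        rw [GrSeg.act_tmul]
        exact Submodule.subset_span ⟨_, Groth.GrDualH.smul_mem (ℳ := ℳ) hr hm,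
          _, Groth.GrDualH.smul_mem (ℳ := 𝒩) hs hn, rfl⟩
  rw [← hP.image_piece] at h2
  obtain ⟨p', hp', he⟩ := h2
  rw [vadd_eq_add, ← hP.injective he]
  exact hp'

include hT hP in
/-- A Segre product of finitely generated graded modules is Noetherian. -/
theorem isNoetherian_segre [Algebra.FiniteType k R] [Algebra.FiniteType k S] [Module.Finite R M]
    [Module.Finite S N] : IsNoetherian T P := by
  classical
  haveI : IsNoetherianRing R := Algebra.FiniteType.isNoetherianRing k R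
  haveI : Algebra.FiniteType R (R ⊗[k] S) := inferInstance
  haveI : IsNoetherianRing (R ⊗[k] S) := Algebra.FiniteType.isNoetherianRing R (R ⊗[k] S)
  letI : Module (R ⊗[k] S) (M ⊗[k] N) :=
    Module.compHom (M ⊗[k] N) (Segre.actHom k R S M N)
  have hsmul : ∀ (y : R ⊗[k] S) (z : M ⊗[k] N), y • z = GrSeg.act k R S M N y z := fun _ _ => rfl
  obtain ⟨sM, hsM⟩ := (Module.finite_def.1 inferInstance : (⊤ : Submodule R M).FG)
  obtain ⟨sN, hsN⟩ := (Module.finite_def.1 inferInstance : (⊤ : Submodule S N).FG)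
  let G : Submodule (R ⊗[k] S) (M ⊗[k] N) :=
    Submodule.span _ ((fun q : M × N => q.1 ⊗ₜ[k] q.2) '' ((sM ×ˢ sN : Finset (M × N)) : Set (M × N)))
  have hG : G = ⊤ := by
    refine (Submodule.eq_top_iff').2 fun z => ?_
    induction z using TensorProduct.induction_on with
    | zero => exact zero_mem _
    | add u v hu hv => exact add_mem hu hv
    | tmul m n =>
      have hm : m ∈ Submodule.span R (sM : Set M) := hsM ▸ Submodule.mem_top
      have hn : n ∈ Submodule.span S (sN : Set N) := hsN ▸ Submodule.mem_top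
      induction hm using Submodule.span_induction with
      | zero => rw [TensorProduct.zero_tmul]; exact zero_mem _
      | add u v _ _ hu hv => rw [TensorProduct.add_tmul]; exact add_mem hu hv
      | smul r u _ hu =>
        have h1 : (r • u) ⊗ₜ[k] n = (r ⊗ₜ[k] (1 : S)) • (u ⊗ₜ[k] n) := by
          rw [hsmul, GrSeg.act_tmul, one_smul]
        rw [h1]
        exact G.smul_mem _ hu
      | mem u hu =>
        induction hn using Submodule.span_induction with
        | zero => rw [TensorProduct.tmul_zero]; exact zero_mem _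
        | add v w _ _ hv hw => rw [TensorProduct.tmul_add]; exact add_mem hv hw
        | smul s v _ hv =>
          have h1 : u ⊗ₜ[k] (s • v) = ((1 : R) ⊗ₜ[k] s) • (u ⊗ₜ[k] v) := by
            rw [hsmul, GrSeg.act_tmul, one_smul]
          rw [h1]
          exact G.smul_mem _ hv
        | mem v hv =>
          exact Submodule.subset_span ⟨(u, v), Finset.mem_coe.2 (Finset.mem_product.2 ⟨hu, hv⟩), rfl⟩
  haveI : Module.Finite (R ⊗[k] S) (M ⊗[k] N) :=
    Module.finite_def.2 (hG ▸ Submodule.fg_span ((Finset.finite_toSet _).image _))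
  haveI := isNoetherian_of_isNoetherianRing_of_finite (R ⊗[k] S) (M ⊗[k] N)
  let ext : Submodule T P → Submodule (R ⊗[k] S) (M ⊗[k] N) := fun Q =>
    Submodule.span _ (φ '' (Q : Set P))
  have hmono : StrictMono ext := by
    intro Q Q' hlt
    refine lt_of_le_of_ne (Submodule.span_mono (Set.image_mono hlt.le)) fun he => ?_
    obtain ⟨p, hpQ', hpQ⟩ := SetLike.exists_of_lt hlt
    refine hpQ ?_
    have hp : φ p ∈ ext Q := he ▸ Submodule.subset_span ⟨p, hpQ', rfl⟩
    -- the diagonal of the span is the image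
    suffices H : ∀ z ∈ ext Q, ∀ y : R ⊗[k] S, ∃ q ∈ Q, φ q =
        Segre.diag 𝒜 ℬ ℳ 𝒩 (GrSeg.act k R S M N y z) by
      obtain ⟨q, hq, hqp⟩ := H _ hp 1
      rw [Segre.act_one, LinearMap.id_apply, Segre.diag_image 𝒜 ℬ ℳ 𝒩 hP.image_piece] at hqp
      exact hP.injective hqp ▸ hq
    intro z hz
    induction hz using Submodule.span_induction with
    | zero => intro y; exact ⟨0, Q.zero_mem, by simp⟩
    | add u v _ _ hu hv =>
      intro y
      obtain ⟨q, hq, hqe⟩ := hu y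
      obtain ⟨q', hq', hqe'⟩ := hv y
      exact ⟨q + q', Q.add_mem hq hq', by simp [hqe, hqe']⟩
    | smul w u _ hu =>
      intro y
      obtain ⟨q, hq, hqe⟩ := hu (y * w)
      exact ⟨q, hq, by rw [hqe, hsmul, Segre.act_mul]; rfl⟩
    | mem w hw =>
      obtain ⟨q, hq, rfl⟩ := hw
      intro y
      obtain ⟨t, ht⟩ := Segre.diag_mem_range 𝒜 ℬ 𝒜 ℬ (φ := ψ.toLinearMap) (image_piece hT) y
      refine ⟨t • q, Q.smul_mem t hq, ?_⟩
      rw [hP.map_smul, show ψ t = _ from ht]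
      conv_rhs => rw [← Segre.diag_image 𝒜 ℬ ℳ 𝒩 hP.image_piece q,
        (Segre.diag_act_diag 𝒜 ℬ ℳ 𝒩 y (φ q)).1, Segre.diag_image 𝒜 ℬ ℳ 𝒩 hP.image_piece q]
  exact isNoetherian_iff'.2 hmono.wellFoundedGT

section Res

variable [SetLike.GradedSMul 𝒯 𝒬] {mR : HomogeneousIdeal 𝒜} {mS : HomogeneousIdeal ℬ}
  {mT : HomogeneousIdeal 𝒯} (DM : TorRes mR ℳ) (DN : TorRes mS 𝒩)
  (hmR : ∀ n : ℤ, 0 < n → ∀ r ∈ 𝒜 n, r ∈ mR.toIdeal)
  (hmS : ∀ n : ℤ, 0 < n → ∀ s ∈ ℬ n, s ∈ mS.toIdeal)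
  (hmT : mT.toIdeal = Ideal.span (⋃ n ∈ Set.Ioi (0 : ℤ), (𝒯 n : Set T)))
  {D : ℤ} (hD : 0 < D) (hbM : ∀ i, IsBij D (DM.C i)) (hbN : ∀ j, IsBij D (DN.C j))

include hmR hmS hmT hD hbM hbN in
/-- The pieces of the product resolution have the Künneth cohomology. -/
theorem segre_H (g : ℤ) (n : ℕ) :
    Nonempty ((∀ p : Kun.Idx n, Kun.H (dP DM g) p.1.1 ⊗[k] Kun.H (dP DN g) p.1.2) ≃ₗ[k]
      Kun.H (dP (SegreK.segRes hT DM DN hP hmR hmS hmT hD hbM hbN) g) n) := by
  obtain ⟨e⟩ := Kun.nonempty_H_congr (dA := Kun.D (dP DM g) (dP DN g))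
    (dC := dP (SegreK.segRes hT DM DN hP hmR hmS hmT hD hbM hbN) g)
    (fun m => pEquiv hT DM DN g m)
    (fun m z => Subtype.ext (SegreK.incl_injective hT DM DN (m + 1) (D_phiMap hT DM DN g m z))) n
  exact ⟨(Kun.kunneth (dP_dP DM g) (dP_dP DN g) n).symm.trans e⟩

include hmR hmS hmT hD hbM hbN in
theorem segre_aug_injective (g : ℤ) (hM : Function.Injective (augP DM g))
    (hN : Function.Injective (augP DN g)) :
    Function.Injective (augP (SegreK.segRes hT DM DN hP hmR hmS hmT hD hbM hbN) g) := by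
  refine (injective_iff_map_eq_zero _).2 ?_
  rintro ⟨p, hp⟩ hp0
  obtain ⟨w, hw⟩ := phi_mem (𝒜 := 𝒜) (ℬ := ℬ) hP g p hp
  have h0 : SegreK.augT DM DN (φ p) = 0 := by
    have h1 : SegreK.aug hT DM DN hP p = 0 := congrArg Subtype.val hp0
    have h := congrFun ((SegreK.incl_aug hT DM DN hP p).symm.trans
      ((congrArg (SegreK.incl hT DM DN 0) h1).trans (SegreK.incl_zero hT DM DN 0)))
      (Kun.Idx.mk' 0 0 rfl)
    rw [Pi.single_eq_same] at h
    exact h
  rw [← hw, augT_incl2] at h0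
  have hw0 : w = 0 := TensorProduct.map_injective_of_flat_flat _ _ hM hN
    ((incl2_injective _ _ (h0.trans (map_zero _).symm)).trans (map_zero _).symm)
  exact Subtype.ext (hP.injective (by rw [← hw, hw0, map_zero, ZeroMemClass.coe_zero, map_zero]))

end Res

section OneRes

variable [IsNoetherianRing R] {a : HomogeneousIdeal 𝒜} (D : TorRes a ℳ) (E : StarInjRes 𝒜 ℳ)

/-- The first local cohomology and the cocycles of degree zero. -/
theorem finrank_kunH_zero (g : ℤ) [FiniteDimensional k (Groth.GrDualH.piece 𝒜 ℳ g)]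
    [FiniteDimensional k (hPiece E a 1 g)] (hinj : Function.Injective (augP D g)) :
    FiniteDimensional k (Kun.H (dP D g) 0) ∧ Module.finrank k (Kun.H (dP D g) 0) =
      Module.finrank k (Groth.GrDualH.piece 𝒜 ℳ g) + Module.finrank k (hPiece E a 1 g) := by
  obtain ⟨φ⟩ := nonempty_compMap E D
  let f := psiP D E φ g 0
  let j : Groth.GrDualH.piece 𝒜 ℳ g →ₗ[k] LinearMap.ker (dP D g 0) :=
    (augP D g).codRestrict (LinearMap.ker (dP D g 0)) fun x => LinearMap.mem_ker.2 (dP_augP D g x)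
  have hker : LinearMap.ker f = LinearMap.range j := by
    ext z
    rw [LinearMap.mem_ker, psiP_zero_eq_zero_iff]
    constructor
    · rintro ⟨m, hm⟩; exact ⟨m, Subtype.ext hm⟩
    · rintro ⟨m, hm⟩; exact ⟨m, congrArg Subtype.val hm⟩
  let e := f.quotKerEquivOfSurjective (psiP_surjective D E φ g 0)
  haveI : FiniteDimensional k (LinearMap.ker f) := by rw [hker]; infer_instance
  haveI : FiniteDimensional k (LinearMap.ker (dP D g 0) ⧸ LinearMap.ker f) :=
    e.symm.finiteDimensional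
  haveI : FiniteDimensional k (LinearMap.ker (dP D g 0)) :=
    Module.Finite.of_submodule_quotient (LinearMap.ker f)
  let e0 : LinearMap.ker (dP D g 0) ≃ₗ[k] Kun.H (dP D g) 0 :=
    (Submodule.quotEquivOfEqBot _ ((Submodule.comap_bot _).trans (Submodule.ker_subtype _))).symm
  refine ⟨e0.finiteDimensional, ?_⟩
  rw [← e0.finrank_eq, ← Submodule.finrank_quotient_add_finrank (LinearMap.ker f), e.finrank_eq,
    hker, LinearMap.finrank_range_of_inj (f := j) fun x y h => hinj (congrArg Subtype.val h),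
    add_comm]

end OneRes

variable [Nontrivial R] [Nontrivial S] [Algebra.FiniteType k R] [Algebra.FiniteType k S]
  (hposR : ∀ n : ℤ, n < 0 → 𝒜 n = ⊥) (h0R : 𝒜 0 = Submodule.span k {(1 : R)})
  (hposS : ∀ n : ℤ, n < 0 → ℬ n = ⊥) (h0S : ℬ 0 = Submodule.span k {(1 : S)})
  {mR : HomogeneousIdeal 𝒜}
  (hmR : mR.toIdeal = Ideal.span (⋃ n ∈ Set.Ioi (0 : ℤ), (𝒜 n : Set R)))
  {mS : HomogeneousIdeal ℬ}
  (hmS : mS.toIdeal = Ideal.span (⋃ n ∈ Set.Ioi (0 : ℤ), (ℬ n : Set S)))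

/-- The dimensions occurring in the Künneth formula. -/
def hfun (m : ℕ) (a : ℕ → ℕ) : ℕ → ℕ
  | 0 => m + a 1
  | i + 1 => a (i + 2)

variable [SetLike.GradedSMul 𝒯 𝒬] {mT : HomogeneousIdeal 𝒯}
  (hmT : mT.toIdeal = Ideal.span (⋃ n ∈ Set.Ioi (0 : ℤ), (𝒯 n : Set T)))
  (EM : StarInjRes 𝒜 ℳ) (EN : StarInjRes ℬ 𝒩) (EP : StarInjRes 𝒯 𝒬)

include hT hP hposR h0R hposS h0S hmR hmS hmT in
/-- Local cohomology of a Segre product of modules of positive depth. -/
theorem segre_dims [Module.Finite R M] [Module.Finite S N]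
    (hM : ∀ d : ℤ, hPiece EM mR 0 d = ⊥) (hN : ∀ d : ℤ, hPiece EN mS 0 d = ⊥) (d : ℤ) :
    hPiece EP mT 0 d = ⊥ ∧
    (Module.finrank k (Groth.GrDualH.piece 𝒯 𝒬 d) =
      Module.finrank k (Groth.GrDualH.piece 𝒜 ℳ d) * Module.finrank k (Groth.GrDualH.piece ℬ 𝒩 d)) ∧
    (Module.finrank k (Groth.GrDualH.piece 𝒯 𝒬 d) + Module.finrank k (hPiece EP mT 1 d) =
      (Module.finrank k (Groth.GrDualH.piece 𝒜 ℳ d) + Module.finrank k (hPiece EM mR 1 d)) *
        (Module.finrank k (Groth.GrDualH.piece ℬ 𝒩 d) + Module.finrank k (hPiece EN mS 1 d))) ∧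
    ∀ m : ℕ, Module.finrank k (hPiece EP mT (m + 2) d) = ∑ i ∈ Finset.range (m + 2),
      hfun (Module.finrank k (Groth.GrDualH.piece 𝒜 ℳ d))
          (fun q => Module.finrank k (hPiece EM mR q d)) i *
        hfun (Module.finrank k (Groth.GrDualH.piece ℬ 𝒩 d))
          (fun q => Module.finrank k (hPiece EN mS q d)) (m + 1 - i) := by
  haveI : IsNoetherianRing R := Algebra.FiniteType.isNoetherianRing k R
  haveI : IsNoetherianRing S := Algebra.FiniteType.isNoetherianRing k S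
  haveI : IsNoetherianRing T :=
    Groth.Agent.S18646.result k R 𝒜 hposR h0R S ℬ hposS h0S T 𝒯 ψ hT.1 hT.2
  haveI : Nontrivial T := nontrivial_segre ψ
  have hposT := SegreDimOne.t_pos 𝒜 ℬ 𝒯 ψ hT.1 hT.2 hposR
  have h0T := SegreDimOne.t_zero 𝒜 ℬ 𝒯 ψ hT.1 hT.2 h0R h0S
  haveI := isNoetherian_segre hT hP
  obtain ⟨D1, hD1, hgR⟩ := exists_gens (𝒜 := 𝒜) hmR
  obtain ⟨D2, hD2, hgS⟩ := exists_gens (𝒜 := ℬ) hmS
  obtain ⟨c, x, hx, hxm, hxrad⟩ := hgR D2 hD2
  obtain ⟨c', y, hy, hym, hyrad⟩ := hgS D1 hD1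
  have hy' : ∀ j, y j ∈ ℬ ((D1 * D2 : ℕ) : ℤ) := fun j => by rw [mul_comm]; exact hy j
  let DM : TorRes mR ℳ := locRes x hx mR hxm hxrad
  let DN : TorRes mS 𝒩 := locRes y hy' mS hym hyrad
  have hbM : ∀ i, IsBij ((D1 * D2 : ℕ) : ℤ) (DM.C i) := fun i => isBij_step x hx _
  have hbN : ∀ j, IsBij ((D1 * D2 : ℕ) : ℤ) (DN.C j) := fun j => isBij_step y hy' _
  have hsub : ∀ n : ℤ, 0 < n → ∀ r ∈ 𝒜 n, r ∈ mR.toIdeal := fun n hn r hr => by
    rw [hmR]; exact Ideal.subset_span (Set.mem_iUnion₂.2 ⟨n, hn, hr⟩)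
  have hsub' : ∀ n : ℤ, 0 < n → ∀ r ∈ ℬ n, r ∈ mS.toIdeal := fun n hn r hr => by
    rw [hmS]; exact Ideal.subset_span (Set.mem_iUnion₂.2 ⟨n, hn, hr⟩)
  have hDpos : (0 : ℤ) < ((D1 * D2 : ℕ) : ℤ) := by exact_mod_cast Nat.mul_pos hD1 hD2
  let DP := SegreK.segRes hT DM DN hP hsub hsub' hmT hDpos hbM hbN
  have hiM := (hPiece_zero_eq_bot_iff DM EM d).1 (hM d)
  have hiN := (hPiece_zero_eq_bot_iff DN EN d).1 (hN d)
  have hiP : Function.Injective (augP DP d) :=
    segre_aug_injective hT hP DM DN hsub hsub' hmT hDpos hbM hbN d hiM hiN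
  haveI : IsNoetherian R M := isNoetherian_of_isNoetherianRing_of_finite R M
  haveI : IsNoetherian S N := isNoetherian_of_isNoetherianRing_of_finite S N
  haveI : Module.Finite T P := Module.IsNoetherian.finite T P
  haveI := Groth.GrDualH.finiteDimensional_piece (M := M) (ℳ := ℳ) h0R (Or.inl inferInstance) d
  haveI := Groth.GrDualH.finiteDimensional_piece (M := N) (ℳ := 𝒩) h0S (Or.inl inferInstance) d
  haveI := Groth.GrDualH.finiteDimensional_piece (M := P) (ℳ := 𝒬) h0T (Or.inl inferInstance) d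
  haveI hfM := fun i => finiteDimensional_hPiece hposR h0R mR
    (GrRegSeq.toIdeal_eq_irr 𝒜 hposR hmR) EM i d
  haveI hfN := fun i => finiteDimensional_hPiece hposS h0S mS
    (GrRegSeq.toIdeal_eq_irr ℬ hposS hmS) EN i d
  haveI hfP := fun i => finiteDimensional_hPiece hposT h0T mT
    (GrRegSeq.toIdeal_eq_irr 𝒯 hposT hmT) EP i d
  obtain ⟨fM0, hM0⟩ := finrank_kunH_zero DM EM d hiM
  obtain ⟨fN0, hN0⟩ := finrank_kunH_zero DN EN d hiN
  obtain ⟨-, hP0⟩ := finrank_kunH_zero DP EP d hiP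
  have hAf : ∀ i, FiniteDimensional k (Kun.H (dP DM d) i) ∧
      Module.finrank k (Kun.H (dP DM d) i) = hfun (Module.finrank k (Groth.GrDualH.piece 𝒜 ℳ d))
        (fun q => Module.finrank k (hPiece EM mR q d)) i := by
    intro i
    cases i with
    | zero => exact ⟨fM0, hM0⟩
    | succ i =>
      obtain ⟨e⟩ := exists_equiv_succ DM EM d i
      exact ⟨e.symm.finiteDimensional, e.finrank_eq⟩
  have hBf : ∀ i, FiniteDimensional k (Kun.H (dP DN d) i) ∧
      Module.finrank k (Kun.H (dP DN d) i) = hfun (Module.finrank k (Groth.GrDualH.piece ℬ 𝒩 d))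
        (fun q => Module.finrank k (hPiece EN mS q d)) i := by
    intro i
    cases i with
    | zero => exact ⟨fN0, hN0⟩
    | succ i =>
      obtain ⟨e⟩ := exists_equiv_succ DN EN d i
      exact ⟨e.symm.finiteDimensional, e.finrank_eq⟩
  haveI := fun i => (hAf i).1
  haveI := fun i => (hBf i).1
  have hK : ∀ n, Module.finrank k (Kun.H (dP DP d) n) = ∑ i ∈ Finset.range (n + 1),
      Module.finrank k (Kun.H (dP DM d) i) * Module.finrank k (Kun.H (dP DN d) (n - i)) := by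
    intro n
    obtain ⟨e⟩ := segre_H hT hP DM DN hsub hsub' hmT hDpos hbM hbN d n
    rw [← e.finrank_eq, Module.finrank_pi_fintype]
    simp only [Module.finrank_tensorProduct]
    rw [Finset.sum_coe_sort (Finset.HasAntidiagonal.antidiagonal n)
      (fun p : ℕ × ℕ => Module.finrank k (Kun.H (dP DM d) p.1) *
        Module.finrank k (Kun.H (dP DN d) p.2)),
      Finset.Nat.sum_antidiagonal_eq_sum_range_succ (fun i j =>
        Module.finrank k (Kun.H (dP DM d) i) * Module.finrank k (Kun.H (dP DN d) j)) n]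
  refine ⟨(hPiece_zero_eq_bot_iff DP EP d).2 hiP, ?_, ?_, fun m => ?_⟩
  · let W := Groth.GrDualH.piece 𝒜 ℳ d ⊗[k] Groth.GrDualH.piece ℬ 𝒩 d
    let f : W →ₗ[k] M ⊗[k] N := incl2 _ _
    let g : Groth.GrDualH.piece 𝒯 𝒬 d →ₗ[k] M ⊗[k] N :=
      φ ∘ₗ (Groth.GrDualH.piece 𝒯 𝒬 d).subtype
    have hr : LinearMap.range g = LinearMap.range f := by
      refine le_antisymm ?_ ?_
      · rintro _ ⟨p, rfl⟩; exact phi_mem (𝒜 := 𝒜) (ℬ := ℬ) hP d p.1 p.2
      · rintro _ ⟨w, rfl⟩
        obtain ⟨p, hp, hpw⟩ := exists_phi_eq (𝒜 := 𝒜) (ℬ := ℬ) hP d w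
        exact ⟨⟨p, hp⟩, hpw⟩
    rw [← LinearMap.finrank_range_of_inj (f := g) (hP.injective.comp Subtype.val_injective), hr,
      LinearMap.finrank_range_of_inj (f := f) (incl2_injective _ _)]
    exact Module.finrank_tensorProduct
  · rw [← hP0, hK 0, Finset.sum_range_one, (hAf 0).2, (hBf (0 - 0)).2]
    rfl
  · obtain ⟨e⟩ := exists_equiv_succ DP EP d m
    rw [← e.finrank_eq, hK (m + 1)]
    exact Finset.sum_congr rfl fun i _ => by rw [(hAf i).2, (hBf _).2]

end Groth.Misc15.SegLC
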