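import Mathlib
import Groth.Agent.Misc15.SegLC.SegMod
import Groth.Agent.Misc15.SegLC.SegCMStd
import Groth.Agent.GrMod.StarLocal

/-!
Dimension and Cohen–Macaulayness of Segre products of Cohen–Macaulay modules.
-/

set_option autoImplicit false

universe u

open scoped TensorProduct
open DirectSum GrLC

namespace Groth.Misc15.SegLC

section General

variable {k : Type u} [Field k]
variable {R : Type u} [CommRing R] [Algebra k R] {𝒜 : ℤ → Submodule k R} [GradedAlgebra 𝒜]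
variable {M : Type u} [AddCommGroup M] [Module R M]
  {τ : Type u} [SetLike τ M] [AddSubgroupClass τ M] (ℳ : ℤ → τ) [DirectSum.Decomposition ℳ]
  [SetLike.GradedSMul 𝒜 ℳ]

/-- The homogeneous ideal for the grading by additive subgroups. -/
def clsI (a : HomogeneousIdeal 𝒜) : HomogeneousIdeal (cls 𝒜) :=
  ⟨a.toIdeal, isHomogeneous_cls 𝒜 a.isHomogeneous⟩

/-- A resolution of a graded module. -/
noncomputable def someResMod [IsNoetherianRing R] : StarInjRes 𝒜 ℳ :=
  haveI : ∀ n, SetLike.GradedSMul 𝒜 ((GrothGr.starRes (cls 𝒜) (clsM ℳ)).X n).gr := fun n =>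
    ⟨fun {a j r m} hr hm => SetLike.GradedSMul.smul_mem (A := cls 𝒜)
      (B := ((GrothGr.starRes (cls 𝒜) (clsM ℳ)).X n).gr) (i := a) (j := j) hr hm⟩
  { X := fun n => GMod.of 𝒜 ((GrothGr.starRes (cls 𝒜) (clsM ℳ)).X n).carrier
      ((GrothGr.starRes (cls 𝒜) (clsM ℳ)).X n).gr
    d := (GrothGr.starRes (cls 𝒜) (clsM ℳ)).d
    ε := (GrothGr.starRes (cls 𝒜) (clsM ℳ)).ε
    d_grHom := (GrothGr.starRes (cls 𝒜) (clsM ℳ)).d_grHom
    ε_grHom := (GrothGr.starRes (cls 𝒜) (clsM ℳ)).ε_grHom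
    ε_injective := (GrothGr.starRes (cls 𝒜) (clsM ℳ)).ε_injective
    exact_zero := (GrothGr.starRes (cls 𝒜) (clsM ℳ)).exact_zero
    exact_succ := (GrothGr.starRes (cls 𝒜) (clsM ℳ)).exact_succ
    starInj := fun n => IsStarInj.ofCls ((GrothGr.starRes (cls 𝒜) (clsM ℳ)).starInj n) }

variable [Module k M] [IsScalarTower k R M] {ℳ} (E : StarInjRes 𝒜 ℳ) (a : HomogeneousIdeal 𝒜)

/-- Vanishing of all pieces is vanishing of local cohomology. -/
theorem subsingleton_H_iff [IsNoetherianRing R] (i : ℕ) :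
    Subsingleton (LocCoh.H a.toIdeal i M) ↔ ∀ g, hPiece E a i g = ⊥ := by
  obtain ⟨e⟩ : Nonempty (E.H a i ≃ₗ[R] LocCoh.H a.toIdeal i M) :=
    GrothGr.nonempty_H_equiv (cls 𝒜) (clsM ℳ) (clsI a) (clsRes E) i
  constructor
  · intro h g
    haveI : Subsingleton (E.H a i) := e.toEquiv.subsingleton
    exact (Submodule.eq_bot_iff _).2 fun x _ => Subsingleton.elim x 0
  · intro h
    suffices Subsingleton (E.H a i) from e.symm.toEquiv.subsingleton
    have hint := GrothGr.Hgr_isInternal (cls 𝒜) (clsM ℳ) (clsRes E) (clsI a) i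
    refine subsingleton_of_forall_eq 0 fun x => ?_
    obtain ⟨y, rfl⟩ := hint.2 x
    induction y using DirectSum.induction_on with
    | zero => exact map_zero _
    | of g z =>
      exact (DirectSum.coeAddMonoidHom_of _ g z).trans
        ((Submodule.eq_bot_iff _).1 (h g) _ z.2)
    | add a b ha hb => exact (map_add _ a b).trans ((congrArg₂ (· + ·) ha hb).trans (add_zero _))

theorem Hgr_ne_bot_iff (i : ℕ) (g : ℤ) :
    (clsRes E).Hgr (clsI a) i g = ⊥ ↔ hPiece E a i g = ⊥ :=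
  ⟨fun h => (Submodule.eq_bot_iff _).2 ((AddSubgroup.eq_bot_iff_forall _).1 h),
    fun h => (AddSubgroup.eq_bot_iff_forall _).2 ((Submodule.eq_bot_iff (hPiece E a i g)).1 h)⟩

end General

variable {k : Type u} [Field k]

section Factor

variable {R : Type u} [CommRing R] [Algebra k R] {𝒜 : ℤ → Submodule k R} [GradedAlgebra 𝒜]
  [Algebra.FiniteType k R] [Nontrivial R]
  (hposR : ∀ n : ℤ, n < 0 → 𝒜 n = ⊥) (h0R : 𝒜 0 = Submodule.span k {(1 : R)})
  {mR : HomogeneousIdeal 𝒜}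
  (hmR : mR.toIdeal = Ideal.span (⋃ n ∈ Set.Ioi (0 : ℤ), (𝒜 n : Set R)))
variable {M : Type u} [AddCommGroup M] [Module R M] [Module k M] [IsScalarTower k R M]
  [Module.Finite R M] {ℳ : ℤ → AddSubgroup M} [DirectSum.Decomposition ℳ] [SetLike.GradedSMul 𝒜 ℳ]
  (EM : StarInjRes 𝒜 ℳ) {r : ℕ} (hr : Module.supportDim R M = r)

include hposR h0R hmR hr in
/-- Local cohomology of a Cohen–Macaulay module away from the dimension. -/
theorem hPiece_mod_eq_bot (hcm : CMAll R M) {i : ℕ} (hi : i ≠ r) (g : ℤ) :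
    hPiece EM mR i g = ⊥ := by
  haveI : IsNoetherianRing R := Algebra.FiniteType.isNoetherianRing k R
  haveI : Nontrivial M := (Module.supportDim_ne_bot_iff_nontrivial R M).1 (by rw [hr]; simp)
  refine (subsingleton_H_iff EM mR i).1 ?_ g
  rcases lt_or_gt_of_ne hi with hlt | hgt
  · exact (cmAll_iff hposR h0R (clsI mR) (GrRegSeq.toIdeal_eq_irr 𝒜 hposR hmR) ℳ hr).1 hcm i hlt
  · exact Groth.LocCohBase.subsingleton_H_of_supportDim_lt mR.toIdeal M (by
      rw [hr]; exact_mod_cast hgt)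

include hposR h0R hmR hr in
/-- A regular homogeneous element and the degrees of the top local cohomology. -/
theorem exists_top (hcm : CMAll R M) (hr1 : 1 ≤ r) :
    ∃ p : ℕ, 0 < p ∧ ∀ (n : ℕ), 0 < n → ∀ d : ℤ, ℳ d ≠ ⊥ → ∃ J : ℤ, ∀ j ≤ J,
      hPiece EM mR r (d + j * ((p * n : ℕ) : ℤ)) ≠ ⊥ := by
  haveI : IsNoetherianRing R := Algebra.FiniteType.isNoetherianRing k R
  haveI : Nontrivial M := (Module.supportDim_ne_bot_iff_nontrivial R M).1 (by rw [hr]; simp)
  have ha := GrRegSeq.toIdeal_eq_irr 𝒜 hposR hmR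
  haveI hmax : (clsI mR).toIdeal.IsMaximal := ha ▸ GrCurve.irr_isMaximal 𝒜 hposR h0R
  haveI : SetLike.GradedSMul (cls 𝒜) ℳ :=
    inferInstanceAs (SetLike.GradedSMul (cls 𝒜) (clsM ℳ))
  letI : DirectSum.Decomposition (clsM ℳ) := clsMDecomposition ℳ
  have hvan := (cmAll_iff hposR h0R (clsI mR) ha ℳ hr).1 hcm
  obtain ⟨p, x, hp, hx, hreg⟩ :=
    exists_regular_deg hposR (clsI mR) ha (hvan 0 hr1) 1
  rw [one_mul] at hx
  refine ⟨p, hp, fun n hn d hd => ?_⟩
  have hx' : x ^ n ∈ 𝒜 ((p * n : ℕ) : ℤ) := by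
    have := SetLike.pow_mem_graded n hx
    rwa [nsmul_eq_mul, ← Nat.cast_mul, mul_comm] at this
  have hd' : clsM ℳ d ≠ ⊥ := fun h => hd ((AddSubgroup.eq_bot_iff_forall _).2 fun m hm =>
    (AddSubgroup.eq_bot_iff_forall _).1 h m hm)
  obtain ⟨J, hJ⟩ := exists_top_ne_bot hposR h0R (clsI mR) ha r M (clsM ℳ) hvan hr.le (clsRes EM)
    (p * n) (Nat.mul_pos hp hn) d hd'
  refine ⟨J, fun j hj hbot => ?_⟩
  obtain ⟨e, rfl⟩ : ∃ e : ℕ, j = J - e := ⟨(J - j).toNat, by omega⟩
  have h1 := top_sub_ne_bot hposR h0R (clsI mR) ha (clsM ℳ) (clsRes EM) hr.le hx' (hreg.pow n) hJ e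
  refine h1 ((Hgr_ne_bot_iff EM mR r _).2 ?_)
  convert hbot using 2
  push_cast
  ring

end Factor

variable {R : Type u} [CommRing R] [Algebra k R] {𝒜 : ℤ → Submodule k R} [GradedAlgebra 𝒜]
  [Algebra.FiniteType k R]
  (hposR : ∀ n : ℤ, n < 0 → 𝒜 n = ⊥) (h0R : 𝒜 0 = Submodule.span k {(1 : R)})
  {mR : HomogeneousIdeal 𝒜}
  (hmR : mR.toIdeal = Ideal.span (⋃ n ∈ Set.Ioi (0 : ℤ), (𝒜 n : Set R)))
variable {S : Type u} [CommRing S] [Algebra k S] {ℬ : ℤ → Submodule k S} [GradedAlgebra ℬ]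
  [Algebra.FiniteType k S]
  (hposS : ∀ n : ℤ, n < 0 → ℬ n = ⊥) (h0S : ℬ 0 = Submodule.span k {(1 : S)})
  {mS : HomogeneousIdeal ℬ}
  (hmS : mS.toIdeal = Ideal.span (⋃ n ∈ Set.Ioi (0 : ℤ), (ℬ n : Set S)))
variable {T : Type u} [CommRing T] [Algebra k T] {𝒯 : ℤ → Submodule k T} [GradedAlgebra 𝒯]
  {ψ : T →ₐ[k] R ⊗[k] S} (hT : GrSeg.IsSegreRing 𝒜 ℬ 𝒯 ψ)
variable {M : Type u} [AddCommGroup M] [Module R M] [Module k M] [IsScalarTower k R M]
  [Module.Finite R M] {ℳ : ℤ → AddSubgroup M} [DirectSum.Decomposition ℳ] [SetLike.GradedSMul 𝒜 ℳ]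
  (EM : StarInjRes 𝒜 ℳ)
variable {N : Type u} [AddCommGroup N] [Module S N] [Module k N] [IsScalarTower k S N]
  [Module.Finite S N] {𝒩 : ℤ → AddSubgroup N} [DirectSum.Decomposition 𝒩] [SetLike.GradedSMul ℬ 𝒩]
  (EN : StarInjRes ℬ 𝒩)
variable {P : Type u} [AddCommGroup P] [Module T P] [Module k P] [IsScalarTower k T P]
  {𝒬 : ℤ → AddSubgroup P} [DirectSum.Decomposition 𝒬] {φ : P →ₗ[k] M ⊗[k] N}
  (hP : GrSeg.IsSegreMod ψ ℳ 𝒩 𝒬 φ)
variable {r s : ℕ} (hr : Module.supportDim R M = r) (hs : Module.supportDim S N = s)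
  (h1r : 1 ≤ r) (h1s : 1 ≤ s) (hMcm : CMAll R M) (hNcm : CMAll S N)

include hposR h0R hmR hposS h0S hmS hT hP hr hs h1r h1s hMcm hNcm in
/-- Dimension and local cohomology of the Segre product. -/
theorem segre_main [Nontrivial P] :
    Module.supportDim T P = ((r + s - 1 : ℕ) : WithBot ℕ∞) ∧
    (CMAll T P ↔
      (2 ≤ s → ∀ d, hPiece EM mR r d = ⊥ ∨ 𝒩 d = ⊥ ∨ 2 ≤ r) ∧
      (2 ≤ r → ∀ d, ℳ d = ⊥ ∨ hPiece EN mS s d = ⊥ ∨ 2 ≤ s) ∧
      (2 ≤ r → 2 ≤ s → ∀ d, (ℳ d = ⊥ ∨ hPiece EN mS s d = ⊥) ∧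
        (hPiece EM mR r d = ⊥ ∨ 𝒩 d = ⊥))) := by
  classical
  haveI : IsNoetherianRing R := Algebra.FiniteType.isNoetherianRing k R
  haveI : IsNoetherianRing S := Algebra.FiniteType.isNoetherianRing k S
  haveI : Nontrivial M := (Module.supportDim_ne_bot_iff_nontrivial R M).1 (by rw [hr]; simp)
  haveI : Nontrivial N := (Module.supportDim_ne_bot_iff_nontrivial S N).1 (by rw [hs]; simp)
  haveI : Nontrivial R := Module.nontrivial R M
  haveI : Nontrivial S := Module.nontrivial S N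
  haveI : Nontrivial T := nontrivial_segre ψ
  haveI := SegreCMOne.finiteType 𝒜 ℬ 𝒯 ψ hT.1 hT.2 hposR h0R hposS h0S
  haveI : IsNoetherianRing T := Algebra.FiniteType.isNoetherianRing k T
  have hposT := SegreDimOne.t_pos 𝒜 ℬ 𝒯 ψ hT.1 hT.2 hposR
  have h0T := SegreDimOne.t_zero 𝒜 ℬ 𝒯 ψ hT.1 hT.2 h0R h0S
  haveI := gradedSMul_segre hT hP
  haveI := isNoetherian_segre hT hP
  haveI : Module.Finite T P := Module.IsNoetherian.finite T P
  let mT : HomogeneousIdeal 𝒯 := ⟨Ideal.span (⋃ n ∈ Set.Ioi (0 : ℤ), (𝒯 n : Set T)), by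
    refine Ideal.homogeneous_span 𝒯 _ fun x hx => ?_
    obtain ⟨n, -, hxn⟩ := Set.mem_iUnion₂.1 hx
    exact ⟨n, hxn⟩⟩
  have haT : mT.toIdeal = GrCurve.irr 𝒯 hposT := GrRegSeq.toIdeal_eq_irr 𝒯 hposT rfl
  let EP : StarInjRes 𝒯 𝒬 := someResMod 𝒬
  have hvM : ∀ i, i ≠ r → ∀ g, hPiece EM mR i g = ⊥ := fun i hi g =>
    hPiece_mod_eq_bot hposR h0R hmR EM hr hMcm hi g
  have hvN : ∀ i, i ≠ s → ∀ g, hPiece EN mS i g = ⊥ := fun i hi g =>
    hPiece_mod_eq_bot hposS h0S hmS EN hs hNcm hi g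
  have hd := fun d => segre_dims (mT := mT) hT hP hposR h0R hposS h0S hmR hmS rfl EM EN EP
    (hvM 0 (by omega)) (hvN 0 (by omega)) d
  -- finiteness
  haveI hfP : ∀ i d, FiniteDimensional k (hPiece EP mT i d) := fun i d =>
    finiteDimensional_hPiece hposT h0T mT haT EP i d
  haveI hfM : ∀ i d, FiniteDimensional k (hPiece EM mR i d) := fun i d =>
    finiteDimensional_hPiece hposR h0R mR (GrRegSeq.toIdeal_eq_irr 𝒜 hposR hmR) EM i d
  haveI hfN : ∀ i d, FiniteDimensional k (hPiece EN mS i d) := fun i d =>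
    finiteDimensional_hPiece hposS h0S mS (GrRegSeq.toIdeal_eq_irr ℬ hposS hmS) EN i d
  haveI hpM : ∀ d, FiniteDimensional k (Groth.GrDualH.piece 𝒜 ℳ d) := fun d =>
    Groth.GrDualH.finiteDimensional_piece (M := M) (ℳ := ℳ) h0R (Or.inl inferInstance) d
  haveI hpN : ∀ d, FiniteDimensional k (Groth.GrDualH.piece ℬ 𝒩 d) := fun d =>
    Groth.GrDualH.finiteDimensional_piece (M := N) (ℳ := 𝒩) h0S (Or.inl inferInstance) d
  haveI hpP : ∀ d, FiniteDimensional k (Groth.GrDualH.piece 𝒯 𝒬 d) := fun d =>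
    Groth.GrDualH.finiteDimensional_piece (M := P) (ℳ := 𝒬) h0T (Or.inl inferInstance) d
  have pM : ∀ d, Module.finrank k (Groth.GrDualH.piece 𝒜 ℳ d) = 0 ↔ ℳ d = ⊥ := fun d => by
    rw [Submodule.finrank_eq_zero]
    exact ⟨fun h => (AddSubgroup.eq_bot_iff_forall _).2 ((Submodule.eq_bot_iff _).1 h),
      fun h => (Submodule.eq_bot_iff _).2 ((AddSubgroup.eq_bot_iff_forall _).1 h)⟩
  have pN : ∀ d, Module.finrank k (Groth.GrDualH.piece ℬ 𝒩 d) = 0 ↔ 𝒩 d = ⊥ := fun d => by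
    rw [Submodule.finrank_eq_zero]
    exact ⟨fun h => (AddSubgroup.eq_bot_iff_forall _).2 ((Submodule.eq_bot_iff _).1 h),
      fun h => (Submodule.eq_bot_iff _).2 ((AddSubgroup.eq_bot_iff_forall _).1 h)⟩
  have z : ∀ i d, (hPiece EP mT i d = ⊥ ↔ Module.finrank k (hPiece EP mT i d) = 0) :=
    fun i d => Submodule.finrank_eq_zero.symm
  have zM : ∀ i d, (hPiece EM mR i d = ⊥ ↔ Module.finrank k (hPiece EM mR i d) = 0) :=
    fun i d => Submodule.finrank_eq_zero.symm
  have zN : ∀ i d, (hPiece EN mS i d = ⊥ ↔ Module.finrank k (hPiece EN mS i d) = 0) :=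
    fun i d => Submodule.finrank_eq_zero.symm
  let μ := fun d => Module.finrank k (Groth.GrDualH.piece 𝒜 ℳ d)
  let ν := fun d => Module.finrank k (Groth.GrDualH.piece ℬ 𝒩 d)
  let α := fun d q => Module.finrank k (hPiece EM mR q d)
  let β := fun d q => Module.finrank k (hPiece EN mS q d)
  have hα : ∀ d i, i ≠ r → α d i = 0 := fun d i hi => (zM i d).1 (hvM i hi d)
  have hβ : ∀ d i, i ≠ s → β d i = 0 := fun d i hi => (zN i d).1 (hvN i hi d)
  have hA : ∀ d i, i ≠ 0 → i + 1 ≠ r → hfun (μ d) (α d) i = 0 := fun d i h0 hi => by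
    obtain ⟨j, rfl⟩ := Nat.exists_eq_succ_of_ne_zero h0
    exact hα d (j + 2) hi
  have hB : ∀ d i, i ≠ 0 → i + 1 ≠ s → hfun (ν d) (β d) i = 0 := fun d i h0 hi => by
    obtain ⟨j, rfl⟩ := Nat.exists_eq_succ_of_ne_zero h0
    exact hβ d (j + 2) hi
  have hh : ∀ d m, Module.finrank k (hPiece EP mT (m + 2) d) =
      ∑ i ∈ Finset.range (m + 2), hfun (μ d) (α d) i * hfun (ν d) (β d) (m + 1 - i) :=
    fun d m => (hd d).2.2.2 m
  have h1 : ∀ d, Module.finrank k (hPiece EP mT 1 d) = α d 1 * ν d + μ d * β d 1 + α d 1 * β d 1 := by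
    intro d
    have := (hd d).2.2.1
    rw [(hd d).2.1] at this
    change μ d * ν d + Module.finrank k (hPiece EP mT 1 d) = (μ d + α d 1) * (ν d + β d 1) at this
    linarith
  -- vanishing above
  have habove : ∀ q, r + s - 1 < q → ∀ d, hPiece EP mT q d = ⊥ := by
    intro q hq d
    obtain ⟨m, rfl⟩ := Nat.exists_eq_add_of_le (show 2 ≤ q by omega)
    rw [add_comm, z, hh]
    refine Finset.sum_eq_zero fun i hi => ?_
    rw [Finset.mem_range] at hi
    by_cases hir : r ≤ i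
    · rw [hA d i (by omega) (by omega), zero_mul]
    · rw [hB d _ (by omega) (by omega), mul_zero]
  -- a common degree
  obtain ⟨d0, hM0, hN0⟩ : ∃ d, ℳ d ≠ ⊥ ∧ 𝒩 d ≠ ⊥ := by
    by_contra! hall
    refine not_subsingleton P (subsingleton_of_forall_eq 0 fun x => ?_)
    rw [← DirectSum.sum_support_decompose 𝒬 x]
    refine Finset.sum_eq_zero fun d _ => ?_
    have h0 : Module.finrank k (Groth.GrDualH.piece 𝒯 𝒬 d) = 0 := by
      rw [(hd d).2.1, mul_eq_zero, pM, pN]
      by_cases h : ℳ d = ⊥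
      · exact Or.inl h
      · exact Or.inr (hall d h)
    exact (Submodule.eq_bot_iff _).1 (Submodule.finrank_eq_zero.1 h0) _
      (DirectSum.decompose 𝒬 x d).2
  obtain ⟨p, hp, hMtop⟩ := exists_top hposR h0R hmR EM hr hMcm h1r
  obtain ⟨p', hp', hNtop⟩ := exists_top hposS h0S hmS EN hs hNcm h1s
  obtain ⟨J, hJ⟩ := hMtop p' hp' d0 hM0
  obtain ⟨J', hJ'⟩ := hNtop p hp d0 hN0
  let g := d0 + min J J' * ((p * p' : ℕ) : ℤ)
  have hgM : α g r ≠ 0 := fun h => hJ _ (min_le_left J J') ((zM r g).2 h)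
  have hgN : β g s ≠ 0 := fun h => hJ' _ (min_le_right J J') (by
    rw [show (p' * p : ℕ) = p * p' from Nat.mul_comm _ _]; exact (zN s g).2 h)
  have htop : hPiece EP mT (r + s - 1) g ≠ ⊥ := by
    rw [Ne, z]
    rcases Nat.lt_or_ge (r + s - 1) 2 with h2 | h2
    · obtain ⟨rfl, rfl⟩ : r = 1 ∧ s = 1 := by omega
      rw [show 1 + 1 - 1 = 1 from rfl, h1]
      have := Nat.mul_pos (Nat.pos_of_ne_zero hgM) (Nat.pos_of_ne_zero hgN)
      omega
    · obtain ⟨m, hm⟩ := Nat.exists_eq_add_of_le h2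
      rw [hm, add_comm, hh]
      intro h0
      have := Finset.sum_eq_zero_iff.1 h0 (r - 1) (Finset.mem_range.2 (by omega))
      rw [show m + 1 - (r - 1) = s - 1 by omega, mul_eq_zero] at this
      have key : ∀ (n : ℕ) (μ : ℕ) (a : ℕ → ℕ), 1 ≤ n → a n ≠ 0 → hfun μ a (n - 1) ≠ 0 := by
        intro n μ a hn ha
        obtain ⟨n, rfl⟩ := Nat.exists_eq_add_of_le hn
        rcases n with _ | n
        · exact fun h => ha ((Nat.add_eq_zero_iff.1 h).2)
        · rw [show 1 + (n + 1) = n + 2 by omega] at ha ⊢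
          exact ha
      rcases this with h | h
      · exact key r _ _ h1r hgM h
      · exact key s _ _ h1s hgN h
  have hdim : Module.supportDim T P = ((r + s - 1 : ℕ) : WithBot ℕ∞) := by
    haveI hmaxT : mT.toIdeal.IsMaximal := haT ▸ GrCurve.irr_isMaximal 𝒯 hposT h0T
    have hv := supportDim_vertex hposT h0T 𝒬 mT.toIdeal haT
    haveI hnt : Nontrivial (LocalizedModule mT.toIdeal.primeCompl P) := by
      rw [← Module.supportDim_ne_bot_iff_nontrivial (Localization.AtPrime mT.toIdeal), ← hv,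
        Module.supportDim_ne_bot_iff_nontrivial]
      infer_instance
    obtain ⟨e, he⟩ := Groth.DualCore.exists_supportDim_eq (Localization.AtPrime mT.toIdeal)
      (LocalizedModule mT.toIdeal.primeCompl P)
    rw [hv, he]
    refine le_antisymm ?_ ?_
    · by_contra hlt
      rw [not_le] at hlt
      have hlt' : r + s - 1 < e := by exact_mod_cast hlt
      obtain ⟨eq⟩ := GrothGr.nonempty_localized_H_equiv mT.toIdeal P e
      haveI : Subsingleton (LocCoh.H mT.toIdeal e P) :=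
        (subsingleton_H_iff EP mT e).2 (habove e hlt')
      haveI : Subsingleton (LocalizedModule mT.toIdeal.primeCompl (LocCoh.H mT.toIdeal e P)) :=
        LocalizedModule.subsingleton_iff.2 fun x => ⟨1, one_mem _, Subsingleton.elim _ _⟩
      haveI := Groth.LocCohBase.nontrivial_H_supportDim
        (LocalizedModule mT.toIdeal.primeCompl P) e he
      exact not_subsingleton (LocCoh.H _ e (LocalizedModule mT.toIdeal.primeCompl P))
        eq.symm.toEquiv.subsingleton
    · by_contra hlt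
      rw [not_le, ← he, ← hv] at hlt
      haveI := Groth.LocCohBase.subsingleton_H_of_supportDim_lt mT.toIdeal P hlt
      exact htop ((subsingleton_H_iff EP mT _).1 inferInstance g)
  refine ⟨hdim, ?_⟩
  rw [cmAll_iff hposT h0T (clsI mT) haT 𝒬 hdim]
  simp only [show (clsI mT).toIdeal = mT.toIdeal from rfl, subsingleton_H_iff EP mT]
  -- the two interesting degrees
  have hterm : ∀ d m, m + 2 < r + s - 1 → (Module.finrank k (hPiece EP mT (m + 2) d) = 0 ↔
      (m + 2 = s → hfun (μ d) (α d) 0 = 0 ∨ β d s = 0) ∧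
      (m + 2 = r → α d r = 0 ∨ hfun (ν d) (β d) 0 = 0)) := by
    intro d m hm
    rw [hh, Finset.sum_eq_zero_iff]
    constructor
    · intro h
      constructor
      · intro he
        have := h 0 (Finset.mem_range.2 (by omega))
        rw [Nat.sub_zero, mul_eq_zero] at this
        subst he
        exact this
      · intro he
        have := h (m + 1) (Finset.mem_range.2 (by omega))
        rw [Nat.sub_self, mul_eq_zero] at this
        subst he
        exact this
    · rintro ⟨hs', hr'⟩ i hi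
      rw [Finset.mem_range] at hi
      rw [mul_eq_zero]
      by_cases hi0 : i = 0
      · subst hi0
        rw [Nat.sub_zero]
        by_cases he : m + 2 = s
        · subst he; exact hs' rfl
        · exact Or.inr (hB d _ (by omega) (by omega))
      by_cases hir : i + 1 = r
      · by_cases hj : m + 1 - i = 0
        · rw [hj]
          obtain rfl : i = m + 1 := by omega
          subst hir
          exact hr' rfl
        · exact Or.inr (hB d _ hj (by omega))
      · exact Or.inl (hA d i hi0 hir)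
  constructor
  · intro h
    refine ⟨fun hs2 d => ?_, fun hr2 d => ?_, fun hr2 hs2 d => ⟨?_, ?_⟩⟩
    · by_cases hr2 : 2 ≤ r
      · exact Or.inr (Or.inr hr2)
      · obtain rfl : r = 1 := by omega
        have h' := (z 1 d).1 (h 1 (by omega) d)
        rw [h1, hβ d 1 (by omega)] at h'
        simp only [mul_zero, add_zero, mul_eq_zero] at h'
        exact h'.elim (fun h => Or.inl ((zM 1 d).2 h)) fun h => Or.inr (Or.inl ((pN d).1 h))
    · by_cases hs2 : 2 ≤ s
      · exact Or.inr (Or.inr hs2)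
      · obtain rfl : s = 1 := by omega
        have h' := (z 1 d).1 (h 1 (by omega) d)
        rw [h1, hα d 1 (by omega)] at h'
        simp only [zero_mul, zero_add, add_zero, mul_eq_zero] at h'
        exact h'.elim (fun h => Or.inl ((pM d).1 h)) fun h => Or.inr (Or.inl ((zN 1 d).2 h))
    · obtain ⟨m, hm⟩ := Nat.exists_eq_add_of_le hs2
      have h' := ((hterm d m (by omega)).1 ((z _ d).1 (h _ (by omega) d))).1 (by omega)
      simp only [hfun, hα d 1 (by omega), add_zero] at h'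
      exact h'.imp (pM d).1 (zN s d).2
    · obtain ⟨m, hm⟩ := Nat.exists_eq_add_of_le hr2
      have h' := ((hterm d m (by omega)).1 ((z _ d).1 (h _ (by omega) d))).2 (by omega)
      simp only [hfun, hβ d 1 (by omega), add_zero] at h'
      exact h'.imp (zM r d).2 (pN d).1
  · rintro ⟨hS2, hR2, hRS⟩ q hq d
    match q with
    | 0 => exact (hd d).1
    | 1 =>
      rw [z, h1]
      by_cases hr2 : 2 ≤ r
      · rw [hα d 1 (by omega)]
        by_cases hs2 : 2 ≤ s
        · simp [hβ d 1 (by omega)]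
        · obtain rfl : s = 1 := by omega
          rcases hR2 hr2 d with h | h | h
          · simp [show μ d = 0 from (pM d).2 h]
          · simp [show β d 1 = 0 from (zN 1 d).1 h]
          · omega
      · obtain rfl : r = 1 := by omega
        rw [hβ d 1 (by omega)]
        rcases hS2 (by omega) d with h | h | h
        · simp [show α d 1 = 0 from (zM 1 d).1 h]
        · simp [show ν d = 0 from (pN d).2 h]
        · omega
    | m + 2 =>
      rw [z, hterm d m hq]
      refine ⟨fun he => ?_, fun he => ?_⟩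
      · have hr2 : 2 ≤ r := by omega
        refine ((hRS hr2 (by omega) d).1).imp (fun h => ?_) (zN s d).1
        simp only [hfun, hα d 1 (by omega), add_zero]
        exact (pM d).2 h
      · have hs2 : 2 ≤ s := by omega
        refine ((hRS (by omega) hs2 d).2).imp (zM r d).1 fun h => ?_
        simp only [hfun, hβ d 1 (by omega), add_zero]
        exact (pN d).2 h

end Groth.Misc15.SegLC
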