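import Mathlib
import Groth.Agent.Misc15.SegLC.ClsPsi
import Groth.Agent.Misc15.SegLC.SegModCM

/-!
The top local cohomology of a Segre product.
-/

set_option autoImplicit false

universe u

open scoped TensorProduct
open DirectSum GrLC

namespace Groth.Misc15.SegLC

variable {k : Type u} [Field k]
variable {R : Type u} [CommRing R] [Algebra k R] {𝒜 : ℤ → Submodule k R} [GradedAlgebra 𝒜]
  [IsNoetherianRing R]
variable {S : Type u} [CommRing S] [Algebra k S] {ℬ : ℤ → Submodule k S} [GradedAlgebra ℬ]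
  [IsNoetherianRing S]
variable {T : Type u} [CommRing T] [Algebra k T] {𝒯 : ℤ → Submodule k T} [GradedAlgebra 𝒯]
  [IsNoetherianRing T]
variable {M : Type u} [AddCommGroup M] [Module R M] [Module k M] [IsScalarTower k R M]
  {τ : Type u} [SetLike τ M] [AddSubgroupClass τ M] {ℳ : ℤ → τ} [DirectSum.Decomposition ℳ]
  [SetLike.GradedSMul 𝒜 ℳ] [Module.Finite R M]
variable {N : Type u} [AddCommGroup N] [Module S N] [Module k N] [IsScalarTower k S N]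
  {τ' : Type u} [SetLike τ' N] [AddSubgroupClass τ' N] {𝒩 : ℤ → τ'} [DirectSum.Decomposition 𝒩]
  [SetLike.GradedSMul ℬ 𝒩] [Module.Finite S N]
variable {P : Type u} [AddCommGroup P] [Module T P] [Module k P] [IsScalarTower k T P]
  {τQ : Type u} [SetLike τQ P] [AddSubgroupClass τQ P] {𝒬 : ℤ → τQ} [DirectSum.Decomposition 𝒬]
  [SetLike.GradedSMul 𝒯 𝒬] {ψ : T →ₐ[k] R ⊗[k] S} (hT : GrSeg.IsSegreRing 𝒜 ℬ 𝒯 ψ)
  {φ : P →ₗ[k] M ⊗[k] N} (hP : GrSeg.IsSegreMod ψ ℳ 𝒩 𝒬 φ)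
  {mR : HomogeneousIdeal 𝒜}
  (hmR : mR.toIdeal = Ideal.span (⋃ n ∈ Set.Ioi (0 : ℤ), (𝒜 n : Set R)))
  {mS : HomogeneousIdeal ℬ}
  (hmS : mS.toIdeal = Ideal.span (⋃ n ∈ Set.Ioi (0 : ℤ), (ℬ n : Set S)))
  {mT : HomogeneousIdeal 𝒯}
  (hmT : mT.toIdeal = Ideal.span (⋃ n ∈ Set.Ioi (0 : ℤ), (𝒯 n : Set T)))
  (EM : StarInjRes 𝒜 ℳ) (EN : StarInjRes ℬ 𝒩) (EP : StarInjRes 𝒯 𝒬)

include hT hP hmR hmS hmT in
/-- The top local cohomology of a Segre product is the Segre product of the top ones. -/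
theorem exists_segre_top {r s : ℕ} (h2r : 2 ≤ r) (h2s : 2 ≤ s)
    (hdM : Module.supportDim R M ≤ r) (hdN : Module.supportDim S N ≤ s)
    {X : Type u} [AddCommGroup X] [Module R X] [Module k X] [IsScalarTower k R X]
    (eX : EM.H mR r ≃ₗ[R] X) {𝒳 : ℤ → AddSubgroup X}
    (hX : ∀ g x, x ∈ EM.Hgr mR r g ↔ eX x ∈ 𝒳 g)
    {Y : Type u} [AddCommGroup Y] [Module S Y] [Module k Y] [IsScalarTower k S Y]
    (eY : EN.H mS s ≃ₗ[S] Y) {𝒴 : ℤ → AddSubgroup Y}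
    (hY : ∀ g y, y ∈ EN.Hgr mS s g ↔ eY y ∈ 𝒴 g) :
    ∃ L : EP.H mT (r + s - 1) →+ X ⊗[k] Y, Function.Injective L ∧
      (∀ g : ℤ, L '' (EP.Hgr mT (r + s - 1) g : Set (EP.H mT (r + s - 1))) =
        (GrSeg.segrePiece k 𝒳 𝒴 g : Set (X ⊗[k] Y))) ∧
      ∀ (t : T) x, L (t • x) = GrSeg.act k R S X Y (ψ t) (L x) := by
  classical
  obtain ⟨i, rfl⟩ : ∃ i, r = i + 1 + 1 := ⟨r - 2, by omega⟩
  obtain ⟨j, rfl⟩ : ∃ j, s = j + 1 + 1 := ⟨s - 2, by omega⟩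
  rw [show i + 1 + 1 + (j + 1 + 1) - 1 = i + 1 + (j + 1) + 1 by omega]
  obtain ⟨D1, hD1, hgR⟩ := exists_gens (𝒜 := 𝒜) hmR
  obtain ⟨D2, hD2, hgS⟩ := exists_gens (𝒜 := ℬ) hmS
  obtain ⟨c, x, hx, hxm, hxrad⟩ := hgR D2 hD2
  obtain ⟨c', y, hy, hym, hyrad⟩ := hgS D1 hD1
  have hy' : ∀ l, y l ∈ ℬ ((D1 * D2 : ℕ) : ℤ) := fun l => by rw [mul_comm]; exact hy l
  let DM : TorRes mR ℳ := locRes x hx mR hxm hxrad
  let DN : TorRes mS 𝒩 := locRes y hy' mS hym hyrad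
  have hbM : ∀ l, IsBij ((D1 * D2 : ℕ) : ℤ) (DM.C l) := fun l => isBij_step x hx _
  have hbN : ∀ l, IsBij ((D1 * D2 : ℕ) : ℤ) (DN.C l) := fun l => isBij_step y hy' _
  have hsub : ∀ n : ℤ, 0 < n → ∀ r ∈ 𝒜 n, r ∈ mR.toIdeal := fun n hn r hr => by
    rw [hmR]; exact Ideal.subset_span (Set.mem_iUnion₂.2 ⟨n, hn, hr⟩)
  have hsub' : ∀ n : ℤ, 0 < n → ∀ r ∈ ℬ n, r ∈ mS.toIdeal := fun n hn r hr => by
    rw [hmS]; exact Ideal.subset_span (Set.mem_iUnion₂.2 ⟨n, hn, hr⟩)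
  obtain ⟨φM⟩ := nonempty_compMap EM DM
  obtain ⟨φN⟩ := nonempty_compMap EN DN
  refine exists_segreMap_H hT hP (clsPsi φM (i + 1) eX hX) (clsPsi φN (j + 1) eY hY) rfl hsub hsub'
    hmT (D := ((D1 * D2 : ℕ) : ℤ)) (by exact_mod_cast Nat.mul_pos hD1 hD2) hbM hbN EP
    (Or.inl (clsPsi_augAt φM (i + 1) eX hX)) ?_
  refine hinj_of_injective _ _ _ (clsPsi_bar_injective φM (i + 1) eX hX rfl)
    (clsPsi_bar_injective φN (j + 1) eY hY rfl) fun p hp => ?_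
  obtain ⟨⟨a, b⟩, hab⟩ := p
  have hab' : a + b = i + 1 + (j + 1) := Finset.HasAntidiagonal.mem_antidiagonal.1 hab
  rcases lt_or_ge (i + 1) a with ha | ha
  · refine Or.inl ?_
    obtain ⟨a, rfl⟩ : ∃ a', a = a' + 1 := ⟨a - 1, by omega⟩
    haveI : Subsingleton (LocCoh.H mR.toIdeal (a + 2) M) :=
      Groth.LocCohBase.subsingleton_H_of_supportDim_lt mR.toIdeal M
        (lt_of_le_of_lt hdM (by exact_mod_cast (by omega : i + 1 + 1 < a + 2)))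
    obtain ⟨eh⟩ : Nonempty (EM.H mR (a + 2) ≃ₗ[R] LocCoh.H mR.toIdeal (a + 2) M) :=
      GrothGr.nonempty_H_equiv (cls 𝒜) (clsM ℳ) (clsI mR) (clsRes EM) (a + 2)
    haveI : Subsingleton (EM.H mR (a + 2)) := eh.toEquiv.subsingleton
    exact subsingleton_kunH φM a
  · rcases eq_or_lt_of_le ha with rfl | ha'
    · obtain rfl : b = j + 1 := by omega
      exact absurd rfl hp
    refine Or.inr ?_
    obtain ⟨b, rfl⟩ : ∃ b', b = b' + 1 := ⟨b - 1, by omega⟩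
    haveI : Subsingleton (LocCoh.H mS.toIdeal (b + 2) N) :=
      Groth.LocCohBase.subsingleton_H_of_supportDim_lt mS.toIdeal N
        (lt_of_le_of_lt hdN (by exact_mod_cast (by omega : j + 1 + 1 < b + 2)))
    obtain ⟨eh⟩ : Nonempty (EN.H mS (b + 2) ≃ₗ[S] LocCoh.H mS.toIdeal (b + 2) N) :=
      GrothGr.nonempty_H_equiv (cls ℬ) (clsM 𝒩) (clsI mS) (clsRes EN) (b + 2)
    haveI : Subsingleton (EN.H mS (b + 2)) := eh.toEquiv.subsingleton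
    exact subsingleton_kunH φN b

end Groth.Misc15.SegLC
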