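import Mathlib
import Groth.Agent.Misc15.SegLC.CanDual
import Groth.Agent.Misc15.SegLC.SegDual
import Groth.Agent.Misc15.SegLC.SegTop
import Groth.Agent.Misc15.SegLC.SegBij

/-!
The canonical module of a Segre product.
-/

set_option autoImplicit false

universe u

open scoped TensorProduct
open DirectSum GrLC

namespace Groth.Misc15.CanSegre

variable {k : Type u} [Field k]
variable {R : Type u} [CommRing R] [Algebra k R] {𝒜 : ℤ → Submodule k R} [GradedAlgebra 𝒜]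

/-- Graded local cohomology is a graded module. -/
theorem exists_hgr {M : Type u} [AddCommGroup M] [Module R M] {τ : Type u} [SetLike τ M]
    [AddSubgroupClass τ M] {ℳ : ℤ → τ} [DirectSum.Decomposition ℳ] [SetLike.GradedSMul 𝒜 ℳ]
    (E : StarInjRes 𝒜 ℳ) (a : HomogeneousIdeal 𝒜) (i : ℕ) :
    Nonempty (DirectSum.Decomposition (E.Hgr a i)) ∧ SetLike.GradedSMul 𝒜 (E.Hgr a i) :=
  ⟨⟨(GrothGr.Hgr_isInternal (SegLC.cls 𝒜) (SegLC.clsM ℳ) (SegLC.clsRes E) (SegLC.clsI a)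
      i).chooseDecomposition⟩,
    ⟨fun {b j r x} hr hx => by
      obtain ⟨z, hz, rfl⟩ := hx
      exact ⟨r • z, GrothGr.smul_mem (E.X i).gr 𝒜 (a := b) hr hz, map_smul _ _ _⟩⟩⟩

/-- Dimensions of the pieces of a Segre product. -/
theorem finrank_segreMod {S : Type u} [CommRing S] [Algebra k S] {ℬ : ℤ → Submodule k S}
    [GradedAlgebra ℬ] {T : Type u} [CommRing T] [Algebra k T] {𝒯 : ℤ → Submodule k T}
    [GradedAlgebra 𝒯] {ψ : T →ₐ[k] R ⊗[k] S}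
    {M : Type u} [AddCommGroup M] [Module R M] [Module k M] [IsScalarTower k R M]
    {ℳ : ℤ → AddSubgroup M} [DirectSum.Decomposition ℳ] [SetLike.GradedSMul 𝒜 ℳ]
    {N : Type u} [AddCommGroup N] [Module S N] [Module k N] [IsScalarTower k S N]
    {𝒩 : ℤ → AddSubgroup N} [DirectSum.Decomposition 𝒩] [SetLike.GradedSMul ℬ 𝒩]
    {P : Type u} [AddCommGroup P] [Module T P] [Module k P] [IsScalarTower k T P]
    {𝒬 : ℤ → AddSubgroup P} [DirectSum.Decomposition 𝒬] [SetLike.GradedSMul 𝒯 𝒬]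
    {φ : P →ₗ[k] M ⊗[k] N} (hP : GrSeg.IsSegreMod ψ ℳ 𝒩 𝒬 φ) (d : ℤ) :
    Module.finrank k (Groth.GrDualH.piece 𝒯 𝒬 d) =
      Module.finrank k (Groth.GrDualH.piece 𝒜 ℳ d) * Module.finrank k (Groth.GrDualH.piece ℬ 𝒩 d) := by
  let W := Groth.GrDualH.piece 𝒜 ℳ d ⊗[k] Groth.GrDualH.piece ℬ 𝒩 d
  let f : W →ₗ[k] M ⊗[k] N := SegLC.incl2 _ _
  let g : Groth.GrDualH.piece 𝒯 𝒬 d →ₗ[k] M ⊗[k] N :=
    φ ∘ₗ (Groth.GrDualH.piece 𝒯 𝒬 d).subtype
  have hr : LinearMap.range g = LinearMap.range f := by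
    refine le_antisymm ?_ ?_
    · rintro _ ⟨p, rfl⟩; exact SegLC.phi_mem (𝒜 := 𝒜) (ℬ := ℬ) hP d p.1 p.2
    · rintro _ ⟨w, rfl⟩
      obtain ⟨p, hp, hpw⟩ := SegLC.exists_phi_eq (𝒜 := 𝒜) (ℬ := ℬ) hP d w
      exact ⟨⟨p, hp⟩, hpw⟩
  rw [← LinearMap.finrank_range_of_inj (f := g) (hP.injective.comp Subtype.val_injective), hr,
    LinearMap.finrank_range_of_inj (f := f) (SegLC.incl2_injective _ _)]
  exact Module.finrank_tensorProduct

/-- Dimensions of the pieces of a graded dual. -/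
theorem finrank_gdual {M : Type u} [AddCommGroup M] [Module R M] [Module k M] [IsScalarTower k R M]
    {ℳ : ℤ → AddSubgroup M} [DirectSum.Decomposition ℳ] [SetLike.GradedSMul 𝒜 ℳ]
    {D : Type u} [AddCommGroup D] [Module R D] [Module k D] [IsScalarTower k R D]
    {𝒟 : ℤ → AddSubgroup D} [DirectSum.Decomposition 𝒟] [SetLike.GradedSMul 𝒜 𝒟]
    {β : D →ₗ[k] M →ₗ[k] k} (hD : GrSeg.IsGDual R ℳ 𝒟 β) (n : ℤ)
    [FiniteDimensional k (Groth.GrDualH.piece 𝒜 𝒟 n)] :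
    FiniteDimensional k (Groth.GrDualH.piece 𝒜 ℳ (-n)) ∧
      Module.finrank k (Groth.GrDualH.piece 𝒜 𝒟 n) =
        Module.finrank k (Groth.GrDualH.piece 𝒜 ℳ (-n)) := by
  obtain ⟨θ, -⟩ := SegLC.exists_pieceDual (𝒜 := 𝒜) hD n
  haveI : FiniteDimensional k (Groth.GrDualH.piece 𝒜 ℳ (-n)) :=
    (Module.finite_dual_iff k).1 θ.finiteDimensional
  exact ⟨inferInstance, θ.finrank_eq.trans Subspace.dual_finrank_eq⟩

section Main

variable [Nontrivial R] [Algebra.FiniteType k R]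
  (hposR : ∀ n : ℤ, n < 0 → 𝒜 n = ⊥) (h0R : 𝒜 0 = Submodule.span k {(1 : R)})
  {mR : HomogeneousIdeal 𝒜}
  (hmR : mR.toIdeal = Ideal.span (⋃ n ∈ Set.Ioi (0 : ℤ), (𝒜 n : Set R)))
  {I : StarInjRes 𝒜 𝒜} {r : ℕ} (hr : ringKrullDim R = r) (h2r : 2 ≤ r)
  {ER : Type u} [AddCommGroup ER] [Module R ER] {𝓔R : ℤ → AddSubgroup ER}
  [DirectSum.Decomposition 𝓔R] [SetLike.GradedSMul 𝒜 𝓔R] {eR : (R ⧸ mR.toIdeal) →ₗ[R] ER}
  (heR : IsStarInjHull 𝒜 (quotGr 𝒜 mR) 𝓔R eR)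
  {CR : Type u} [AddCommGroup CR] [Module R CR] [Module k CR] [IsScalarTower k R CR]
  {𝒞R : ℤ → AddSubgroup CR} [DirectSum.Decomposition 𝒞R] [SetLike.GradedSMul 𝒜 𝒞R]
  (hCR : IsStarCanonical 𝒜 𝒞R 𝓔R mR r I)
variable {S : Type u} [CommRing S] [Algebra k S] {ℬ : ℤ → Submodule k S} [GradedAlgebra ℬ]
  [Nontrivial S] [Algebra.FiniteType k S]
  (hposS : ∀ n : ℤ, n < 0 → ℬ n = ⊥) (h0S : ℬ 0 = Submodule.span k {(1 : S)})
  {mS : HomogeneousIdeal ℬ}
  (hmS : mS.toIdeal = Ideal.span (⋃ n ∈ Set.Ioi (0 : ℤ), (ℬ n : Set S)))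
  {J : StarInjRes ℬ ℬ} {s : ℕ} (hs : ringKrullDim S = s) (h2s : 2 ≤ s)
  {ES : Type u} [AddCommGroup ES] [Module S ES] {𝓔S : ℤ → AddSubgroup ES}
  [DirectSum.Decomposition 𝓔S] [SetLike.GradedSMul ℬ 𝓔S] {eS : (S ⧸ mS.toIdeal) →ₗ[S] ES}
  (heS : IsStarInjHull ℬ (quotGr ℬ mS) 𝓔S eS)
  {CS : Type u} [AddCommGroup CS] [Module S CS] [Module k CS] [IsScalarTower k S CS]
  {𝒞S : ℤ → AddSubgroup CS} [DirectSum.Decomposition 𝒞S] [SetLike.GradedSMul ℬ 𝒞S]
  (hCS : IsStarCanonical ℬ 𝒞S 𝓔S mS s J)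
variable {T : Type u} [CommRing T] [Algebra k T] {𝒯 : ℤ → Submodule k T} [GradedAlgebra 𝒯]
  {ψ : T →ₐ[k] R ⊗[k] S} (hT : GrSeg.IsSegreRing 𝒜 ℬ 𝒯 ψ) {mT : HomogeneousIdeal 𝒯}
  (hmT : mT.toIdeal = Ideal.span (⋃ n ∈ Set.Ioi (0 : ℤ), (𝒯 n : Set T)))
  (IT : StarInjRes 𝒯 𝒯)

include hposR h0R hmR hr h2r heR hCR hposS h0S hmS hs h2s heS hCS hT hmT in
theorem isStarCanonical_segre {ET : Type u} [AddCommGroup ET] [Module T ET]
    {𝓔T : ℤ → AddSubgroup ET} [DirectSum.Decomposition 𝓔T] [SetLike.GradedSMul 𝒯 𝓔T]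
    {eT : (T ⧸ mT.toIdeal) →ₗ[T] ET} (heT : IsStarInjHull 𝒯 (quotGr 𝒯 mT) 𝓔T eT)
    {P : Type u} [AddCommGroup P] [Module T P] [Module k P] [IsScalarTower k T P]
    {𝒬 : ℤ → AddSubgroup P} [DirectSum.Decomposition 𝒬] [SetLike.GradedSMul 𝒯 𝒬]
    {φ : P →ₗ[k] CR ⊗[k] CS} (hP : GrSeg.IsSegreMod ψ 𝒞R 𝒞S 𝒬 φ) :
    IsStarCanonical 𝒯 𝒬 𝓔T mT (r + s - 1) IT := by
  haveI : IsNoetherianRing R := Algebra.FiniteType.isNoetherianRing k R
  haveI : IsNoetherianRing S := Algebra.FiniteType.isNoetherianRing k S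
  haveI : IsNoetherianRing T :=
    Groth.Agent.S18646.result k R 𝒜 hposR h0R S ℬ hposS h0S T 𝒯 ψ hT.1 hT.2
  haveI : Nontrivial T := SegLC.nontrivial_segre ψ
  have hposT := SegreDimOne.t_pos 𝒜 ℬ 𝒯 ψ hT.1 hT.2 hposR
  have h0T := SegreDimOne.t_zero 𝒜 ℬ 𝒯 ψ hT.1 hT.2 h0R h0S
  haveI : Module.Finite R CR := hCR.1
  haveI : Module.Finite S CS := hCS.1
  haveI : IsNoetherian R CR := isNoetherian_of_isNoetherianRing_of_finite R CR
  haveI : IsNoetherian S CS := isNoetherian_of_isNoetherianRing_of_finite S CS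
  letI : Module k ER := Module.compHom ER (algebraMap k R)
  haveI : IsScalarTower k R ER := IsScalarTower.of_algebraMap_smul fun _ _ => rfl
  letI : Module k ES := Module.compHom ES (algebraMap k S)
  haveI : IsScalarTower k S ES := IsScalarTower.of_algebraMap_smul fun _ _ => rfl
  letI : Module k ET := Module.compHom ET (algebraMap k T)
  haveI : IsScalarTower k T ET := IsScalarTower.of_algebraMap_smul fun _ _ => rfl
  letI : Module k (I.H mR r) := Module.compHom (I.H mR r) (algebraMap k R)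
  haveI : IsScalarTower k R (I.H mR r) := IsScalarTower.of_algebraMap_smul fun _ _ => rfl
  letI : Module k (J.H mS s) := Module.compHom (J.H mS s) (algebraMap k S)
  haveI : IsScalarTower k S (J.H mS s) := IsScalarTower.of_algebraMap_smul fun _ _ => rfl
  letI : Module k (IT.H mT (r + s - 1)) := Module.compHom (IT.H mT (r + s - 1)) (algebraMap k T)
  haveI : IsScalarTower k T (IT.H mT (r + s - 1)) :=
    IsScalarTower.of_algebraMap_smul fun _ _ => rfl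
  obtain ⟨⟨dR⟩, gR⟩ := exists_hgr I mR r
  obtain ⟨⟨dS⟩, gS⟩ := exists_hgr J mS s
  obtain ⟨⟨dT⟩, gT⟩ := exists_hgr IT mT (r + s - 1)
  letI := dR; letI := dS; letI := dT
  haveI := gR; haveI := gS; haveI := gT
  obtain ⟨βR, hβR⟩ := CanDual.exists_gdual hposR h0R hmR heR (LinearEquiv.refl R (I.H mR r))
    (ℋ := I.Hgr mR r) (fun _ _ => Iff.rfl) hCR
  obtain ⟨βS, hβS⟩ := CanDual.exists_gdual hposS h0S hmS heS (LinearEquiv.refl S (J.H mS s))
    (ℋ := J.Hgr mS s) (fun _ _ => Iff.rfl) hCS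
  obtain ⟨L0, hi, him, hsm⟩ := SegLC.exists_segre_top hT (SegLC.isSegreMod_self hT) hmR hmS hmT I J IT
    h2r h2s (le_of_eq ((Module.supportDim_self_eq_ringKrullDim R).trans hr))
    (le_of_eq ((Module.supportDim_self_eq_ringKrullDim S).trans hs))
    (LinearEquiv.refl R (I.H mR r)) (𝒳 := I.Hgr mR r) (fun _ _ => Iff.rfl)
    (LinearEquiv.refl S (J.H mS s)) (𝒴 := J.Hgr mS s) (fun _ _ => Iff.rfl)
  obtain ⟨L, hL⟩ := SegLC.exists_isSegreMod_of_addMap L0 hi him hsm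
    (ℋ := IT.Hgr mT (r + s - 1))
  have hfR : ∀ n, FiniteDimensional k (Groth.GrDualH.piece 𝒜 𝒞R n) := fun n =>
    Groth.GrDualH.finiteDimensional_piece (M := CR) (ℳ := 𝒞R) h0R (Or.inl inferInstance) n
  have hfS : ∀ n, FiniteDimensional k (Groth.GrDualH.piece ℬ 𝒞S n) := fun n =>
    Groth.GrDualH.finiteDimensional_piece (M := CS) (ℳ := 𝒞S) h0S (Or.inl inferInstance) n
  obtain ⟨β, hβ⟩ := SegLC.exists_gdual_segre hβR hβS hL hP hfR hfS
  haveI := SegLC.isNoetherian_segre hT hP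
  haveI : Module.Finite T P := Module.IsNoetherian.finite T P
  refine CanDual.isStarCanonical_of_gdual hposT h0T hmT heT (LinearEquiv.refl T _)
    (ℋ := IT.Hgr mT (r + s - 1)) (fun _ _ => Iff.rfl) hβ fun d => ?_
  haveI := Groth.GrDualH.finiteDimensional_piece (M := P) (ℳ := 𝒬) h0T (Or.inl inferInstance) (-d)
  have := (finrank_gdual (𝒜 := 𝒯) hβ (-d)).1
  rwa [neg_neg] at this

include hposR h0R hmR hr h2r heR hCR hposS h0S hmS hs h2s heS hCS hT hmT in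
theorem finrank_canonical_segre {ET : Type u} [AddCommGroup ET] [Module T ET]
    {𝓔T : ℤ → AddSubgroup ET} [DirectSum.Decomposition 𝓔T] [SetLike.GradedSMul 𝒯 𝓔T]
    {eT : (T ⧸ mT.toIdeal) →ₗ[T] ET} (heT : IsStarInjHull 𝒯 (quotGr 𝒯 mT) 𝓔T eT)
    {CT : Type u} [AddCommGroup CT] [Module T CT] [Module k CT] [IsScalarTower k T CT]
    {𝒞T : ℤ → AddSubgroup CT} [DirectSum.Decomposition 𝒞T] [SetLike.GradedSMul 𝒯 𝒞T]
    (hCT : IsStarCanonical 𝒯 𝒞T 𝓔T mT (r + s - 1) IT) (n : ℤ) :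
    Module.finrank k (Groth.GrDualH.piece 𝒯 𝒞T n) =
      Module.finrank k (Groth.GrDualH.piece 𝒜 𝒞R n) *
        Module.finrank k (Groth.GrDualH.piece ℬ 𝒞S n) := by
  haveI : IsNoetherianRing R := Algebra.FiniteType.isNoetherianRing k R
  haveI : IsNoetherianRing S := Algebra.FiniteType.isNoetherianRing k S
  haveI : IsNoetherianRing T :=
    Groth.Agent.S18646.result k R 𝒜 hposR h0R S ℬ hposS h0S T 𝒯 ψ hT.1 hT.2
  haveI : Nontrivial T := SegLC.nontrivial_segre ψ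
  have hposT := SegreDimOne.t_pos 𝒜 ℬ 𝒯 ψ hT.1 hT.2 hposR
  have h0T := SegreDimOne.t_zero 𝒜 ℬ 𝒯 ψ hT.1 hT.2 h0R h0S
  haveI : Module.Finite R CR := hCR.1
  haveI : Module.Finite S CS := hCS.1
  haveI : Module.Finite T CT := hCT.1
  haveI : IsNoetherian R CR := isNoetherian_of_isNoetherianRing_of_finite R CR
  haveI : IsNoetherian S CS := isNoetherian_of_isNoetherianRing_of_finite S CS
  haveI : IsNoetherian T CT := isNoetherian_of_isNoetherianRing_of_finite T CT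
  letI : Module k ER := Module.compHom ER (algebraMap k R)
  haveI : IsScalarTower k R ER := IsScalarTower.of_algebraMap_smul fun _ _ => rfl
  letI : Module k ES := Module.compHom ES (algebraMap k S)
  haveI : IsScalarTower k S ES := IsScalarTower.of_algebraMap_smul fun _ _ => rfl
  letI : Module k ET := Module.compHom ET (algebraMap k T)
  haveI : IsScalarTower k T ET := IsScalarTower.of_algebraMap_smul fun _ _ => rfl
  letI : Module k (I.H mR r) := Module.compHom (I.H mR r) (algebraMap k R)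
  haveI : IsScalarTower k R (I.H mR r) := IsScalarTower.of_algebraMap_smul fun _ _ => rfl
  letI : Module k (J.H mS s) := Module.compHom (J.H mS s) (algebraMap k S)
  haveI : IsScalarTower k S (J.H mS s) := IsScalarTower.of_algebraMap_smul fun _ _ => rfl
  letI : Module k (IT.H mT (r + s - 1)) := Module.compHom (IT.H mT (r + s - 1)) (algebraMap k T)
  haveI : IsScalarTower k T (IT.H mT (r + s - 1)) :=
    IsScalarTower.of_algebraMap_smul fun _ _ => rfl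
  obtain ⟨⟨dR⟩, gR⟩ := exists_hgr I mR r
  obtain ⟨⟨dS⟩, gS⟩ := exists_hgr J mS s
  obtain ⟨⟨dT⟩, gT⟩ := exists_hgr IT mT (r + s - 1)
  letI := dR; letI := dS; letI := dT
  haveI := gR; haveI := gS; haveI := gT
  obtain ⟨βR, hβR⟩ := CanDual.exists_gdual hposR h0R hmR heR (LinearEquiv.refl R (I.H mR r))
    (ℋ := I.Hgr mR r) (fun _ _ => Iff.rfl) hCR
  obtain ⟨βS, hβS⟩ := CanDual.exists_gdual hposS h0S hmS heS (LinearEquiv.refl S (J.H mS s))
    (ℋ := J.Hgr mS s) (fun _ _ => Iff.rfl) hCS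
  obtain ⟨βT, hβT⟩ := CanDual.exists_gdual hposT h0T hmT heT
    (LinearEquiv.refl T (IT.H mT (r + s - 1))) (ℋ := IT.Hgr mT (r + s - 1)) (fun _ _ => Iff.rfl) hCT
  obtain ⟨L0, hi, him, hsm⟩ := SegLC.exists_segre_top hT (SegLC.isSegreMod_self hT) hmR hmS hmT I J IT
    h2r h2s (le_of_eq ((Module.supportDim_self_eq_ringKrullDim R).trans hr))
    (le_of_eq ((Module.supportDim_self_eq_ringKrullDim S).trans hs))
    (LinearEquiv.refl R (I.H mR r)) (𝒳 := I.Hgr mR r) (fun _ _ => Iff.rfl)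
    (LinearEquiv.refl S (J.H mS s)) (𝒴 := J.Hgr mS s) (fun _ _ => Iff.rfl)
  obtain ⟨L, hL⟩ := SegLC.exists_isSegreMod_of_addMap L0 hi him hsm
    (ℋ := IT.Hgr mT (r + s - 1))
  haveI := Groth.GrDualH.finiteDimensional_piece (M := CR) (ℳ := 𝒞R) h0R (Or.inl inferInstance) n
  haveI := Groth.GrDualH.finiteDimensional_piece (M := CS) (ℳ := 𝒞S) h0S (Or.inl inferInstance) n
  haveI := Groth.GrDualH.finiteDimensional_piece (M := CT) (ℳ := 𝒞T) h0T (Or.inl inferInstance) n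
  rw [(finrank_gdual hβT n).2, (finrank_gdual hβR n).2, (finrank_gdual hβS n).2]
  exact finrank_segreMod (𝒯 := 𝒯) hL (-n)

end Main

end Groth.Misc15.CanSegre
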