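import Mathlib
import Groth.Prelude.Def_GrSeg
import Groth.Agent.GrDualH.Duality
import Groth.Agent.GrMod.Basic

/-!
Existence of graded duals.
-/

set_option autoImplicit false

universe u

open DirectSum

namespace Groth.Misc15.GDualExists

variable {k : Type u} [Field k] {R : Type u} [CommRing R] [Algebra k R]
  {𝒜 : ℤ → Submodule k R} [GradedAlgebra 𝒜]
  {M : Type u} [AddCommGroup M] [Module R M] [Module k M] [IsScalarTower k R M]

/-- The contragredient action. -/
noncomputable def contra : R →+* Module.End k (Module.Dual k M) where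
  toFun r := (Algebra.lsmul k k M r).dualMap
  map_one' := LinearMap.ext fun μ => LinearMap.ext fun x => by simp
  map_mul' r s := LinearMap.ext fun μ => LinearMap.ext fun x => by
    simp [mul_comm r s, mul_smul]
  map_zero' := LinearMap.ext fun μ => LinearMap.ext fun x => by simp
  map_add' r s := LinearMap.ext fun μ => LinearMap.ext fun x => by simp [add_smul]

theorem contra_apply (r : R) (μ : Module.Dual k M) (x : M) : contra r μ x = μ (r • x) := rfl

variable (𝒜) in
/-- Every graded module has a graded dual. -/
theorem exists_gdual (ℳ : ℤ → AddSubgroup M) [DirectSum.Decomposition ℳ]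
    [SetLike.GradedSMul 𝒜 ℳ] :
    ∃ (D : Type u) (_ : AddCommGroup D) (_ : Module R D) (_ : Module k D)
      (_ : IsScalarTower k R D) (𝒟 : ℤ → AddSubgroup D) (_ : DirectSum.Decomposition 𝒟)
      (_ : SetLike.GradedSMul 𝒜 𝒟) (β : D →ₗ[k] M →ₗ[k] k), GrSeg.IsGDual R ℳ 𝒟 β := by
  classical
  letI : Module R (Module.Dual k M) := Module.compHom _ (contra (k := k) (R := R) (M := M))
  have hact : ∀ (r : R) (μ : Module.Dual k M) (x : M), (r • μ) x = μ (r • x) := fun _ _ _ => rfl
  let supp : Finset ℤ → Module.Dual k M → Prop := fun s μ => ∀ i ∉ s, ∀ x ∈ ℳ i, μ x = 0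
  let D : Submodule R (Module.Dual k M) :=
    { carrier := {μ | ∃ s, supp s μ}
      add_mem' := fun {a b} ⟨s, hs⟩ ⟨t, ht⟩ => ⟨s ∪ t, fun i hi x hx => by
        rw [Finset.mem_union, not_or] at hi
        rw [LinearMap.add_apply, hs i hi.1 x hx, ht i hi.2 x hx, add_zero]⟩
      zero_mem' := ⟨∅, fun _ _ x _ => LinearMap.zero_apply x⟩
      smul_mem' := fun r μ ⟨s, hs⟩ => by
        induction r using DirectSum.Decomposition.inductionOn 𝒜 with
        | zero => exact ⟨∅, fun _ _ x _ => by rw [hact, zero_smul, map_zero]⟩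
        | add a b ha hb =>
          obtain ⟨u, hu⟩ := ha
          obtain ⟨v, hv⟩ := hb
          refine ⟨u ∪ v, fun i hi x hx => ?_⟩
          rw [Finset.mem_union, not_or] at hi
          rw [hact, add_smul, map_add, ← hact, ← hact, hu i hi.1 x hx, hv i hi.2 x hx, add_zero]
        | @homogeneous d r =>
          refine ⟨s.image (fun i => i - d), fun i hi x hx => ?_⟩
          rw [hact]
          refine hs (d + i) (fun h => hi ?_) _ (Groth.GrDualH.smul_mem (ℳ := ℳ) r.2 hx)
          exact Finset.mem_image.2 ⟨d + i, h, by ring⟩ }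
  letI : Module k D := Module.compHom D (algebraMap k R)
  haveI : IsScalarTower k R D := IsScalarTower.of_algebraMap_smul fun _ _ => rfl
  let β : D →ₗ[k] M →ₗ[k] k :=
    { toFun := fun d => (d : Module.Dual k M)
      map_add' := fun _ _ => rfl
      map_smul' := fun c d => LinearMap.ext fun x => by
        show (d : Module.Dual k M) (algebraMap k R c • x) = c • (d : Module.Dual k M) x
        rw [algebraMap_smul, map_smul] }
  let 𝒟 : ℤ → AddSubgroup D := fun n =>
    { carrier := {d | ∀ i, i ≠ -n → ∀ x ∈ ℳ i, (d : Module.Dual k M) x = 0}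
      add_mem' := fun {a b} ha hb i hi x hx => by
        show (a : Module.Dual k M) x + (b : Module.Dual k M) x = 0
        rw [ha i hi x hx, hb i hi x hx, add_zero]
      zero_mem' := fun _ _ x _ => LinearMap.zero_apply x
      neg_mem' := fun {a} ha i hi x hx => by
        show -((a : Module.Dual k M) x) = 0
        rw [ha i hi x hx, neg_zero] }
  have hmem : ∀ (μ : Module.Dual k M) (i : ℤ),
      ∀ j, j ≠ i → ∀ x ∈ ℳ j, (μ ∘ₗ Groth.GrDualH.projₗ 𝒜 ℳ i) x = 0 := fun μ i j hj x hx => by
    show μ (Groth.GrDualH.proj ℳ i x) = 0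
    rw [Groth.GrDualH.proj_of_mem_ne hx hj, map_zero]
  let el : Module.Dual k M → ℤ → D := fun μ i =>
    ⟨μ ∘ₗ Groth.GrDualH.projₗ 𝒜 ℳ i, {i}, fun j hj x hx =>
      hmem μ i j (fun h => hj (Finset.mem_singleton.2 h)) x hx⟩
  have hel : ∀ μ i, el μ i ∈ 𝒟 (-i) := fun μ i j hj x hx =>
    hmem μ i j (fun h => hj (h.trans (neg_neg i).symm)) x hx
  have hint : DirectSum.IsInternal 𝒟 := by
    refine GrothGr.isInternal_of 𝒟 (fun d => ?_) fun s v hv hsum g hg => ?_
    · obtain ⟨s, hs⟩ := d.2
      rw [show d = ∑ i ∈ s, el (d : Module.Dual k M) i from Subtype.ext (LinearMap.ext fun x => by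
        rw [AddSubmonoidClass.coe_finsetSum, LinearMap.sum_apply]
        induction x using DirectSum.Decomposition.inductionOn ℳ with
        | zero => simp
        | add a b ha hb => rw [map_add, ha, hb, ← Finset.sum_add_distrib]; simp only [map_add]
        | @homogeneous j x =>
          show (d : Module.Dual k M) x =
            ∑ i ∈ s, (d : Module.Dual k M) (Groth.GrDualH.proj ℳ i x)
          by_cases hj : j ∈ s
          · rw [Finset.sum_eq_single j (fun i _ hi => by
              rw [Groth.GrDualH.proj_of_mem_ne x.2 (Ne.symm hi), map_zero])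
              (fun h => absurd hj h), Groth.GrDualH.proj_of_mem x.2]
          · rw [hs j hj _ x.2, Finset.sum_eq_zero fun i hi => ?_]
            rw [Groth.GrDualH.proj_of_mem_ne x.2 (fun h => hj (h ▸ hi)), map_zero])]
      exact sum_mem fun i _ => AddSubgroup.mem_iSup_of_mem (-i) (hel _ i)
    · refine Subtype.ext (LinearMap.ext fun x => ?_)
      induction x using DirectSum.Decomposition.inductionOn ℳ with
      | zero => simp
      | add a b ha hb => rw [map_add, ha, hb, map_add]
      | @homogeneous j x =>
        by_cases hj : j = -g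
        · have h := LinearMap.congr_fun (congrArg Subtype.val hsum) (x : M)
          rw [AddSubmonoidClass.coe_finsetSum, LinearMap.sum_apply,
            Finset.sum_eq_single g (fun i _ hi => hv i j (fun h' => hi (by omega)) x x.2)
              (fun h' => absurd hg h')] at h
          exact h
        · exact hv g j hj x x.2
  letI := hint.chooseDecomposition
  refine ⟨D, inferInstance, inferInstance, inferInstance, inferInstance, 𝒟, inferInstance,
    ⟨fun {b j r d} hr hd i hi x hx => ?_⟩, β,
    ⟨fun _ _ _ => rfl, fun n d hd i hi x hx => hd i hi x hx, fun n d hd h => ?_, fun n g => ?_⟩⟩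
  · show (d : Module.Dual k M) (r • x) = 0
    refine hd (b + i) ?_ _ (Groth.GrDualH.smul_mem (ℳ := ℳ) hr hx)
    simp only [vadd_eq_add] at hi
    omega
  · refine Subtype.ext (LinearMap.ext fun x => ?_)
    induction x using DirectSum.Decomposition.inductionOn ℳ with
    | zero => simp
    | add a b ha hb => rw [map_add, ha, hb, map_add]
    | @homogeneous i x =>
      by_cases hi : i = -n
      · exact h x (hi ▸ x.2)
      · exact hd i hi x x.2
  · refine ⟨el g (-n), ?_, fun x hx => ?_⟩
    · have := hel g (-n)
      rwa [neg_neg] at this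
    · show g (Groth.GrDualH.proj ℳ (-n) x) = g x
      rw [Groth.GrDualH.proj_of_mem hx]

end Groth.Misc15.GDualExists
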