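import Mathlib
import Groth.Agent.Misc15.SegLC.GDualExists
import Groth.Agent.Misc15.SegLC.CanDual
import Groth.Agent.Misc15.SegLC.CanSegre
import Groth.Agent.Misc15.SegLC.SegCMStd

/-!
Existence of canonical modules of positively graded algebras.
-/

set_option autoImplicit false

universe u

open DirectSum GrLC

namespace Groth.Misc15.CanExists

variable {k : Type u} [Field k] {R : Type u} [CommRing R] [Algebra k R] [Nontrivial R]
  {𝒜 : ℤ → Submodule k R} [GradedAlgebra 𝒜]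
  (hpos : ∀ n : ℤ, n < 0 → 𝒜 n = ⊥) (h0 : 𝒜 0 = Submodule.span k {(1 : R)})
  {m : HomogeneousIdeal 𝒜}
  (hm : m.toIdeal = Ideal.span (⋃ n ∈ Set.Ioi (0 : ℤ), (𝒜 n : Set R)))

include hpos h0 hm in
/-- Local cohomology at the irrelevant ideal of a finitely generated module is Artinian. -/
theorem isArtinian_H [IsNoetherianRing R] {M : Type u} [AddCommGroup M] [Module R M]
    [Module.Finite R M] {τ : Type u} [SetLike τ M] [AddSubgroupClass τ M] {ℳ : ℤ → τ}
    [DirectSum.Decomposition ℳ] [SetLike.GradedSMul 𝒜 ℳ] (E : StarInjRes 𝒜 ℳ) (i : ℕ) :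
    IsArtinian R (E.H m i) := by
  haveI : m.toIdeal.IsMaximal := by
    rw [GrRegSeq.toIdeal_eq_irr 𝒜 hpos hm]; exact GrCurve.irr_isMaximal 𝒜 hpos h0
  obtain ⟨e⟩ : Nonempty (E.H m i ≃ₗ[R] LocCoh.H m.toIdeal i M) :=
    GrothGr.nonempty_H_equiv (SegLC.cls 𝒜) (SegLC.clsM ℳ) (SegLC.clsI m) (SegLC.clsRes E) i
  obtain ⟨e'⟩ := GrothGr.nonempty_localized_H_equiv m.toIdeal M i
  haveI : IsArtinian (Localization.AtPrime m.toIdeal)
      (LocalizedModule m.toIdeal.primeCompl (LocCoh.H m.toIdeal i M)) :=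
    haveI := Groth.LocCohTransform.isArtinian_H_maximalIdeal
      (R := Localization.AtPrime m.toIdeal) i (LocalizedModule m.toIdeal.primeCompl M)
    isArtinian_of_linearEquiv e'.symm
  haveI : IsArtinian R (LocCoh.H m.toIdeal i M) :=
    SegLC.isArtinian_of_localized m.toIdeal (fun x => by
      obtain ⟨⟨z, hz⟩, hzx⟩ := Submodule.Quotient.mk_surjective _ (e.symm x)
      obtain ⟨j, hj⟩ := hz.1
      refine ⟨j, fun r hr => e.symm.injective ?_⟩
      rw [map_smul, map_zero, ← hzx, ← Submodule.Quotient.mk_smul,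
        show r • (⟨z, hz⟩ : E.cocyc m i) = 0 from Subtype.ext (hj r hr), Submodule.Quotient.mk_zero])
  exact isArtinian_of_linearEquiv e.symm

include hpos h0 hm in
/-- Canonical modules exist. -/
theorem exists_canonical [Algebra.FiniteType k R] (I : StarInjRes 𝒜 𝒜) (n : ℕ)
    {E' : Type u} [AddCommGroup E'] [Module R E'] {𝓔 : ℤ → AddSubgroup E'}
    [DirectSum.Decomposition 𝓔] [SetLike.GradedSMul 𝒜 𝓔] {e : (R ⧸ m.toIdeal) →ₗ[R] E'}
    (he : IsStarInjHull 𝒜 (quotGr 𝒜 m) 𝓔 e) :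
    ∃ (C : Type u) (_ : AddCommGroup C) (_ : Module R C) (_ : Module k C)
      (_ : IsScalarTower k R C) (𝒞 : ℤ → AddSubgroup C) (_ : DirectSum.Decomposition 𝒞)
      (_ : SetLike.GradedSMul 𝒜 𝒞), IsStarCanonical 𝒜 𝒞 𝓔 m n I := by
  haveI : IsNoetherianRing R := Algebra.FiniteType.isNoetherianRing k R
  letI : Module k E' := Module.compHom E' (algebraMap k R)
  haveI : IsScalarTower k R E' := IsScalarTower.of_algebraMap_smul fun _ _ => rfl
  letI : Module k (I.H m n) := Module.compHom (I.H m n) (algebraMap k R)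
  haveI : IsScalarTower k R (I.H m n) := IsScalarTower.of_algebraMap_smul fun _ _ => rfl
  obtain ⟨⟨dH⟩, gH⟩ := CanSegre.exists_hgr I m n
  letI := dH; haveI := gH
  obtain ⟨D, iD, mD, kD, tD, 𝒟, dD, gD, β, hβ⟩ :=
    GDualExists.exists_gdual (k := k) 𝒜 (I.Hgr m n)
  haveI := isArtinian_H hpos h0 hm I n
  have hfd := fun d => Groth.GrDualH.finiteDimensional_piece (M := I.H m n) (ℳ := I.Hgr m n)
    (𝒜 := 𝒜) h0 (Or.inr inferInstance) d
  haveI : Module.Finite R D := Groth.GrDualH.finite_dual_of_artinian (𝒜 := 𝒜) h0 hβ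
  exact ⟨D, iD, mD, kD, tD, 𝒟, dD, gD, CanDual.isStarCanonical_of_gdual hpos h0 hm he
    (LinearEquiv.refl R _) (ℋ := I.Hgr m n) (fun _ _ => Iff.rfl) hβ hfd⟩

end Groth.Misc15.CanExists
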