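import Mathlib
import Groth.Agent.Misc15.SegLC.CanExists
import Groth.Agent.GrMod.Veronese.Type
import Groth.Agent.GrMod.CanonicalHilbert

/-!
Gorenstein algebras and their canonical modules, for gradings by subspaces.
-/

set_option autoImplicit false

universe u

open DirectSum GrLC
open scoped TensorProduct

namespace Groth.Misc15.GorSeg

variable {k : Type u} [Field k] {R : Type u} [CommRing R] [Algebra k R] [Nontrivial R]
  [Algebra.FiniteType k R]
  {𝒜 : ℤ → Submodule k R} [GradedAlgebra 𝒜]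
  (hpos : ∀ n : ℤ, n < 0 → 𝒜 n = ⊥) (h0 : 𝒜 0 = Submodule.span k {(1 : R)})
  {m : HomogeneousIdeal 𝒜}
  (hm : m.toIdeal = Ideal.span (⋃ n ∈ Set.Ioi (0 : ℤ), (𝒜 n : Set R)))
  {r : ℕ} (hr : ringKrullDim R = r) {I : StarInjRes 𝒜 𝒜}

include hpos h0 hm in
theorem isStarLocal : IsStarLocal (GrothGr.agr 𝒜) (GrothGr.hagr 𝒜 m) := by
  have h : GrothGr.hagr 𝒜 m = GrothGr.irrIdeal (GrothGr.agr 𝒜) :=
    HomogeneousIdeal.toIdeal_injective (CanDual.span_agr hm)
  rw [h]
  exact GrothGr.isStarLocal_irrIdeal _ (CanDual.pos_agr hpos) (CanDual.isField_agr h0)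

include hpos h0 hm in
theorem isMaximal : (GrothGr.hagr 𝒜 m).toIdeal.IsMaximal :=
  GrothGr.isMaximal_irrelevant _ (CanDual.pos_agr hpos) (CanDual.isField_agr h0)
    (isStarLocal hpos h0 hm) (CanDual.span_agr hm)

omit [Nontrivial R] [Algebra.FiniteType k R] in
theorem endDeg_agr (i : ℕ) :
    endDeg ((GrothGr.resAgr 𝒜 I (GrothGr.agr 𝒜) fun _ _ h => h).Hgr (GrothGr.hagr 𝒜 m) i) =
      endDeg (I.Hgr m i) := by
  refine congrArg endDeg (funext fun g => ?_)
  ext x
  exact ⟨fun ⟨z, hz, h⟩ => ⟨z, hz, h⟩, fun ⟨z, hz, h⟩ => ⟨z, hz, h⟩⟩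

variable {E' : Type u} [AddCommGroup E'] [Module R E'] {𝓔 : ℤ → AddSubgroup E'}
  [DirectSum.Decomposition 𝓔] [SetLike.GradedSMul 𝒜 𝓔] {e : (R ⧸ m.toIdeal) →ₗ[R] E'}
  (he : IsStarInjHull 𝒜 (quotGr 𝒜 m) 𝓔 e)

/-- A canonical module for the grading by subgroups is one for the grading by subspaces. -/
theorem isStarCanonical_back {C : Type u} [AddCommGroup C] [Module R C] {𝒞 : ℤ → AddSubgroup C}
    [DirectSum.Decomposition 𝒞] [SetLike.GradedSMul 𝒜 𝒞] {n : ℕ}
    (hC : IsStarCanonical (GrothGr.agr 𝒜) 𝒞 𝓔 (GrothGr.hagr 𝒜 m) n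
      (GrothGr.resAgr 𝒜 I (GrothGr.agr 𝒜) fun _ _ h => h)) :
    IsStarCanonical 𝒜 𝒞 𝓔 m n I := by
  obtain ⟨hfin, φ, hφ⟩ := hC
  refine ⟨hfin, φ, fun d f hf => ?_⟩
  obtain ⟨z, hz, hzf⟩ := hφ d f hf
  exact ⟨z, hz, hzf⟩

include hpos h0 hm hr in
/-- The end of the top local cohomology of a Gorenstein ring is finite. -/
theorem exists_endDeg [LocCoh.IsGorensteinRing R] :
    ∃ a : ℤ, endDeg (I.Hgr m r) = ((a : WithTop ℤ) : WithBot (WithTop ℤ)) := by
  haveI : IsNoetherianRing R := Algebra.FiniteType.isNoetherianRing k R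
  have hl := isStarLocal hpos h0 hm
  haveI := isMaximal hpos h0 hm
  obtain ⟨E, e, he⟩ := GrothGr.exists_starInjHull (GrothGr.agr 𝒜)
    (quotGr (GrothGr.agr 𝒜) (GrothGr.hagr 𝒜 m))
  obtain ⟨c, φ, hφ⟩ := GrothGr.exists_top_H_equiv _ hl
    (LocCoh.IsGorensteinRing.isGorensteinLocalRing_localization _) r
    (GrothGr.height_eq_of_ringKrullDim _ hl hr)
    (GrothGr.resAgr 𝒜 I (GrothGr.agr 𝒜) fun _ _ h => h) he
  letI := (GrothGr.shiftPc_isInternal (GrothGr.agr 𝒜) c).chooseDecomposition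
  haveI := GrothGr.gradedSMul_shiftPc (GrothGr.agr 𝒜) c (GrothGr.agr 𝒜)
  have hC := GrothGr.Vero.isStarCanonical_of_top_H_equiv φ hφ
  refine ⟨-c, ?_⟩
  rw [← endDeg_agr]
  exact GrothGr.endDeg_top_of_free (CanDual.pos_agr hpos) (CanDual.span_agr hm)
    (GrothGr.ne_top_of_isStarLocal _ hl) he hC (a := c) (f := LinearMap.id) Function.bijective_id
    (fun i x hx => by
      show x ∈ GrothGr.agr 𝒜 (i + c - c)
      rwa [add_sub_cancel_right])

/-- The shifted pieces of an algebra. -/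
abbrev shift (𝒜 : ℤ → Submodule k R) [GradedAlgebra 𝒜] (a : ℤ) : ℤ → AddSubgroup R :=
  GrothGr.shiftPc (GrothGr.agr 𝒜) (-a)

omit [Nontrivial R] [Algebra.FiniteType k R] in
theorem mem_shift {a n : ℤ} {x : R} : x ∈ shift 𝒜 a n ↔ x ∈ 𝒜 (n + a) := by
  show x ∈ 𝒜 (n - -a) ↔ _
  rw [sub_neg_eq_add]

omit [Nontrivial R] [Algebra.FiniteType k R] in
theorem gradedSMul_shift (a : ℤ) : SetLike.GradedSMul 𝒜 (shift 𝒜 a) :=
  haveI := GrothGr.gradedSMul_shiftPc (GrothGr.agr 𝒜) (-a) (GrothGr.agr 𝒜)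
  GrothGr.gradedSMul_of_agr 𝒜 _

include hpos h0 hm hr he in
/-- `R(a)` is the canonical module of a Gorenstein algebra. -/
theorem isStarCanonical_shift [LocCoh.IsGorensteinRing R] {a : ℤ}
    (ha : endDeg (I.Hgr m r) = ((a : WithTop ℤ) : WithBot (WithTop ℤ)))
    [DirectSum.Decomposition (shift 𝒜 a)] [SetLike.GradedSMul 𝒜 (shift 𝒜 a)] :
    IsStarCanonical 𝒜 (shift 𝒜 a) 𝓔 m r I :=
  isStarCanonical_back (GrothGr.Vero.isStarCanonical_shift (CanDual.pos_agr hpos)
    (CanDual.isField_agr h0) (isStarLocal hpos h0 hm) (CanDual.span_agr hm) hr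
    ((endDeg_agr r).trans ha) (GrothGr.isStarInjHull_agr 𝒜 he))

variable {C : Type u} [AddCommGroup C] [Module R C] {𝒞 : ℤ → AddSubgroup C}
  [DirectSum.Decomposition 𝒞] [SetLike.GradedSMul 𝒜 𝒞]

include hpos h0 hm hr he in
/-- A Cohen–Macaulay algebra with free canonical module is Gorenstein. -/
theorem isGorenstein_of_bijective [LocCoh.IsCohenMacaulayRing R]
    (hC : IsStarCanonical 𝒜 𝒞 𝓔 m r I) {f : R →ₗ[R] C} (hf : Function.Bijective f) :
    LocCoh.IsGorensteinRing R := by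
  haveI : IsNoetherianRing R := Algebra.FiniteType.isNoetherianRing k R
  haveI := isMaximal hpos h0 hm
  exact (GrothGoren.isGorensteinRing_and_dim
    (GrothGoren.injLT_of_equiv (LinearEquiv.ofBijective f hf).symm
      (GrothGr.canonical_cm_injdim _ (isStarLocal hpos h0 hm) hr (GrothGr.isStarInjHull_agr 𝒜 he)
        (GrothGr.isStarCanonical_agr 𝒜 hC)).2)).1

include hpos h0 hm hr he in
/-- The type is the number of generators of the canonical module. -/
theorem bassNum_eq_finrank [Module k C] [IsScalarTower k R C] [LocCoh.IsCohenMacaulayRing R]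
    [m.toIdeal.IsMaximal] (hC : IsStarCanonical 𝒜 𝒞 𝓔 m r I) :
    GrLC.bassNum m.toIdeal R r =
      (Module.finrank k (C ⧸ (m.toIdeal • (⊤ : Submodule R C))) : ℕ∞) := by
  haveI := isMaximal hpos h0 hm
  have h : GrLC.bassNum m.toIdeal R r =
      (Module.finrank (R ⧸ m.toIdeal) ((R ⧸ m.toIdeal) ⊗[R] C) : ℕ∞) :=
    (GrothGr.canonical_type _ (isStarLocal hpos h0 hm) hr (GrothGr.isStarInjHull_agr 𝒜 he)
      (GrothGr.isStarCanonical_agr 𝒜 hC)).2
  rw [h]
  refine congrArg Nat.cast ?_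
  have hne : m.toIdeal ≠ ⊤ := Ideal.IsMaximal.ne_top inferInstance
  let i : k →+* R ⧸ m.toIdeal := (Ideal.Quotient.mk m.toIdeal).comp (algebraMap k R)
  haveI : Nontrivial (R ⧸ m.toIdeal) := Ideal.Quotient.nontrivial_iff.2 hne
  have hi : Function.Bijective i := by
    refine ⟨i.injective, fun y => ?_⟩
    obtain ⟨x, rfl⟩ := Ideal.Quotient.mk_surjective y
    induction x using DirectSum.Decomposition.inductionOn 𝒜 with
    | zero => exact ⟨0, by rw [map_zero, map_zero]⟩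
    | add a b ha hb =>
      obtain ⟨c, hc⟩ := ha
      obtain ⟨d, hd⟩ := hb
      exact ⟨c + d, by rw [map_add, hc, hd, map_add]⟩
    | @homogeneous j x =>
      rcases lt_trichotomy j 0 with hj | hj | hj
      · refine ⟨0, ?_⟩
        rw [map_zero, show (x : R) = 0 from (Submodule.eq_bot_iff _).1 (hpos j hj) x x.2, map_zero]
      · subst hj
        obtain ⟨c, hc⟩ := CanDual.exists_algebraMap h0 x.2
        exact ⟨c, congrArg (Ideal.Quotient.mk m.toIdeal) hc⟩
      · refine ⟨0, ?_⟩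
        rw [map_zero]
        refine (Ideal.Quotient.eq_zero_iff_mem.2 ?_).symm
        rw [hm]
        exact Ideal.subset_span (Set.mem_biUnion hj x.2)
  refine (congrArg Cardinal.toNat (rank_eq_of_equiv_equiv i
    (TensorProduct.quotTensorEquivQuotSMul C m.toIdeal).symm.toAddEquiv hi fun c x => ?_)).symm
  show (TensorProduct.quotTensorEquivQuotSMul C m.toIdeal).symm (c • x) =
    Ideal.Quotient.mk m.toIdeal (algebraMap k R c) •
      (TensorProduct.quotTensorEquivQuotSMul C m.toIdeal).symm x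
  rw [← algebraMap_smul R c x, map_smul, ← Ideal.Quotient.algebraMap_eq,
    algebraMap_smul (R ⧸ m.toIdeal) (algebraMap k R c)]

omit [Nontrivial R] [Algebra.FiniteType k R] in
variable (m) in
/-- The residue field has a *injective hull, for gradings by subspaces. -/
theorem exists_hull : ∃ (E : Type u) (_ : AddCommGroup E) (_ : Module R E) (𝓔 : ℤ → AddSubgroup E)
    (_ : DirectSum.Decomposition 𝓔) (_ : SetLike.GradedSMul 𝒜 𝓔) (e : (R ⧸ m.toIdeal) →ₗ[R] E),
    IsStarInjHull 𝒜 (quotGr 𝒜 m) 𝓔 e := by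
  obtain ⟨E, e, he⟩ := GrothGr.exists_starInjHull (GrothGr.agr 𝒜)
    (quotGr (GrothGr.agr 𝒜) (GrothGr.hagr 𝒜 m))
  haveI := GrothGr.gradedSMul_of_agr 𝒜 E.gr
  refine ⟨E.carrier, inferInstance, inferInstance, E.gr, inferInstance, inferInstance, e, ?_⟩
  exact
    { injective := he.injective
      grHom := fun g x hx => he.grHom g x (by
        obtain ⟨r, hr, rfl⟩ := hx
        exact ⟨r, hr, rfl⟩)
      essential := he.essential
      starInj := fun A B f hf hfi g hg =>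
        he.starInj (GrothGr.gagr 𝒜 A) (GrothGr.gagr 𝒜 B) f hf hfi g hg }

end Groth.Misc15.GorSeg
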