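import Mathlib
import Groth.Agent.Misc15.SegLC.Diag

/-!
Existence of Segre products of graded modules.
-/

set_option autoImplicit false

universe u

open scoped TensorProduct
open DirectSum GrLC

namespace Groth.Misc15.SegLC

variable {k : Type u} [Field k]
variable {R : Type u} [CommRing R] [Algebra k R] {𝒜 : ℤ → Submodule k R} [GradedAlgebra 𝒜]
variable {S : Type u} [CommRing S] [Algebra k S] {ℬ : ℤ → Submodule k S} [GradedAlgebra ℬ]
variable {T : Type u} [CommRing T] [Algebra k T] {𝒯 : ℤ → Submodule k T} [GradedAlgebra 𝒯]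
  {ψ : T →ₐ[k] R ⊗[k] S}

/-- Segre products of graded modules exist. -/
theorem exists_segreMod (hT : GrSeg.IsSegreRing 𝒜 ℬ 𝒯 ψ)
    {M : Type u} [AddCommGroup M] [Module R M] [mkM : Module k M] [IsScalarTower k R M]
    (ℳ : ℤ → AddSubgroup M) [DirectSum.Decomposition ℳ] [SetLike.GradedSMul 𝒜 ℳ]
    {N : Type u} [AddCommGroup N] [Module S N] [mkN : Module k N] [IsScalarTower k S N]
    (𝒩 : ℤ → AddSubgroup N) [DirectSum.Decomposition 𝒩] [SetLike.GradedSMul ℬ 𝒩] :
    ∃ (P : Type u) (_ : AddCommGroup P) (_ : Module T P) (_ : Module k P)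
      (_ : IsScalarTower k T P) (𝒬 : ℤ → AddSubgroup P) (_ : DirectSum.Decomposition 𝒬)
      (_ : SetLike.GradedSMul 𝒯 𝒬) (φ : P →ₗ[k] M ⊗[k] N), GrSeg.IsSegreMod ψ ℳ 𝒩 𝒬 φ := by
  obtain rfl : mkM = Module.compHom M (algebraMap k R) :=
    Module.ext' _ _ fun c x => (algebraMap_smul R c x).symm
  obtain rfl : mkN = Module.compHom N (algebraMap k S) :=
    Module.ext' _ _ fun c x => (algebraMap_smul S c x).symm
  letI : Module k M := Module.compHom M (algebraMap k R)
  letI : Module k N := Module.compHom N (algebraMap k S)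
  let X := GMod.of 𝒜 M ℳ
  let Y := GMod.of ℬ N 𝒩
  refine ⟨Dg hT X Y, inferInstance, inferInstance, inferInstance, inferInstance, Dg.pc hT,
    (Dg.pc_isInternal hT).chooseDecomposition, Dg.pc_gradedSMul hT, Dg.val hT, ?_⟩
  letI := (Dg.pc_isInternal hT (X := X) (Y := Y)).chooseDecomposition
  refine { injective := Dg.val_injective hT, image_piece := fun n => ?_,
           map_smul := fun t p => Dg.val_smul hT t p }
  ext z
  exact ⟨fun ⟨p, hp, hpz⟩ => hpz ▸ hp, fun hz => ⟨Dg.mk hT z (segrePiece_le_dgSub (X := X) (Y := Y) n hz), hz, rfl⟩⟩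

end Groth.Misc15.SegLC
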