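import Mathlib
import Groth.Agent.Misc15.SegLC.GorBase
import Groth.Agent.Misc15.SegLC.SegExists
import Groth.Agent.Misc15.SegLC.SegMod
import Groth.Agent.Misc15.SegLC.SegCM
import Groth.Agent.Misc15.SegLC.IrrIdeal
import Groth.Agent.GrMod.Standard

/-!
Segre products of shifted rings.
-/

set_option autoImplicit false

universe u

open DirectSum GrLC
open scoped TensorProduct

namespace Groth.Misc15.GorSeg

variable {k : Type u} [Field k]
variable {R : Type u} [CommRing R] [Algebra k R] {𝒜 : ℤ → Submodule k R} [GradedAlgebra 𝒜]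
variable {S : Type u} [CommRing S] [Algebra k S] {ℬ : ℤ → Submodule k S} [GradedAlgebra ℬ]
variable {T : Type u} [CommRing T] [Algebra k T] {𝒯 : ℤ → Submodule k T} [GradedAlgebra 𝒯]
variable {ψ : T →ₐ[k] R ⊗[k] S}

/-- Being a Segre product only depends on the pieces. -/
theorem isSegreMod_congr {M N P : Type u} [AddCommGroup M] [Module R M] [Module k M]
    [IsScalarTower k R M] [AddCommGroup N] [Module S N] [Module k N] [IsScalarTower k S N]
    [AddCommGroup P] [Module T P] [Module k P] [IsScalarTower k T P]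
    {τ τ' τM τN : Type u} [SetLike τ M] [SetLike τ' N] [SetLike τM M] [SetLike τN N]
    {ℳ : ℤ → τ} {𝒩 : ℤ → τ'} {ℳ' : ℤ → τM} {𝒩' : ℤ → τN}
    {𝒬 : ℤ → AddSubgroup P} [DirectSum.Decomposition 𝒬] {φ : P →ₗ[k] M ⊗[k] N}
    (hM : ∀ n x, x ∈ ℳ n ↔ x ∈ ℳ' n) (hN : ∀ n y, y ∈ 𝒩 n ↔ y ∈ 𝒩' n)
    (hP : GrSeg.IsSegreMod ψ ℳ 𝒩 𝒬 φ) : GrSeg.IsSegreMod ψ ℳ' 𝒩' 𝒬 φ where
  injective := hP.injective
  image_piece n := by
    rw [hP.image_piece n]
    simp only [GrSeg.segrePiece, hM, hN]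
  map_smul := hP.map_smul

theorem finrank_piece_shift (a n : ℤ) [DirectSum.Decomposition (shift 𝒜 a)]
    [SetLike.GradedSMul 𝒜 (shift 𝒜 a)] :
    Module.finrank k (Groth.GrDualH.piece 𝒜 (shift 𝒜 a) n) = Module.finrank k (𝒜 (n + a)) := by
  have h : Groth.GrDualH.piece 𝒜 (shift 𝒜 a) n = 𝒜 (n + a) := Submodule.ext fun x => mem_shift
  rw [h]

omit [GradedAlgebra ℬ] in
theorem finrank_zero_piece [Nontrivial S] (h0S : ℬ 0 = Submodule.span k {(1 : S)}) :
    Module.finrank k (ℬ 0) = 1 := by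
  rw [h0S]
  exact finrank_span_singleton one_ne_zero

theorem piece_gen (hstd : Ideal.span (⋃ n ∈ Set.Ioi (0 : ℤ), (𝒜 n : Set R)) =
      Ideal.span ((𝒜 1 : Submodule k R) : Set R)) {n : ℤ} (hn : 0 ≤ n) {x : R}
    (hx : x ∈ 𝒜 (n + 1)) :
    x ∈ Submodule.span k {z | ∃ u ∈ 𝒜 n, ∃ v ∈ 𝒜 1, u * v = z} := by
  have h := GrothGr.mem_prodClosure_one (GrothGr.agr 𝒜) hstd hn hx
  refine AddSubgroup.closure_induction (fun z hz => Submodule.subset_span hz) (zero_mem _)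
    (fun a b _ _ ha hb => add_mem ha hb) (fun a _ ha => neg_mem ha) h

/-- The generators of a Segre product of shifted standard graded rings. -/
theorem finrank_quot_shift [Nontrivial S]
    (hposS : ∀ n : ℤ, n < 0 → ℬ n = ⊥) (h0S : ℬ 0 = Submodule.span k {(1 : S)})
    (hT : GrSeg.IsSegreRing 𝒜 ℬ 𝒯 ψ)
    (hstdR : Ideal.span (⋃ n ∈ Set.Ioi (0 : ℤ), (𝒜 n : Set R)) =
      Ideal.span ((𝒜 1 : Submodule k R) : Set R))
    (hstdS : Ideal.span (⋃ n ∈ Set.Ioi (0 : ℤ), (ℬ n : Set S)) =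
      Ideal.span ((ℬ 1 : Submodule k S) : Set S))
    {mT : HomogeneousIdeal 𝒯}
    (hmT : mT.toIdeal = Ideal.span (⋃ n ∈ Set.Ioi (0 : ℤ), (𝒯 n : Set T)))
    {a b : ℤ} (hab : b ≤ a) {P : Type u} [AddCommGroup P] [Module T P] [Module k P]
    [IsScalarTower k T P] {𝒬 : ℤ → AddSubgroup P} [DirectSum.Decomposition 𝒬]
    {φ : P →ₗ[k] R ⊗[k] S} (hP : GrSeg.IsSegreMod ψ (shift 𝒜 a) (shift ℬ b) 𝒬 φ) :
    Module.finrank k (P ⧸ (mT.toIdeal • (⊤ : Submodule T P))) =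
      Module.finrank k (𝒜 (a - b)) := by
  classical
  letI := (GrothGr.shiftPc_isInternal (GrothGr.agr 𝒜) (-a)).chooseDecomposition
  letI := (GrothGr.shiftPc_isInternal (GrothGr.agr ℬ) (-b)).chooseDecomposition
  haveI := gradedSMul_shift (𝒜 := 𝒜) a
  haveI := gradedSMul_shift (𝒜 := ℬ) b
  haveI : SetLike.GradedSMul 𝒯 𝒬 :=
    SegLC.gradedSMul_segre (𝒜 := 𝒜) (ℬ := ℬ) (ℳ := shift 𝒜 a) (𝒩 := shift ℬ b) hT hP
  set W : Submodule T P := mT.toIdeal • (⊤ : Submodule T P) with hW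
  have himg : ∀ {g : ℤ} {p : P}, p ∈ 𝒬 g →
      φ p ∈ GrSeg.segrePiece k (shift 𝒜 a) (shift ℬ b) g := fun {g p} hp => by
    have : φ p ∈ φ '' (𝒬 g : Set P) := ⟨p, hp, rfl⟩
    rwa [hP.image_piece] at this
  have hlow : ∀ g < -b, ∀ p ∈ 𝒬 g, p = 0 := fun g hg p hp => by
    have h := himg hp
    rw [show GrSeg.segrePiece k (shift 𝒜 a) (shift ℬ b) g = ⊥ from Submodule.span_eq_bot.2 (by
      rintro _ ⟨x, -, y, hy, rfl⟩
      rw [mem_shift, hposS _ (by omega), Submodule.mem_bot] at hy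
      rw [hy, TensorProduct.tmul_zero]), Submodule.mem_bot] at h
    exact hP.injective (h.trans (map_zero φ).symm)
  have hmemT : ∀ {i : ℤ}, 0 < i → ∀ t ∈ 𝒯 i, t ∈ mT.toIdeal := fun {i} hi t ht => by
    rw [hmT]; exact Ideal.subset_span (Set.mem_biUnion hi ht)
  have hWmem : ∀ t ∈ mT.toIdeal, ∀ q : P, t • q ∈ W.restrictScalars k := fun t ht q =>
    (Submodule.restrictScalars_mem k W _).2
      (hW ▸ Submodule.smul_mem_smul ht (Submodule.mem_top : q ∈ (⊤ : Submodule T P)))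
  have hproj : ∀ w ∈ W, Groth.GrDualH.proj 𝒬 (-b) w = 0 := by
    intro w hw
    refine Submodule.smul_induction_on hw (fun t ht d _ => ?_) fun u v hu hv => by
      rw [map_add, hu, hv, add_zero]
    rw [hmT] at ht
    revert d
    induction ht using Submodule.span_induction with
    | zero => intro d _; rw [zero_smul, map_zero]
    | add u v _ _ hu hv => intro d hd; rw [add_smul, map_add, hu d hd, hv d hd, add_zero]
    | smul c u _ hu =>
      intro d _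
      rw [smul_eq_mul, mul_comm, mul_smul]
      exact hu _ Submodule.mem_top
    | mem t ht =>
      intro d _
      simp only [Set.mem_iUnion, Set.mem_Ioi] at ht
      obtain ⟨i, hi, ht⟩ := ht
      rw [Groth.GrDualH.proj_smul (𝒜 := 𝒯) ht,
        hlow _ (by omega) _ (Groth.GrDualH.proj_mem (ℳ := 𝒬) _ d), smul_zero]
  have hbig : ∀ g, -b < g → ∀ p ∈ 𝒬 g, p ∈ W := by
    intro g hg p hp
    suffices h : φ p ∈ (W.restrictScalars k).map φ by
      obtain ⟨w, hw, hwp⟩ := h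
      exact hP.injective hwp ▸ hw
    refine Submodule.span_le.2 ?_ (himg hp)
    rintro _ ⟨x, hx, y, hy, rfl⟩
    have hx' : x ∈ 𝒜 (g - 1 + a + 1) := by
      rw [show g - 1 + a + 1 = g + a by ring]; exact mem_shift.1 hx
    have hy' : y ∈ ℬ (g - 1 + b + 1) := by
      rw [show g - 1 + b + 1 = g + b by ring]; exact mem_shift.1 hy
    have hX := piece_gen hstdR (by omega) hx'
    have hY := piece_gen hstdS (by omega) hy'
    rw [SetLike.mem_coe]
    clear hx hy hx' hy'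
    induction hX using Submodule.span_induction with
    | zero => rw [TensorProduct.zero_tmul]; exact zero_mem _
    | add u v _ _ hu hv => rw [TensorProduct.add_tmul]; exact add_mem hu hv
    | smul c u _ hu => rw [← TensorProduct.smul_tmul']; exact Submodule.smul_mem _ c hu
    | mem z hz =>
      obtain ⟨u, hu, v, hv, rfl⟩ := hz
      induction hY using Submodule.span_induction with
      | zero => rw [TensorProduct.tmul_zero]; exact zero_mem _
      | add u v _ _ hu hv => rw [TensorProduct.tmul_add]; exact add_mem hu hv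
      | smul c u _ hu => rw [TensorProduct.tmul_smul]; exact Submodule.smul_mem _ c hu
      | mem z hz =>
        obtain ⟨u', hu', v', hv', rfl⟩ := hz
        obtain ⟨q, -, hq⟩ : u ⊗ₜ[k] u' ∈ φ '' (𝒬 (g - 1) : Set P) := by
          rw [hP.image_piece]
          exact Submodule.subset_span ⟨u, mem_shift.2 hu, u', mem_shift.2 hu', rfl⟩
        obtain ⟨t, ht, hψ⟩ := SegLC.exists_psi hT hv hv'
        have heq : φ (t • q) = (u * v) ⊗ₜ[k] (u' * v') := by
          rw [hP.map_smul, hψ, hq]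
          refine (GrSeg.act_tmul v v' u u').trans ?_
          exact congrArg₂ (fun (i : R) (j : S) => i ⊗ₜ[k] j) (mul_comm v u) (mul_comm v' u')
        rw [← heq]
        exact Submodule.mem_map_of_mem (hWmem t (hmemT one_pos t ht) q)
  let π : Groth.GrDualH.piece 𝒯 𝒬 (-b) →ₗ[k] P ⧸ W :=
    W.mkQ.restrictScalars k ∘ₗ (Groth.GrDualH.piece 𝒯 𝒬 (-b)).subtype
  have hπ : Function.Bijective π := by
    refine ⟨(injective_iff_map_eq_zero π).2 fun x hx => Subtype.ext ?_, fun y => ?_⟩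
    · have h := hproj _ ((Submodule.Quotient.mk_eq_zero W).1 hx)
      exact (Groth.GrDualH.proj_of_mem (ℳ := 𝒬) x.2).symm.trans h
    · obtain ⟨d, rfl⟩ := W.mkQ_surjective y
      induction d using DirectSum.Decomposition.inductionOn 𝒬 with
      | zero => exact ⟨0, by rw [map_zero, map_zero]⟩
      | add u v hu hv =>
        obtain ⟨x, hx⟩ := hu
        obtain ⟨y, hy⟩ := hv
        exact ⟨x + y, by rw [map_add, hx, hy, map_add]⟩
      | @homogeneous g d =>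
        rcases lt_trichotomy g (-b) with hg | hg | hg
        · exact ⟨0, by rw [map_zero, hlow g hg _ d.2, map_zero]⟩
        · subst hg; exact ⟨⟨d, d.2⟩, rfl⟩
        · refine ⟨0, ?_⟩
          rw [map_zero]
          exact ((Submodule.Quotient.mk_eq_zero W).2 (hbig g hg _ d.2)).symm
  rw [← (LinearEquiv.ofBijective π hπ).finrank_eq, CanSegre.finrank_segreMod (𝒜 := 𝒜) (ℬ := ℬ) (𝒯 := 𝒯) hP,
    finrank_piece_shift, finrank_piece_shift, neg_add_cancel, finrank_zero_piece h0S, mul_one,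
    show -b + a = a - b by ring]

section Main

variable [Nontrivial R] [Algebra.FiniteType k R] [Nontrivial S] [Algebra.FiniteType k S]
  (hposR : ∀ n : ℤ, n < 0 → 𝒜 n = ⊥) (h0R : 𝒜 0 = Submodule.span k {(1 : R)})
  (hposS : ∀ n : ℤ, n < 0 → ℬ n = ⊥) (h0S : ℬ 0 = Submodule.span k {(1 : S)})
  {mR : HomogeneousIdeal 𝒜}
  (hmR : mR.toIdeal = Ideal.span (⋃ n ∈ Set.Ioi (0 : ℤ), (𝒜 n : Set R)))
  {I : StarInjRes 𝒜 𝒜} {r : ℕ} (hr : ringKrullDim R = r) (h2r : 2 ≤ r)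
  {mS : HomogeneousIdeal ℬ}
  (hmS : mS.toIdeal = Ideal.span (⋃ n ∈ Set.Ioi (0 : ℤ), (ℬ n : Set S)))
  {J : StarInjRes ℬ ℬ} {s : ℕ} (hs : ringKrullDim S = s) (h2s : 2 ≤ s)
  (hT : GrSeg.IsSegreRing 𝒜 ℬ 𝒯 ψ) {mT : HomogeneousIdeal 𝒯}
  (hmT : mT.toIdeal = Ideal.span (⋃ n ∈ Set.Ioi (0 : ℤ), (𝒯 n : Set T)))
  (IT : StarInjRes 𝒯 𝒯)

include hposR h0R hposS h0S hmR hr h2r hmS hs h2s hT hmT in
/-- A Segre product of the shifted rings is canonical for Gorenstein factors. -/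
theorem isStarCanonical_segre_shift [LocCoh.IsGorensteinRing R] [LocCoh.IsGorensteinRing S]
    {a b : ℤ} (ha : endDeg (I.Hgr mR r) = ((a : WithTop ℤ) : WithBot (WithTop ℤ)))
    (hb : endDeg (J.Hgr mS s) = ((b : WithTop ℤ) : WithBot (WithTop ℤ)))
    {ET : Type u} [AddCommGroup ET] [Module T ET] {𝓔T : ℤ → AddSubgroup ET}
    [DirectSum.Decomposition 𝓔T] [SetLike.GradedSMul 𝒯 𝓔T] {eT : (T ⧸ mT.toIdeal) →ₗ[T] ET}
    (heT : IsStarInjHull 𝒯 (quotGr 𝒯 mT) 𝓔T eT)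
    {P : Type u} [AddCommGroup P] [Module T P] [Module k P] [IsScalarTower k T P]
    {𝒬 : ℤ → AddSubgroup P} [DirectSum.Decomposition 𝒬] [SetLike.GradedSMul 𝒯 𝒬]
    {φ : P →ₗ[k] R ⊗[k] S} (hP : GrSeg.IsSegreMod ψ (shift 𝒜 a) (shift ℬ b) 𝒬 φ) :
    IsStarCanonical 𝒯 𝒬 𝓔T mT (r + s - 1) IT := by
  letI := (GrothGr.shiftPc_isInternal (GrothGr.agr 𝒜) (-a)).chooseDecomposition
  letI := (GrothGr.shiftPc_isInternal (GrothGr.agr ℬ) (-b)).chooseDecomposition
  haveI := gradedSMul_shift (𝒜 := 𝒜) a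
  haveI := gradedSMul_shift (𝒜 := ℬ) b
  obtain ⟨ER, _, _, 𝓔R, _, _, eR, heR⟩ := exists_hull mR
  obtain ⟨ES, _, _, 𝓔S, _, _, eS, heS⟩ := exists_hull mS
  exact CanSegre.isStarCanonical_segre hposR h0R hmR hr h2r heR
    (isStarCanonical_shift hposR h0R hmR hr heR ha) hposS h0S hmS hs h2s heS
    (isStarCanonical_shift hposS h0S hmS hs heS hb) hT hmT IT heT hP

include hposR h0R hposS h0S hmR hr h2r hmS hs h2s hT in
/-- Segre products of Gorenstein rings with equal end are Gorenstein when Cohen–Macaulay. -/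
theorem isGorenstein_segre [LocCoh.IsGorensteinRing R] [LocCoh.IsGorensteinRing S]
    [LocCoh.IsCohenMacaulayRing T] (haeq : endDeg (I.Hgr mR r) = endDeg (J.Hgr mS s)) :
    LocCoh.IsGorensteinRing T := by
  obtain ⟨a, ha⟩ := exists_endDeg hposR h0R hmR hr (I := I)
  have hb := haeq.symm.trans ha
  haveI : IsNoetherianRing T :=
    Groth.Agent.S18646.result k R 𝒜 hposR h0R S ℬ hposS h0S T 𝒯 ψ hT.1 hT.2
  haveI : Nontrivial T := SegLC.nontrivial_segre ψ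
  let mT : HomogeneousIdeal 𝒯 := SegLC.posIdeal 𝒯
  have hmT : mT.toIdeal = Ideal.span (⋃ n ∈ Set.Ioi (0 : ℤ), (𝒯 n : Set T)) := SegLC.posIdeal_eq 𝒯
  obtain ⟨ET, _, _, 𝓔T, _, _, eT, heT⟩ := exists_hull mT
  letI := (GrothGr.shiftPc_isInternal (GrothGr.agr 𝒯) (-a)).chooseDecomposition
  haveI := gradedSMul_shift (𝒜 := 𝒯) a
  have hP : GrSeg.IsSegreMod ψ (shift 𝒜 a) (shift ℬ a) (shift 𝒯 a) ψ.toLinearMap :=
    { injective := hT.1
      image_piece := fun n => by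
        have h1 : ((shift 𝒯 a n : AddSubgroup T) : Set T) = (𝒯 (n + a) : Set T) :=
          Set.ext fun x => mem_shift
        rw [h1, show (ψ.toLinearMap : T → R ⊗[k] S) = ψ from rfl, SegLC.image_piece hT (n + a)]
        simp only [GrSeg.segrePiece, mem_shift]
      map_smul := (SegLC.isSegreMod_self hT).map_smul }
  have hC := isStarCanonical_segre_shift hposR h0R hposS h0S hmR hr h2r hmS hs h2s hT hmT
    (SegLC.someRes (𝒜 := 𝒯)) ha hb heT hP
  have hdT : ringKrullDim T = ((r + s - 1 : ℕ) : WithBot ℕ∞) :=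
    Groth.Agent.S18647.result k R 𝒜 hposR h0R S ℬ hposS h0S T 𝒯 ψ hT.1 hT.2 r s hr hs (by omega)
      (by omega)
  haveI := SegreCMOne.finiteType 𝒜 ℬ 𝒯 ψ hT.1 hT.2 hposR h0R hposS h0S
  exact isGorenstein_of_bijective (SegreDimOne.t_pos 𝒜 ℬ 𝒯 ψ hT.1 hT.2 hposR)
    (SegreDimOne.t_zero 𝒜 ℬ 𝒯 ψ hT.1 hT.2 h0R h0S) hmT hdT heT hC
    (f := LinearMap.id) Function.bijective_id

include hposR h0R hposS h0S hmR hr h2r hmS hs h2s hT hmT in
/-- The type of a Segre product of Gorenstein rings. -/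
theorem bassNum_segre [LocCoh.IsGorensteinRing R] [LocCoh.IsGorensteinRing S]
    [LocCoh.IsCohenMacaulayRing T] [mT.toIdeal.IsMaximal]
    (hstdR : Ideal.span (⋃ n ∈ Set.Ioi (0 : ℤ), (𝒜 n : Set R)) =
      Ideal.span ((𝒜 1 : Submodule k R) : Set R))
    (hstdS : Ideal.span (⋃ n ∈ Set.Ioi (0 : ℤ), (ℬ n : Set S)) =
      Ideal.span ((ℬ 1 : Submodule k S) : Set S))
    {a b : ℤ} (ha : endDeg (I.Hgr mR r) = ((a : WithTop ℤ) : WithBot (WithTop ℤ)))
    (hb : endDeg (J.Hgr mS s) = ((b : WithTop ℤ) : WithBot (WithTop ℤ))) (hab : b ≤ a) :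
    GrLC.bassNum mT.toIdeal T (r + s - 1) = (Module.finrank k (𝒜 (a - b)) : ℕ∞) := by
  haveI : Nontrivial T := SegLC.nontrivial_segre ψ
  haveI := gradedSMul_shift (𝒜 := 𝒜) a
  haveI := gradedSMul_shift (𝒜 := ℬ) b
  obtain ⟨ET, _, _, 𝓔T, _, _, eT, heT⟩ := exists_hull mT
  obtain ⟨P, _, _, _, _, 𝒬, _, _, φ, hP⟩ := SegLC.exists_segreMod hT (shift 𝒜 a) (shift ℬ b)
  have hC := isStarCanonical_segre_shift hposR h0R hposS h0S hmR hr h2r hmS hs h2s hT hmT
    (SegLC.someRes (𝒜 := 𝒯)) ha hb heT hP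
  haveI := SegreCMOne.finiteType 𝒜 ℬ 𝒯 ψ hT.1 hT.2 hposR h0R hposS h0S
  have hdT : ringKrullDim T = ((r + s - 1 : ℕ) : WithBot ℕ∞) :=
    Groth.Agent.S18647.result k R 𝒜 hposR h0R S ℬ hposS h0S T 𝒯 ψ hT.1 hT.2 r s hr hs (by omega)
      (by omega)
  rw [bassNum_eq_finrank (SegreDimOne.t_pos 𝒜 ℬ 𝒯 ψ hT.1 hT.2 hposR)
      (SegreDimOne.t_zero 𝒜 ℬ 𝒯 ψ hT.1 hT.2 h0R h0S) hmT hdT heT hC,
    finrank_quot_shift hposS h0S hT hstdR hstdS hmT hab hP]

end Main

end Groth.Misc15.GorSeg
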