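import Mathlib
import Groth.Agent.Misc15.SegLC.GorSegre
import Groth.Agent.S18638
import Groth.Agent.S18648
import Groth.Agent.GrMod.CanonicalHilbert

/-!
Segre products with Gorenstein total ring.
-/

set_option autoImplicit false

universe u

open DirectSum GrLC
open scoped TensorProduct

namespace Groth.Misc15.GorSeg

theorem finite_piece {k : Type u} [Field k] {R : Type u} [CommRing R] [Algebra k R]
    [Algebra.FiniteType k R] (𝒜 : ℤ → Submodule k R) [GradedAlgebra 𝒜]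
    (h0 : 𝒜 0 = Submodule.span k {(1 : R)}) (n : ℤ) : FiniteDimensional k (𝒜 n) := by
  haveI : IsNoetherianRing R := Algebra.FiniteType.isNoetherianRing k R
  have h := Groth.GrDualH.finiteDimensional_piece (M := R) (ℳ := 𝒜) (𝒜 := 𝒜) h0
    (Or.inl inferInstance) n
  rwa [show Groth.GrDualH.piece 𝒜 𝒜 n = 𝒜 n from Submodule.ext fun _ => Iff.rfl] at h

section One

variable {k : Type u} [Field k] {R : Type u} [CommRing R] [Algebra k R] [Nontrivial R]
  [Algebra.FiniteType k R]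
  {𝒜 : ℤ → Submodule k R} [GradedAlgebra 𝒜]
  (hpos : ∀ n : ℤ, n < 0 → 𝒜 n = ⊥) (h0 : 𝒜 0 = Submodule.span k {(1 : R)})
  {m : HomogeneousIdeal 𝒜}
  (hm : m.toIdeal = Ideal.span (⋃ n ∈ Set.Ioi (0 : ℤ), (𝒜 n : Set R)))
  (hstd : Ideal.span (⋃ n ∈ Set.Ioi (0 : ℤ), (𝒜 n : Set R)) =
    Ideal.span ((𝒜 1 : Submodule k R) : Set R))
  {r : ℕ} (hr : ringKrullDim R = r) (h2r : 2 ≤ r) {I : StarInjRes 𝒜 𝒜}
  {E' : Type u} [AddCommGroup E'] [Module R E'] {𝓔 : ℤ → AddSubgroup E'}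
  [DirectSum.Decomposition 𝓔] [SetLike.GradedSMul 𝒜 𝓔] {e : (R ⧸ m.toIdeal) →ₗ[R] E'}
  (he : IsStarInjHull 𝒜 (quotGr 𝒜 m) 𝓔 e)
  {C : Type u} [AddCommGroup C] [Module R C] [Module k C] [IsScalarTower k R C]
  {𝒞 : ℤ → AddSubgroup C} [DirectSum.Decomposition 𝒞] [SetLike.GradedSMul 𝒜 𝒞]

include hpos h0 hm hstd hr h2r he in
/-- Where the canonical module is a line, the local cohomology ends. -/
theorem endDeg_eq_of_one [LocCoh.IsCohenMacaulayRing R] (hC : IsStarCanonical 𝒜 𝒞 𝓔 m r I)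
    {a : ℤ} (h1 : Module.finrank k (Groth.GrDualH.piece 𝒜 𝒞 a) = 1) :
    endDeg (I.Hgr m r) = (((-a : ℤ) : WithTop ℤ) : WithBot (WithTop ℤ)) ∧
      ∀ n < a, Module.finrank k (Groth.GrDualH.piece 𝒜 𝒞 n) = 0 := by
  classical
  haveI : IsNoetherianRing R := Algebra.FiniteType.isNoetherianRing k R
  haveI : Module.Finite R C := hC.1
  haveI : IsNoetherian R C := isNoetherian_of_isNoetherianRing_of_finite R C
  letI : Module k E' := Module.compHom E' (algebraMap k R)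
  haveI : IsScalarTower k R E' := IsScalarTower.of_algebraMap_smul fun _ _ => rfl
  letI : Module k (I.H m r) := Module.compHom (I.H m r) (algebraMap k R)
  haveI : IsScalarTower k R (I.H m r) := IsScalarTower.of_algebraMap_smul fun _ _ => rfl
  obtain ⟨⟨dH⟩, gH⟩ := CanSegre.exists_hgr I m r
  letI := dH; haveI := gH
  obtain ⟨β, hβ⟩ := CanDual.exists_gdual hpos h0 hm he (LinearEquiv.refl R (I.H m r))
    (ℋ := I.Hgr m r) (fun _ _ => Iff.rfl) hC
  have hfd := fun n => Groth.GrDualH.finiteDimensional_piece (M := C) (ℳ := 𝒞) (𝒜 := 𝒜) h0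
    (Or.inl inferInstance) n
  have hdim : ∀ n, Module.finrank k (Groth.GrDualH.piece 𝒜 𝒞 n) =
      Module.finrank k (Groth.GrDualH.piece 𝒜 (I.Hgr m r) (-n)) := fun n =>
    haveI := hfd n
    (CanSegre.finrank_gdual hβ n).2
  haveI := CanExists.isArtinian_H hpos h0 hm I r
  obtain ⟨c, hc⟩ := Groth.GrDualH.exists_upperBound (ℳ := I.Hgr m r) (𝒜 := 𝒜) hpos
  have hex : I.Hgr m r (-a) ≠ ⊥ := fun h => by
    have h2 := hdim a
    rw [h1, show Groth.GrDualH.piece 𝒜 (I.Hgr m r) (-a) = ⊥ from (Submodule.eq_bot_iff _).2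
      fun x hx => (AddSubgroup.eq_bot_iff_forall _).1 h x hx, finrank_bot] at h2
    exact one_ne_zero h2
  obtain ⟨α, hα, hmax⟩ := Int.exists_greatest_of_bdd (P := fun g => I.Hgr m r g ≠ ⊥)
    ⟨c, fun g hg => not_lt.1 fun hlt =>
      hg ((AddSubgroup.eq_bot_iff_forall _).2 fun x hx => hc g hlt x hx)⟩ ⟨-a, hex⟩
  have hend : endDeg (I.Hgr m r) = ((α : WithTop ℤ) : WithBot (WithTop ℤ)) :=
    le_antisymm (iSup₂_le fun g hg => WithBot.coe_le_coe.2 (WithTop.coe_le_coe.2 (hmax g hg)))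
      (le_iSup₂ (f := fun (g : ℤ) (_ : I.Hgr m r g ≠ ⊥) =>
        ((g : WithTop ℤ) : WithBot (WithTop ℤ))) α hα)
  have hαa : α = -a := by
    refine le_antisymm (not_lt.1 fun hlt => ?_) (hmax _ hex)
    have h2 : 2 ≤ Module.finrank (deg0 (GrothGr.agr 𝒜)) (GrLC.comp (GrothGr.agr 𝒜) 𝒞 a) :=
      GrothGr.two_le_finrank_canonical (CanDual.pos_agr hpos) (CanDual.isField_agr h0)
        (isStarLocal hpos h0 hm) (CanDual.span_agr hm) hstd hr h2r ((endDeg_agr r).trans hend)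
        (GrothGr.isStarInjHull_agr 𝒜 he) (GrothGr.isStarCanonical_agr 𝒜 hC) (by omega)
    have h3 : Module.finrank (deg0 (GrothGr.agr 𝒜)) (GrLC.comp (GrothGr.agr 𝒜) 𝒞 a) =
        Module.finrank (deg0 𝒜) (GrLC.comp 𝒜 𝒞 a) := rfl
    rw [h3, SegLC.finrank_comp h0, h1] at h2
    omega
  subst hαa
  refine ⟨hend, fun n hn => ?_⟩
  rw [hdim, show Groth.GrDualH.piece 𝒜 (I.Hgr m r) (-n) = ⊥ from (Submodule.eq_bot_iff _).2
    fun x hx => (AddSubgroup.eq_bot_iff_forall _).1 (not_not.1 fun h => by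
      have := hmax _ h
      omega) x hx, finrank_bot]

include hpos h0 in
omit [Nontrivial R] [Algebra.FiniteType k R] in
/-- A cyclic generator with the right dimensions is a basis. -/
theorem bijective_smul {a : ℤ} {x : C} (hx : x ∈ 𝒞 a)
    (hlow : ∀ n < a, ∀ y ∈ 𝒞 n, y = 0)
    (hsurj : ∀ n, 0 ≤ n → ∀ y ∈ 𝒞 (n + a), ∃ t ∈ 𝒜 n, t • x = y)
    (hinj : ∀ n, 0 ≤ n → ∀ t ∈ 𝒜 n, t • x = 0 → t = 0) :
    Function.Bijective (LinearMap.toSpanSingleton R C x) := by
  classical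
  refine ⟨(injective_iff_map_eq_zero _).2 fun t ht => ?_, fun y => ?_⟩
  · refine Groth.GrDualH.eq_zero_of_proj (ℳ := 𝒜) fun n => ?_
    have hmem := Groth.GrDualH.proj_mem (ℳ := 𝒜) n t
    rcases lt_or_ge n 0 with hn | hn
    · exact (Submodule.eq_bot_iff _).1 (hpos n hn) _ hmem
    refine hinj n hn _ hmem ?_
    have h2 : Groth.GrDualH.proj 𝒞 (n + a) (t • x) = Groth.GrDualH.proj 𝒜 n t • x := by
      clear ht hmem
      induction t using DirectSum.Decomposition.inductionOn 𝒜 with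
      | zero => simp
      | add u v hu hv => simp only [add_smul, map_add, hu, hv]
      | @homogeneous i t =>
        rw [Groth.GrDualH.proj_smul (𝒜 := 𝒜) t.2]
        by_cases hi : i = n
        · subst hi
          rw [show i + a - i = a by ring, Groth.GrDualH.proj_of_mem hx,
            Groth.GrDualH.proj_of_mem t.2]
        · rw [Groth.GrDualH.proj_of_mem_ne hx (by omega),
            Groth.GrDualH.proj_of_mem_ne t.2 hi, smul_zero, zero_smul]
    rw [← h2, show t • x = 0 from ht, map_zero]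
  · induction y using DirectSum.Decomposition.inductionOn 𝒞 with
    | zero => exact ⟨0, map_zero _⟩
    | add u v hu hv =>
      obtain ⟨s, rfl⟩ := hu
      obtain ⟨t, rfl⟩ := hv
      exact ⟨s + t, map_add _ _ _⟩
    | @homogeneous i y =>
      rcases lt_or_ge i a with hi | hi
      · exact ⟨0, by rw [map_zero, hlow i hi _ y.2]⟩
      · obtain ⟨t, -, ht⟩ := hsurj (i - a) (by omega) y (by rw [sub_add_cancel]; exact y.2)
        exact ⟨t, ht⟩

end One

/-- Surjections onto positive dimensional spaces whose product of dimensions is extremal. -/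
theorem eq_top_of_mul_eq {a₁ a₂ b₁ b₂ c₁ c₂ : ℕ} (h₁ : a₁ ≤ b₁) (h₂ : a₂ ≤ b₂) (g₁ : a₁ ≤ c₁)
    (g₂ : a₂ ≤ c₂) (hb : b₁ * b₂ ≤ a₁ * a₂) (hc : c₁ * c₂ ≤ a₁ * a₂) (hc0 : 0 < c₁ * c₂)
    (hb0 : 0 < b₁ * b₂) : a₁ = b₁ ∧ a₂ = b₂ ∧ a₁ = c₁ ∧ a₂ = c₂ := by
  have key : ∀ {x y u v : ℕ}, x ≤ u → y ≤ v → u * v ≤ x * y → 0 < u * v → x = u ∧ y = v := by
    intro x y u v hx hy h h0
    obtain ⟨hu, hv⟩ := Nat.pos_iff_ne_zero.1 h0 |> mul_ne_zero_iff.1
    constructor
    · by_contra hne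
      have : x * y < u * v := Nat.mul_lt_mul_of_lt_of_le (lt_of_le_of_ne hx hne) hy (Nat.pos_of_ne_zero hv)
      omega
    · by_contra hne
      have : x * y < u * v :=
        Nat.mul_lt_mul_of_le_of_lt hx (lt_of_le_of_ne hy hne) (Nat.pos_of_ne_zero hu)
      omega
  exact ⟨(key h₁ h₂ hb hb0).1, (key h₁ h₂ hb hb0).2, (key g₁ g₂ hc hc0).1, (key g₁ g₂ hc hc0).2⟩

section Two

variable {k : Type u} [Field k]
variable {R : Type u} [CommRing R] [Algebra k R] {𝒜 : ℤ → Submodule k R} [GradedAlgebra 𝒜]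
variable {S : Type u} [CommRing S] [Algebra k S] {ℬ : ℤ → Submodule k S} [GradedAlgebra ℬ]
variable {T : Type u} [CommRing T] [Algebra k T] {𝒯 : ℤ → Submodule k T} [GradedAlgebra 𝒯]
variable {ψ : T →ₐ[k] R ⊗[k] S}

/-- Multiples of a pure tensor. -/
theorem map_act_le {M N : Type u} [AddCommGroup M] [Module R M] [Module k M]
    [IsScalarTower k R M] [AddCommGroup N] [Module S N] [Module k N] [IsScalarTower k S N]
    (hT : GrSeg.IsSegreRing 𝒜 ℬ 𝒯 ψ) {n : ℤ} {t : T} (ht : t ∈ 𝒯 n) (x : M) (y : N) :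
    GrSeg.act k R S M N (ψ t) (x ⊗ₜ[k] y) ∈ LinearMap.range (SegLC.incl2
      ((𝒜 n).map ((LinearMap.toSpanSingleton R M x).restrictScalars k))
      ((ℬ n).map ((LinearMap.toSpanSingleton S N y).restrictScalars k))) := by
  have h := SegLC.psi_mem hT ht
  generalize ψ t = z at h
  induction h using Submodule.span_induction with
  | zero => simp
  | add u v _ _ hu hv => rw [map_add, LinearMap.add_apply]; exact add_mem hu hv
  | smul c u _ hu => rw [map_smul, LinearMap.smul_apply]; exact Submodule.smul_mem _ c hu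
  | mem w hw =>
    obtain ⟨u, hu, v, hv, rfl⟩ := hw
    rw [GrSeg.act_tmul]
    exact ⟨⟨u • x, u, hu, rfl⟩ ⊗ₜ[k] ⟨v • y, v, hv, rfl⟩, rfl⟩

variable [Nontrivial R] [Algebra.FiniteType k R] [Nontrivial S] [Algebra.FiniteType k S]
  (hposR : ∀ n : ℤ, n < 0 → 𝒜 n = ⊥) (h0R : 𝒜 0 = Submodule.span k {(1 : R)})
  (hposS : ∀ n : ℤ, n < 0 → ℬ n = ⊥) (h0S : ℬ 0 = Submodule.span k {(1 : S)})
  {mR : HomogeneousIdeal 𝒜}
  (hmR : mR.toIdeal = Ideal.span (⋃ n ∈ Set.Ioi (0 : ℤ), (𝒜 n : Set R)))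
  (hstdR : Ideal.span (⋃ n ∈ Set.Ioi (0 : ℤ), (𝒜 n : Set R)) =
    Ideal.span ((𝒜 1 : Submodule k R) : Set R))
  {I : StarInjRes 𝒜 𝒜} {r : ℕ} (hr : ringKrullDim R = r) (h2r : 2 ≤ r)
  {mS : HomogeneousIdeal ℬ}
  (hmS : mS.toIdeal = Ideal.span (⋃ n ∈ Set.Ioi (0 : ℤ), (ℬ n : Set S)))
  (hstdS : Ideal.span (⋃ n ∈ Set.Ioi (0 : ℤ), (ℬ n : Set S)) =
    Ideal.span ((ℬ 1 : Submodule k S) : Set S))
  {J : StarInjRes ℬ ℬ} {s : ℕ} (hs : ringKrullDim S = s) (h2s : 2 ≤ s)
  (hT : GrSeg.IsSegreRing 𝒜 ℬ 𝒯 ψ)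

include hposR h0R hposS h0S hmR hstdR hr h2r hmS hstdS hs h2s hT in
/-- The converse: factors of a Gorenstein Segre product are Gorenstein with equal end. -/
theorem gorenstein_factors [LocCoh.IsCohenMacaulayRing R] [LocCoh.IsCohenMacaulayRing S]
    [LocCoh.IsGorensteinRing T] :
    LocCoh.IsGorensteinRing R ∧ LocCoh.IsGorensteinRing S ∧
      endDeg (I.Hgr mR r) = endDeg (J.Hgr mS s) := by
  classical
  haveI : IsNoetherianRing R := Algebra.FiniteType.isNoetherianRing k R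
  haveI : IsNoetherianRing S := Algebra.FiniteType.isNoetherianRing k S
  haveI : Nontrivial T := SegLC.nontrivial_segre ψ
  haveI := SegreCMOne.finiteType 𝒜 ℬ 𝒯 ψ hT.1 hT.2 hposR h0R hposS h0S
  haveI : IsNoetherianRing T := Algebra.FiniteType.isNoetherianRing k T
  haveI := GrothGr.isCohenMacaulayRing_of_gorenstein T
  have hposT := SegreDimOne.t_pos 𝒜 ℬ 𝒯 ψ hT.1 hT.2 hposR
  have h0T := SegreDimOne.t_zero 𝒜 ℬ 𝒯 ψ hT.1 hT.2 h0R h0S
  have hdT : ringKrullDim T = ((r + s - 1 : ℕ) : WithBot ℕ∞) :=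
    Groth.Agent.S18647.result k R 𝒜 hposR h0R S ℬ hposS h0S T 𝒯 ψ hT.1 hT.2 r s hr hs (by omega)
      (by omega)
  obtain ⟨ER, _, _, 𝓔R, _, _, eR, heR⟩ := exists_hull mR
  obtain ⟨ES, _, _, 𝓔S, _, _, eS, heS⟩ := exists_hull mS
  let mT : HomogeneousIdeal 𝒯 := SegLC.posIdeal 𝒯
  have hmT : mT.toIdeal = Ideal.span (⋃ n ∈ Set.Ioi (0 : ℤ), (𝒯 n : Set T)) := SegLC.posIdeal_eq 𝒯
  obtain ⟨ET, _, _, 𝓔T, _, _, eT, heT⟩ := exists_hull mT
  obtain ⟨CR, _, _, _, _, 𝒞R, _, _, hCR⟩ := CanExists.exists_canonical hposR h0R hmR I r heR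
  obtain ⟨CS, _, _, _, _, 𝒞S, _, _, hCS⟩ := CanExists.exists_canonical hposS h0S hmS J s heS
  obtain ⟨P, _, _, _, _, 𝒬, _, _, φ, hP⟩ := SegLC.exists_segreMod hT 𝒞R 𝒞S
  have hCP := CanSegre.isStarCanonical_segre hposR h0R hmR hr h2r heR hCR hposS h0S hmS hs h2s heS
    hCS hT hmT (SegLC.someRes (𝒜 := 𝒯)) heT hP
  obtain ⟨a, f, hf, hfd⟩ := (Groth.Agent.S18638.result T (GrothGr.agr 𝒯) (CanDual.pos_agr hposT)
    (CanDual.isField_agr h0T) (GrothGr.hagr 𝒯 mT) (isStarLocal hposT h0T hmT) (CanDual.span_agr hmT)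
    (r + s - 1) hdT _ ET 𝓔T eT (GrothGr.isStarInjHull_agr 𝒯 heT) P 𝒬
    (GrothGr.isStarCanonical_agr 𝒯 hCP)).1 inferInstance
  have hpiece : ∀ n, Module.finrank k (Groth.GrDualH.piece 𝒯 𝒬 (n + a)) =
      Module.finrank k (𝒯 n) := fun n => by
    let g : 𝒯 n →ₗ[k] Groth.GrDualH.piece 𝒯 𝒬 (n + a) :=
      ((f.restrictScalars k) ∘ₗ (𝒯 n).subtype).codRestrict _ fun t => hfd n t t.2
    refine (LinearEquiv.ofBijective g ⟨fun u v h => Subtype.ext (hf.1 (congrArg Subtype.val h)),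
      fun y => ?_⟩).finrank_eq.symm
    obtain ⟨t, ht⟩ := hf.2 (y : P)
    refine ⟨⟨_, Groth.GrDualH.proj_mem (ℳ := 𝒯) n t⟩, Subtype.ext ?_⟩
    show f (Groth.GrDualH.proj 𝒯 n t) = (y : P)
    have key : ∀ u : T, Groth.GrDualH.proj 𝒬 (n + a) (f u) = f (Groth.GrDualH.proj 𝒯 n u) := fun u => by
      induction u using DirectSum.Decomposition.inductionOn 𝒯 with
      | zero => simp
      | add u v hu hv => simp only [map_add, hu, hv]
      | @homogeneous i u =>
        by_cases hi : i = n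
        · subst hi
          rw [Groth.GrDualH.proj_of_mem u.2, Groth.GrDualH.proj_of_mem (hfd i u u.2)]
        · rw [Groth.GrDualH.proj_of_mem_ne u.2 hi, map_zero,
            Groth.GrDualH.proj_of_mem_ne (hfd i u u.2) (by omega)]
    rw [← key, ht, Groth.GrDualH.proj_of_mem (ℳ := 𝒬) (show (y : P) ∈ 𝒬 (n + a) from y.2)]
  have hprod : ∀ n, Module.finrank k (Groth.GrDualH.piece 𝒯 𝒬 n) =
      Module.finrank k (Groth.GrDualH.piece 𝒜 𝒞R n) *
        Module.finrank k (Groth.GrDualH.piece ℬ 𝒞S n) :=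
    fun n => CanSegre.finrank_segreMod (𝒜 := 𝒜) (ℬ := ℬ) (𝒯 := 𝒯) hP n
  have hTdim : ∀ n, Module.finrank k (𝒯 n) =
      Module.finrank k (𝒜 n) * Module.finrank k (ℬ n) := fun n => by
    have h1 : GrSeg.segrePiece k 𝒜 ℬ n = LinearMap.range (SegLC.incl2 (𝒜 n) (ℬ n)) :=
      (SegLC.range_incl2 (𝒳 := 𝒜) (𝒴 := ℬ) (g := n) _ _ (fun _ => Iff.rfl) (fun _ => Iff.rfl)).symm
    rw [(Submodule.equivMapOfInjective ψ.toLinearMap hT.1 (𝒯 n)).finrank_eq, hT.2 n, h1,
      LinearMap.finrank_range_of_inj (SegLC.incl2_injective _ _)]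
    exact Module.finrank_tensorProduct
  have h10 : Module.finrank k (𝒯 0) = 1 := finrank_zero_piece h0T
  have ha1 : Module.finrank k (Groth.GrDualH.piece 𝒜 𝒞R a) = 1 ∧
      Module.finrank k (Groth.GrDualH.piece ℬ 𝒞S a) = 1 := by
    have := hprod a
    rw [← zero_add a, hpiece 0, h10, zero_add] at this
    exact mul_eq_one.1 this.symm
  obtain ⟨haR, hlowR⟩ := endDeg_eq_of_one hposR h0R hmR hstdR hr h2r heR hCR ha1.1
  obtain ⟨haS, hlowS⟩ := endDeg_eq_of_one hposS h0S hmS hstdS hs h2s heS hCS ha1.2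
  haveI : Module.Finite R CR := hCR.1
  haveI : Module.Finite S CS := hCS.1
  haveI : IsNoetherian R CR := isNoetherian_of_isNoetherianRing_of_finite R CR
  haveI : IsNoetherian S CS := isNoetherian_of_isNoetherianRing_of_finite S CS
  have hfR := fun n => Groth.GrDualH.finiteDimensional_piece (M := CR) (ℳ := 𝒞R) (𝒜 := 𝒜) h0R
    (Or.inl inferInstance) n
  have hfS := fun n => Groth.GrDualH.finiteDimensional_piece (M := CS) (ℳ := 𝒞S) (𝒜 := ℬ) h0S
    (Or.inl inferInstance) n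
  have hone : ∀ {U : Type u} [AddCommGroup U] [Module k U] (V : Submodule k U),
      Module.finrank k V = 1 → ∃ x, x ∈ V ∧ ∀ y ∈ V, ∃ c : k, c • x = y := fun V hV => by
    obtain ⟨x, -, hx⟩ := finrank_eq_one_iff'.1 hV
    exact ⟨x, x.2, fun y hy => by
      obtain ⟨c, hc⟩ := hx ⟨y, hy⟩
      exact ⟨c, congrArg Subtype.val hc⟩⟩
  obtain ⟨x, hx, hxg⟩ := hone _ ha1.1
  obtain ⟨y, hy, hyg⟩ := hone _ ha1.2
  obtain ⟨c, hc⟩ : ∃ c : k, φ (f 1) = c • (x ⊗ₜ[k] y) := by
    have h1 : φ (f 1) ∈ GrSeg.segrePiece k 𝒞R 𝒞S a := by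
      have h2 : φ (f 1) ∈ φ '' (𝒬 a : Set P) :=
        ⟨f 1, by have := hfd 0 1 (SetLike.one_mem_graded 𝒯); rwa [zero_add] at this, rfl⟩
      rwa [hP.image_piece] at h2
    suffices h : φ (f 1) ∈ Submodule.span k {x ⊗ₜ[k] y} by
      obtain ⟨c, hc⟩ := Submodule.mem_span_singleton.1 h
      exact ⟨c, hc.symm⟩
    refine Submodule.span_le.2 ?_ h1
    rintro _ ⟨u, hu, v, hv, rfl⟩
    obtain ⟨p, rfl⟩ := hxg u hu
    obtain ⟨q, rfl⟩ := hyg v hv
    rw [TensorProduct.smul_tmul_smul]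
    exact Submodule.smul_mem _ _ (Submodule.mem_span_singleton_self _)
  have hmul : ∀ n : ℤ, 0 ≤ n →
      (𝒜 n).map ((LinearMap.toSpanSingleton R CR x).restrictScalars k) =
        Groth.GrDualH.piece 𝒜 𝒞R (n + a) ∧
      (ℬ n).map ((LinearMap.toSpanSingleton S CS y).restrictScalars k) =
        Groth.GrDualH.piece ℬ 𝒞S (n + a) ∧
      Module.finrank k ((𝒜 n).map ((LinearMap.toSpanSingleton R CR x).restrictScalars k)) =
        Module.finrank k (𝒜 n) ∧
      Module.finrank k ((ℬ n).map ((LinearMap.toSpanSingleton S CS y).restrictScalars k)) =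
        Module.finrank k (ℬ n) := by
    intro n hn
    set X := (𝒜 n).map ((LinearMap.toSpanSingleton R CR x).restrictScalars k) with hX
    set Y := (ℬ n).map ((LinearMap.toSpanSingleton S CS y).restrictScalars k) with hY
    have hfA := finite_piece 𝒜 h0R n
    have hfB := finite_piece ℬ h0S n
    haveI := hfA; haveI := hfB
    haveI := hfR (n + a); haveI := hfS (n + a)
    have hXle : X ≤ Groth.GrDualH.piece 𝒜 𝒞R (n + a) := by
      rintro _ ⟨u, hu, rfl⟩
      exact Groth.GrDualH.smul_mem (ℳ := 𝒞R) hu hx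
    have hYle : Y ≤ Groth.GrDualH.piece ℬ 𝒞S (n + a) := by
      rintro _ ⟨u, hu, rfl⟩
      exact Groth.GrDualH.smul_mem (ℳ := 𝒞S) hu hy
    haveI : FiniteDimensional k X := Submodule.finiteDimensional_of_le hXle
    haveI : FiniteDimensional k Y := Submodule.finiteDimensional_of_le hYle
    have hle : (Groth.GrDualH.piece 𝒯 𝒬 (n + a)).map φ ≤ LinearMap.range (SegLC.incl2 X Y) := by
      rintro _ ⟨p, hp, rfl⟩
      obtain ⟨t, rfl⟩ := hf.2 p
      have h1 : f t = f (Groth.GrDualH.proj 𝒯 n t) := by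
        refine (Groth.GrDualH.proj_of_mem (ℳ := 𝒬) hp).symm.trans ?_
        clear hp
        induction t using DirectSum.Decomposition.inductionOn 𝒯 with
        | zero => simp
        | add u v hu hv => simp only [map_add, hu, hv]
        | @homogeneous i u =>
          by_cases hi : i = n
          · subst hi
            rw [Groth.GrDualH.proj_of_mem u.2, Groth.GrDualH.proj_of_mem (hfd i u u.2)]
          · rw [Groth.GrDualH.proj_of_mem_ne u.2 hi, map_zero,
              Groth.GrDualH.proj_of_mem_ne (hfd i u u.2) (by omega)]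
      have h2 := map_act_le (M := CR) (N := CS) hT (Groth.GrDualH.proj_mem (ℳ := 𝒯) n t) x y
      show φ (f t) ∈ _
      rw [h1, ← mul_one (Groth.GrDualH.proj 𝒯 n t), ← smul_eq_mul, map_smul, hP.map_smul, hc,
        map_smul]
      exact Submodule.smul_mem _ c h2
    have hd := Submodule.finrank_mono hle
    rw [← (Submodule.equivMapOfInjective φ hP.injective _).finrank_eq,
      LinearMap.finrank_range_of_inj (SegLC.incl2_injective _ _), Module.finrank_tensorProduct] at hd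
    have hpos' : 0 < Module.finrank k (𝒜 n) * Module.finrank k (ℬ n) := by
      have hA := SegLC.piece_ne_bot hposR h0R hmR hstdR hr (by omega) hn
      have hB := SegLC.piece_ne_bot hposS h0S hmS hstdS hs (by omega) hn
      exact Nat.mul_pos (Nat.pos_of_ne_zero fun h => hA (Submodule.finrank_eq_zero.1 h))
        (Nat.pos_of_ne_zero fun h => hB (Submodule.finrank_eq_zero.1 h))
    have e1 : Module.finrank k (Groth.GrDualH.piece 𝒯 𝒬 (n + a)) =
        Module.finrank k (𝒜 n) * Module.finrank k (ℬ n) := (hpiece n).trans (hTdim n)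
    obtain ⟨q1, q2, q3, q4⟩ := eq_top_of_mul_eq (Submodule.finrank_mono hXle)
      (Submodule.finrank_mono hYle) (Submodule.finrank_map_le _ _) (Submodule.finrank_map_le _ _)
      ((hprod (n + a)).symm.trans_le hd) (e1.symm.trans_le hd) hpos'
      (by rw [← hprod (n + a), e1]; exact hpos')
    exact ⟨Submodule.eq_of_le_of_finrank_eq hXle q1, Submodule.eq_of_le_of_finrank_eq hYle q2, q3, q4⟩
  refine ⟨isGorenstein_of_bijective hposR h0R hmR hr heR hCR
      (f := LinearMap.toSpanSingleton R CR x) (bijective_smul hposR h0R hx ?_ ?_ ?_),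
    isGorenstein_of_bijective hposS h0S hmS hs heS hCS
      (f := LinearMap.toSpanSingleton S CS y) (bijective_smul hposS h0S hy ?_ ?_ ?_),
    haR.trans haS.symm⟩
  · intro n hn u hu
    haveI := hfR n
    exact (Submodule.eq_bot_iff _).1 (Submodule.finrank_eq_zero.1 (hlowR n hn)) u hu
  · intro n hn u hu
    exact (hmul n hn).1.ge hu
  · intro n hn t ht h
    haveI := finite_piece 𝒜 h0R n
    let g := ((LinearMap.toSpanSingleton R CR x).restrictScalars k) ∘ₗ (𝒜 n).subtype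
    have hg : Function.Injective g := LinearMap.ker_eq_bot.1 (Submodule.finrank_eq_zero.1 (by
      have h1 := g.finrank_range_add_finrank_ker
      rw [show Module.finrank k (LinearMap.range g) = Module.finrank k (𝒜 n) from by
        rw [LinearMap.range_comp, Submodule.range_subtype]; exact (hmul n hn).2.2.1] at h1
      omega))
    exact congrArg Subtype.val (hg (a₁ := ⟨t, ht⟩) (a₂ := 0) (h.trans (map_zero g).symm))
  · intro n hn u hu
    haveI := hfS n
    exact (Submodule.eq_bot_iff _).1 (Submodule.finrank_eq_zero.1 (hlowS n hn)) u hu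
  · intro n hn u hu
    exact (hmul n hn).2.1.ge hu
  · intro n hn t ht h
    haveI := finite_piece ℬ h0S n
    let g := ((LinearMap.toSpanSingleton S CS y).restrictScalars k) ∘ₗ (ℬ n).subtype
    have hg : Function.Injective g := LinearMap.ker_eq_bot.1 (Submodule.finrank_eq_zero.1 (by
      have h1 := g.finrank_range_add_finrank_ker
      rw [show Module.finrank k (LinearMap.range g) = Module.finrank k (ℬ n) from by
        rw [LinearMap.range_comp, Submodule.range_subtype]; exact (hmul n hn).2.2.2] at h1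
      omega))
    exact congrArg Subtype.val (hg (a₁ := ⟨t, ht⟩) (a₂ := 0) (h.trans (map_zero g).symm))

end Two

end Groth.Misc15.GorSeg
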