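import Groth.Agent.GrMod.LES
import Groth.Agent.GrMod.Ext

/-!
# Functoriality of graded local cohomology in maps of any degree; right exactness in top degree
-/

set_option autoImplicit false

universe u

open DirectSum GrLC GrothGr

namespace Groth.Misc15.MapH

variable {ι : Type} [AddCommGroup ι] [DecidableEq ι]
variable {R : Type u} [CommRing R] {𝒜 : ι → AddSubgroup R} [GradedRing 𝒜]
variable {M : Type u} [AddCommGroup M] [Module R M] {ℳ : ι → AddSubgroup M} [Decomposition ℳ]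
  [SetLike.GradedSMul 𝒜 ℳ]
variable {N : Type u} [AddCommGroup N] [Module R N] {𝒩 : ι → AddSubgroup N} [Decomposition 𝒩]
  [SetLike.GradedSMul 𝒜 𝒩]
variable {P : Type u} [AddCommGroup P] [Module R P] {Pc : ι → AddSubgroup P} [Decomposition Pc]
  [SetLike.GradedSMul 𝒜 Pc]

omit [DecidableEq ι] [GradedRing 𝒜] [Decomposition ℳ] [SetLike.GradedSMul 𝒜 ℳ] [Decomposition 𝒩]
  [SetLike.GradedSMul 𝒜 𝒩] in
theorem grHom_of_deg {f : M →ₗ[R] N} {d : ι} (hf : IsGrHomDeg ℳ 𝒩 f d) :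
    IsGrHom (shiftPc ℳ d) 𝒩 f := fun j x hx => by
  have := hf (j - d) x hx
  rwa [sub_add_cancel] at this

omit [DecidableEq ι] [GradedRing 𝒜] [Decomposition ℳ] [SetLike.GradedSMul 𝒜 ℳ] [Decomposition 𝒩]
  [SetLike.GradedSMul 𝒜 𝒩] in
theorem deg_of_grHom {f : M →ₗ[R] N} {d : ι} (hf : IsGrHom (shiftPc ℳ d) 𝒩 f) :
    IsGrHomDeg ℳ 𝒩 f d := fun g x hx => hf (g + d) x (by
  show x ∈ ℳ (g + d - d)
  rwa [add_sub_cancel_right])

/-- A chain map over a map of modules, of a given degree. -/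
structure CMap (f : M →ₗ[R] N) (E : StarInjRes 𝒜 ℳ) (F : StarInjRes 𝒜 𝒩) (d : ι) where
  φ : ∀ n, (E.X n).carrier →ₗ[R] (F.X n).carrier
  deg : ∀ n, IsGrHomDeg (E.X n).gr (F.X n).gr (φ n) d
  comm_ε : ∀ m, φ 0 (E.ε m) = F.ε (f m)
  comm : ∀ n x, φ (n + 1) (E.d n x) = F.d n (φ n x)

variable {f : M →ₗ[R] N} {d : ι}

theorem nonempty_cmap (hf : IsGrHomDeg ℳ 𝒩 f d) (E : StarInjRes 𝒜 ℳ) (F : StarInjRes 𝒜 𝒩) :
    Nonempty (CMap f E F d) := by
  let S := shiftRes E d
  have hfε : IsGrHom (shiftPc ℳ d) (F.X 0).gr (F.ε ∘ₗ f) :=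
    IsGrHom.comp F.ε_grHom (grHom_of_deg hf)
  obtain ⟨f₀, hf₀, hf₀e⟩ := exists_lift_of_ker_le 𝒜 (shiftPc ℳ d) (S.X 0).gr (F.X 0).gr
    (F.starInj 0) S.ε_grHom hfε (fun x hx => by
      have : x = 0 := E.ε_injective ((LinearMap.mem_ker.1 hx).trans (map_zero E.ε).symm)
      rw [this]
      exact zero_mem _)
  have hf₀' : ∀ m, f₀ (E.ε m) = F.ε (f m) := fun m => LinearMap.congr_fun hf₀e m
  let Q : ∀ n, ((E.X n).carrier →ₗ[R] (F.X n).carrier) → Prop := fun n g =>
    IsGrHom (S.X n).gr (F.X n).gr g ∧ LinearMap.ker (E.d n) ≤ LinearMap.ker (F.d n ∘ₗ g)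
  have h0 : Q 0 f₀ := ⟨hf₀, fun x hx => by
    obtain ⟨m, rfl⟩ := E.exact_zero.le hx
    show F.d 0 (f₀ (E.ε m)) = 0
    rw [hf₀']
    exact LinearMap.mem_ker.1 (F.exact_zero.ge ⟨f m, rfl⟩)⟩
  have hstep : ∀ n g, Q n g → ∃ g', Q (n + 1) g' ∧ ∀ x, g' (E.d n x) = F.d n (g x) := by
    intro n g hg
    obtain ⟨g', hg', he⟩ := exists_lift_of_ker_le 𝒜 (S.X n).gr (S.X (n + 1)).gr (F.X (n + 1)).gr
      (F.starInj (n + 1)) (S.d_grHom n) (IsGrHom.comp (F.d_grHom n) hg.1) hg.2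
    have he' : ∀ x, g' (E.d n x) = F.d n (g x) := fun x => LinearMap.congr_fun he x
    refine ⟨g', ⟨hg', fun x hx => ?_⟩, he'⟩
    obtain ⟨y, rfl⟩ := (E.exact_succ n).le hx
    show F.d (n + 1) (g' (E.d n y)) = 0
    rw [he']
    exact LinearMap.mem_ker.1 ((F.exact_succ n).ge ⟨g y, rfl⟩)
  choose nx hnx hnxe using hstep
  let seq : ∀ n, {g // Q n g} := fun n => Nat.rec (motive := fun n => {g // Q n g}) ⟨f₀, h0⟩
    (fun k a => ⟨nx k a.1 a.2, hnx k a.1 a.2⟩) n
  exact ⟨⟨fun n => (seq n).1, fun n => deg_of_grHom (seq n).2.1, hf₀',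
    fun n x => hnxe n (seq n).1 (seq n).2 x⟩⟩

variable {E : StarInjRes 𝒜 ℳ} {F : StarInjRes 𝒜 𝒩} (a : HomogeneousIdeal 𝒜)

/-- The map on cocycles. -/
def CMap.cyc (c : CMap f E F d) (i : ℕ) : E.cocyc a i →ₗ[R] F.cocyc a i :=
  (c.φ i).restrict fun x hx => ⟨map_gam _ _ hx.1, by
    show F.d i (c.φ i x) = 0
    rw [← c.comm, show E.d i x = 0 from hx.2, map_zero]⟩

theorem CMap.cyc_mapsTo (c : CMap f E F d) (i : ℕ) :
    (E.cobdy a i).comap (E.cocyc a i).subtype ≤
      ((F.cobdy a i).comap (F.cocyc a i).subtype).comap (c.cyc a i) := by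
  intro z hz
  cases i with
  | zero =>
    have h0 : (z : (E.X 0).carrier) = 0 := hz
    show c.φ 0 (z : (E.X 0).carrier) ∈ (⊥ : Submodule R (F.X 0).carrier)
    rw [h0, map_zero]
    exact zero_mem _
  | succ n =>
    obtain ⟨x, hx, hxz⟩ := hz
    refine ⟨c.φ n x, map_gam _ _ hx, ?_⟩
    rw [← c.comm, hxz]
    rfl

/-- The induced map on cohomology. -/
def CMap.mapH (c : CMap f E F d) (i : ℕ) : E.H a i →ₗ[R] F.H a i :=
  Submodule.mapQ _ _ (c.cyc a i) (c.cyc_mapsTo a i)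

/-- `Φ` is the map induced on cohomology by `f`, homogeneous of degree `d`. -/
def Ind (a : HomogeneousIdeal 𝒜) (E : StarInjRes 𝒜 ℳ) (F : StarInjRes 𝒜 𝒩) (i : ℕ) (d : ι)
    (f : M →ₗ[R] N) (Φ : E.H a i →ₗ[R] F.H a i) : Prop :=
  ∃ c : CMap f E F d, c.mapH a i = Φ

variable {a} {i : ℕ}

theorem exists_ind (hf : IsGrHomDeg ℳ 𝒩 f d) : ∃ Φ, Ind a E F i d f Φ :=
  let ⟨c⟩ := nonempty_cmap hf E F
  ⟨_, c, rfl⟩

theorem Ind.congr {g : M →ₗ[R] N} {Φ : E.H a i →ₗ[R] F.H a i} (h : Ind a E F i d f Φ)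
    (hg : f = g) : Ind a E F i d g Φ := hg ▸ h

theorem Ind.unique {Φ Ψ : E.H a i →ₗ[R] F.H a i} (h : Ind a E F i d f Φ)
    (h' : Ind a E F i d f Ψ) : Φ = Ψ := by
  obtain ⟨c, rfl⟩ := h
  obtain ⟨c', rfl⟩ := h'
  refine LinearMap.ext fun x => ?_
  obtain ⟨⟨z, hz⟩, rfl⟩ := Submodule.Quotient.mk_surjective _ x
  refine (Submodule.Quotient.eq _).2 ?_
  show c.φ i z - c'.φ i z ∈ F.cobdy a i
  exact cocyc_mem_cobdy_of_null (E := shiftRes E d) (F := F) (fun n => c.φ n - c'.φ n)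
    (fun n j x hx => sub_mem (grHom_of_deg (c.deg n) j x hx) (grHom_of_deg (c'.deg n) j x hx))
    (fun m => by
      show c.φ 0 (E.ε m) - c'.φ 0 (E.ε m) = 0
      rw [c.comm_ε, c'.comm_ε, sub_self])
    (fun n x => by
      show c.φ (n + 1) (E.d n x) - c'.φ (n + 1) (E.d n x) = F.d n (c.φ n x - c'.φ n x)
      rw [c.comm, c'.comm, map_sub])
    a i hz

theorem Ind.grHom {Φ : E.H a i →ₗ[R] F.H a i} (h : Ind a E F i d f Φ) :
    IsGrHomDeg (E.Hgr a i) (F.Hgr a i) Φ d := by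
  obtain ⟨c, rfl⟩ := h
  rintro g _ ⟨z, hz, rfl⟩
  exact ⟨c.cyc a i z, c.deg i g _ hz, rfl⟩

theorem Ind.zero : Ind a E F i d (0 : M →ₗ[R] N) 0 :=
  ⟨⟨fun _ => 0, fun _ _ _ _ => zero_mem _, fun _ => (map_zero _).symm, fun _ _ => (map_zero _).symm⟩,
    LinearMap.ext fun x => by
      obtain ⟨z, rfl⟩ := Submodule.Quotient.mk_surjective _ x
      rfl⟩

theorem Ind.id : Ind a E E i 0 LinearMap.id LinearMap.id :=
  ⟨⟨fun _ => LinearMap.id, fun _ g x hx => by rwa [add_zero], fun _ => rfl, fun _ _ => rfl⟩,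
    LinearMap.ext fun x => by
      obtain ⟨z, rfl⟩ := Submodule.Quotient.mk_surjective _ x
      rfl⟩

theorem Ind.add {g : M →ₗ[R] N} {Φ Ψ : E.H a i →ₗ[R] F.H a i} (h : Ind a E F i d f Φ)
    (h' : Ind a E F i d g Ψ) : Ind a E F i d (f + g) (Φ + Ψ) := by
  obtain ⟨c, rfl⟩ := h
  obtain ⟨c', rfl⟩ := h'
  refine ⟨⟨fun n => c.φ n + c'.φ n, fun n j x hx => add_mem (c.deg n j x hx) (c'.deg n j x hx),
    fun m => ?_, fun n x => ?_⟩, LinearMap.ext fun x => ?_⟩
  · rw [LinearMap.add_apply, LinearMap.add_apply, c.comm_ε, c'.comm_ε, map_add]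
  · rw [LinearMap.add_apply, LinearMap.add_apply, c.comm, c'.comm, map_add]
  · obtain ⟨z, rfl⟩ := Submodule.Quotient.mk_surjective _ x
    rfl

theorem Ind.sum {κ : Type*} (s : Finset κ) {f : κ → (M →ₗ[R] N)}
    {Φ : κ → (E.H a i →ₗ[R] F.H a i)} (h : ∀ j ∈ s, Ind a E F i d (f j) (Φ j)) :
    Ind a E F i d (∑ j ∈ s, f j) (∑ j ∈ s, Φ j) := by
  classical
  induction s using Finset.induction_on with
  | empty => simpa only [Finset.sum_empty] using Ind.zero
  | insert j s hj ih =>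
    rw [Finset.sum_insert hj, Finset.sum_insert hj]
    exact (h j (Finset.mem_insert_self j s)).add (ih fun l hl => h l (Finset.mem_insert_of_mem hl))

theorem Ind.smul {r : R} {e : ι} (hr : r ∈ 𝒜 e) {Φ : E.H a i →ₗ[R] F.H a i}
    (h : Ind a E F i d f Φ) : Ind a E F i (e + d) (r • f) (r • Φ) := by
  obtain ⟨c, rfl⟩ := h
  refine ⟨⟨fun n => r • c.φ n, fun n j x hx => ?_, fun m => ?_, fun n x => ?_⟩,
    LinearMap.ext fun x => ?_⟩
  · have := GrothGr.smul_mem (F.X n).gr 𝒜 hr (c.deg n j x hx)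
    rwa [add_left_comm] at this
  · rw [LinearMap.smul_apply, LinearMap.smul_apply, c.comm_ε, map_smul]
  · rw [LinearMap.smul_apply, LinearMap.smul_apply, c.comm, map_smul]
  · obtain ⟨z, rfl⟩ := Submodule.Quotient.mk_surjective _ x
    rfl

theorem Ind.comp {e : ι} {g : N →ₗ[R] P} {G : StarInjRes 𝒜 Pc} {Φ : E.H a i →ₗ[R] F.H a i}
    {Ψ : F.H a i →ₗ[R] G.H a i} (h' : Ind a F G i e g Ψ) (h : Ind a E F i d f Φ) :
    Ind a E G i (d + e) (g ∘ₗ f) (Ψ ∘ₗ Φ) := by
  obtain ⟨c, rfl⟩ := h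
  obtain ⟨c', rfl⟩ := h'
  refine ⟨⟨fun n => c'.φ n ∘ₗ c.φ n, fun n j x hx => ?_, fun m => ?_, fun n x => ?_⟩,
    LinearMap.ext fun x => ?_⟩
  · rw [← add_assoc]
    exact c'.deg n _ _ (c.deg n j x hx)
  · rw [LinearMap.comp_apply, c.comm_ε, c'.comm_ε]
    rfl
  · rw [LinearMap.comp_apply, c.comm, c'.comm]
    rfl
  · obtain ⟨z, rfl⟩ := Submodule.Quotient.mk_surjective _ x
    rfl

section Natural

variable (I : StarInjRes 𝒜 𝒜) (a i)

theorem isGrHomDeg_toSpanSingleton {g : ι} {m : M} (hm : m ∈ ℳ g) :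
    IsGrHomDeg 𝒜 ℳ (LinearMap.toSpanSingleton R M m) g :=
  fun _ _ hr => GrothGr.smul_mem ℳ 𝒜 hr hm

/-- The natural pairing with the cohomology of the ring. -/
theorem exists_natural (EM : StarInjRes 𝒜 ℳ) :
    ∃ Φ : M →ₗ[R] (I.H a i →ₗ[R] EM.H a i), ∀ g, ∀ m ∈ ℳ g,
      Ind a I EM i g (LinearMap.toSpanSingleton R M m) (Φ m) := by
  classical
  choose Φ₀ hΦ₀ using fun (g : ι) (m : ℳ g) =>
    exists_ind (E := I) (F := EM) (a := a) (i := i) (isGrHomDeg_toSpanSingleton (R := R) m.2)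
  let Ψ : ∀ g, ℳ g →+ (I.H a i →ₗ[R] EM.H a i) := fun g => AddMonoidHom.mk' (Φ₀ g) fun m m' =>
    (hΦ₀ g (m + m')).unique (((hΦ₀ g m).add (hΦ₀ g m')).congr (LinearMap.ext fun r => by
      show r • (m : M) + r • (m' : M) = r • ((m : M) + (m' : M))
      rw [smul_add]))
  let T : M →+ (I.H a i →ₗ[R] EM.H a i) :=
    (DirectSum.toAddMonoid Ψ).comp (decomposeAddEquiv ℳ).toAddMonoidHom
  have hT : ∀ g, ∀ m ∈ ℳ g, Ind a I EM i g (LinearMap.toSpanSingleton R M m) (T m) := fun g m hm => by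
    have : T m = Φ₀ g ⟨m, hm⟩ := by
      show DirectSum.toAddMonoid Ψ (decompose ℳ m) = _
      rw [decompose_of_mem ℳ hm, DirectSum.toAddMonoid_of]
      rfl
    rw [this]
    exact hΦ₀ g ⟨m, hm⟩
  have hsmul : ∀ (r : R) (m : M), T (r • m) = r • T m := fun r m => by
    induction r using DirectSum.Decomposition.inductionOn 𝒜 with
    | zero => rw [zero_smul, zero_smul, map_zero]
    | add r r' hr hr' => rw [add_smul, add_smul, map_add, hr, hr']
    | @homogeneous e r =>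
      induction m using DirectSum.Decomposition.inductionOn ℳ with
      | zero => rw [smul_zero, map_zero, smul_zero]
      | add m m' hm hm' => rw [smul_add, map_add, map_add, hm, hm', smul_add]
      | @homogeneous g m =>
        exact (hT (e + g) _ (GrothGr.smul_mem ℳ 𝒜 r.2 m.2)).unique
          (((hT g m m.2).smul r.2).congr (LinearMap.ext fun s => by
            show (r : R) • s • (m : M) = s • (r : R) • (m : M)
            rw [smul_comm]))
  exact ⟨{ T with map_smul' := hsmul }, hT⟩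

end Natural

section RightExact

variable [IsNoetherianRing R] {n : ℕ}

/-- Vanishing in the next degree for all finitely generated graded modules. -/
def Van (a : HomogeneousIdeal 𝒜) (n : ℕ) : Prop :=
  ∀ (W : GMod.{u} 𝒜) (E : StarInjRes 𝒜 W.gr), Module.Finite R W.carrier → Subsingleton (E.H a (n + 1))

variable {I : StarInjRes 𝒜 𝒜} {EM : StarInjRes 𝒜 ℳ} [Module.Finite R M]

/-- The cohomology of a module in top degree is spanned by the images of that of the ring. -/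
theorem eq_top_of_natural (hvan : Van a n) {Φ : M →ₗ[R] (I.H a n →ₗ[R] EM.H a n)}
    (hΦ : ∀ g, ∀ m ∈ ℳ g, Ind a I EM n g (LinearMap.toSpanSingleton R M m) (Φ m)) :
    ⨆ m, LinearMap.range (Φ m) = ⊤ := by
  classical
  obtain ⟨s, δ, π, hπ, hπs⟩ := exists_free_presentation 𝒜 ℳ
  have hK := isHomogeneous_ker hπ
  letI := (subPc_isInternal (freePc 𝒜 δ) hK).chooseDecomposition
  haveI := subPc_gradedSMul 𝒜 (freePc 𝒜 δ) (LinearMap.ker π)
  let EK := starRes 𝒜 (subPc (freePc 𝒜 δ) (LinearMap.ker π))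
  have hex : LinearMap.ker π = LinearMap.range (LinearMap.ker π).subtype :=
    (Submodule.range_subtype _).symm
  obtain ⟨Hs⟩ := nonempty_horse (ℬ := freePc 𝒜 δ) (LinearMap.ker π).subtype π EK EM
    (subtype_isGrHom _ _) Subtype.val_injective hπ hπs hex
  let EF := Hs.res hπ hex hπs
  have hsnd : Ind a EF EM n 0 π (Hs.sndH a hπ hex hπs n) :=
    ⟨⟨fun l => LinearMap.snd R (EK.X l).carrier (EM.X l).carrier,
      fun l j x hx => by rw [add_zero]; exact hx.2, fun m => rfl, fun l x => rfl⟩,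
      LinearMap.ext fun x => by
        obtain ⟨z, rfl⟩ := Submodule.Quotient.mk_surjective _ x
        rfl⟩
  obtain ⟨ΦF, hΦF⟩ := exists_natural a n I EF
  have hproj : ∀ j : Fin s,
      IsGrHomDeg (freePc 𝒜 δ) 𝒜 (LinearMap.proj j : (Fin s → R) →ₗ[R] R) (-δ j) :=
    fun j g v hv => by rw [← sub_eq_add_neg]; exact (mem_freePc 𝒜 δ g v).1 hv j
  choose pr hpr using fun j : Fin s => exists_ind (E := EF) (F := I) (a := a) (i := n) (hproj j)
  have he : ∀ j : Fin s, (Pi.single j (1 : R) : Fin s → R) ∈ freePc 𝒜 δ (δ j) := fun j =>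
    (mem_freePc 𝒜 δ _ _).2 fun l => by
      by_cases h : l = j
      · subst h; rw [Pi.single_eq_same, sub_self]; exact SetLike.one_mem_graded 𝒜
      · rw [Pi.single_eq_of_ne h]; exact zero_mem _
  have hid : (∑ j, ΦF (Pi.single j 1) ∘ₗ pr j) = LinearMap.id := by
    refine Ind.unique ((Ind.sum (f := fun j => LinearMap.toSpanSingleton R _ (Pi.single j (1 : R)) ∘ₗ
      (LinearMap.proj j : (Fin s → R) →ₗ[R] R)) (d := 0) Finset.univ fun j _ => ?_).congr ?_) Ind.id
    · have := (hΦF (δ j) _ (he j)).comp (hpr j)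
      rwa [neg_add_cancel] at this
    · refine LinearMap.ext fun v => ?_
      rw [LinearMap.sum_apply]
      refine (Finset.sum_congr rfl fun j _ => ?_).trans (Finset.univ_sum_single v)
      show v j • (Pi.single j (1 : R) : Fin s → R) = Pi.single j (v j)
      rw [← Pi.single_smul, smul_eq_mul, mul_one]
  have hM : ∀ j, Φ (π (Pi.single j 1)) = Hs.sndH a hπ hex hπs n ∘ₗ ΦF (Pi.single j 1) := fun j =>
    (hΦ (δ j) _ (hπ _ _ (he j))).unique (by
      have := (hsnd.comp (hΦF (δ j) _ (he j))).congr (g := LinearMap.toSpanSingleton R M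
        (π (Pi.single j 1))) (LinearMap.comp_toSpanSingleton π _)
      rwa [add_zero] at this)
  refine eq_top_iff.2 fun x _ => ?_
  haveI : IsNoetherian R (Fin s → R) := inferInstance
  haveI : Subsingleton (EK.H a (n + 1)) := hvan (GMod.of 𝒜 _ (subPc (freePc 𝒜 δ) (LinearMap.ker π)))
    EK (inferInstanceAs (Module.Finite R (LinearMap.ker π)))
  obtain ⟨y, rfl⟩ := (Hs.exact_snd_δ a hπ hex hπs n x).1 (Subsingleton.elim _ _)
  rw [← LinearMap.id_apply (R := R) y, ← hid, LinearMap.sum_apply, map_sum]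
  refine Submodule.sum_mem _ fun j _ => Submodule.mem_iSup_of_mem (π (Pi.single j 1)) ?_
  exact ⟨pr j y, LinearMap.congr_fun (hM j) (pr j y)⟩

/-- A balanced pairing descends to the cohomology of the module in top degree. -/
theorem exists_descend (hvan : Van a n) {Φ : M →ₗ[R] (I.H a n →ₗ[R] EM.H a n)}
    (hΦ : ∀ g, ∀ m ∈ ℳ g, Ind a I EM n g (LinearMap.toSpanSingleton R M m) (Φ m))
    {V : Type*} [AddCommGroup V] (B : M →+ I.H a n →+ V)
    (hB : ∀ (r : R) (m : M) (ξ : I.H a n), B (r • m) ξ = B m (r • ξ)) :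
    ∃ L : EM.H a n →+ V, ∀ m ξ, L (Φ m ξ) = B m ξ := by
  classical
  obtain ⟨s, δ, π, hπ, hπs⟩ := exists_free_presentation 𝒜 ℳ
  have hK := isHomogeneous_ker hπ
  letI := (subPc_isInternal (freePc 𝒜 δ) hK).chooseDecomposition
  haveI := subPc_gradedSMul 𝒜 (freePc 𝒜 δ) (LinearMap.ker π)
  let EK := starRes 𝒜 (subPc (freePc 𝒜 δ) (LinearMap.ker π))
  have hex : LinearMap.ker π = LinearMap.range (LinearMap.ker π).subtype :=
    (Submodule.range_subtype _).symm
  obtain ⟨Hs⟩ := nonempty_horse (ℬ := freePc 𝒜 δ) (LinearMap.ker π).subtype π EK EM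
    (subtype_isGrHom _ _) Subtype.val_injective hπ hπs hex
  let EF := Hs.res hπ hex hπs
  have hsnd : Ind a EF EM n 0 π (Hs.sndH a hπ hex hπs n) :=
    ⟨⟨fun l => LinearMap.snd R (EK.X l).carrier (EM.X l).carrier,
      fun l j x hx => by rw [add_zero]; exact hx.2, fun m => rfl, fun l x => rfl⟩,
      LinearMap.ext fun x => by
        obtain ⟨z, rfl⟩ := Submodule.Quotient.mk_surjective _ x
        rfl⟩
  have hinl : Ind a EK EF n 0 (LinearMap.ker π).subtype (Hs.inlH a hπ hex hπs n) :=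
    ⟨⟨fun l => LinearMap.inl R (EK.X l).carrier (EM.X l).carrier,
      fun l j x hx => ⟨by rw [add_zero]; exact hx, zero_mem _⟩,
      fun m => Prod.ext (Hs.u_comp m).symm (by
        show 0 = EM.ε (π (m : Fin s → R))
        rw [show π (m : Fin s → R) = 0 from m.2, map_zero]),
      fun l x => Prod.ext (by
        show EK.d l x = EK.d l x + Hs.τ l 0
        rw [map_zero, add_zero]) (map_zero (EM.d l)).symm⟩,
      LinearMap.ext fun x => by
        obtain ⟨z, rfl⟩ := Submodule.Quotient.mk_surjective _ x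
        rfl⟩
  obtain ⟨ΦF, hΦF⟩ := exists_natural a n I EF
  obtain ⟨ΦK, hΦK⟩ := exists_natural a n I EK
  have hproj : ∀ j : Fin s,
      IsGrHomDeg (freePc 𝒜 δ) 𝒜 (LinearMap.proj j : (Fin s → R) →ₗ[R] R) (-δ j) :=
    fun j g v hv => by rw [← sub_eq_add_neg]; exact (mem_freePc 𝒜 δ g v).1 hv j
  choose pr hpr using fun j : Fin s => exists_ind (E := EF) (F := I) (a := a) (i := n) (hproj j)
  -- components of the image of an element
  have hcomp : ∀ (j : Fin s) (v : Fin s → R) (ξ : I.H a n), pr j (ΦF v ξ) = v j • ξ := by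
    intro j v ξ
    induction v using DirectSum.Decomposition.inductionOn (freePc 𝒜 δ) with
    | zero => rw [map_zero, LinearMap.zero_apply, map_zero]; exact (zero_smul R ξ).symm
    | add v w hv hw => rw [map_add, LinearMap.add_apply, map_add, hv, hw]; exact (add_smul _ _ ξ).symm
    | @homogeneous g v =>
      have h1 := (hpr j).comp (hΦF g v v.2)
      have hr : (v : Fin s → R) j ∈ 𝒜 (g + -δ j) := by
        rw [← sub_eq_add_neg]; exact (mem_freePc 𝒜 δ g _).1 v.2 j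
      have h2 := (Ind.smul hr (Ind.id (E := I) (a := a) (i := n))).congr
        (g := (LinearMap.proj j : (Fin s → R) →ₗ[R] R) ∘ₗ LinearMap.toSpanSingleton R _ (v : Fin s → R))
        (LinearMap.ext fun t => mul_comm _ t)
      rw [add_zero] at h2
      exact LinearMap.congr_fun (h1.unique h2) ξ
  let L₀ : EF.H a n →+ V := ∑ j, (B (π (Pi.single j 1))).comp (pr j).toAddMonoidHom
  have hL₀ : ∀ (v : Fin s → R) (ξ : I.H a n), L₀ (ΦF v ξ) = B (π v) ξ := by
    intro v ξ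
    show (∑ j, (B (π (Pi.single j 1))).comp (pr j).toAddMonoidHom) (ΦF v ξ) = _
    rw [AddMonoidHom.finsetSum_apply]
    conv_rhs => rw [← Finset.univ_sum_single v, map_sum, map_sum, AddMonoidHom.finsetSum_apply]
    refine Finset.sum_congr rfl fun j _ => ?_
    show B (π (Pi.single j 1)) (pr j (ΦF v ξ)) = B (π (Pi.single j (v j))) ξ
    rw [hcomp, ← hB, ← map_smul, ← Pi.single_smul, smul_eq_mul, mul_one]
  haveI : IsNoetherian R (Fin s → R) := inferInstance
  haveI : Subsingleton (EK.H a (n + 1)) := hvan (GMod.of 𝒜 _ (subPc (freePc 𝒜 δ) (LinearMap.ker π)))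
    EK (inferInstanceAs (Module.Finite R (LinearMap.ker π)))
  haveI : Module.Finite R (LinearMap.ker π) := inferInstance
  have hsurj : Function.Surjective (Hs.sndH a hπ hex hπs n) := fun x =>
    (Hs.exact_snd_δ a hπ hex hπs n x).1 (Subsingleton.elim _ _)
  have hker : ∀ y, Hs.sndH a hπ hex hπs n y = 0 → L₀ y = 0 := by
    intro y hy
    obtain ⟨w, rfl⟩ := (Hs.exact_inl_snd a hπ hex hπs n y).1 hy
    clear hy
    have hw : w ∈ ⨆ x, LinearMap.range (ΦK x) :=
      (eq_top_of_natural hvan hΦK).ge Submodule.mem_top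
    induction hw using Submodule.iSup_induction' with
    | mem x w hw =>
      obtain ⟨ξ, rfl⟩ := hw
      have : ∀ ξ, Hs.inlH a hπ hex hπs n (ΦK x ξ) = ΦF (x : Fin s → R) ξ := fun ξ => by
        induction x using DirectSum.Decomposition.inductionOn (subPc (freePc 𝒜 δ) (LinearMap.ker π)) with
        | zero => rw [map_zero, LinearMap.zero_apply, map_zero, ZeroMemClass.coe_zero, map_zero,
            LinearMap.zero_apply]
        | add x x' hx hx' => rw [map_add, LinearMap.add_apply, map_add, hx, hx', Submodule.coe_add,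
            map_add, LinearMap.add_apply]
        | @homogeneous g x =>
          suffices h : Hs.inlH a hπ hex hπs n ∘ₗ ΦK (x : LinearMap.ker π) =
              ΦF ((x : LinearMap.ker π) : Fin s → R) from LinearMap.congr_fun h ξ
          refine ((hΦF g _ x.2).unique ?_).symm
          have := (hinl.comp (hΦK g x x.2)).congr
            (g := LinearMap.toSpanSingleton R (Fin s → R) ((x : LinearMap.ker π) : Fin s → R))
            (LinearMap.comp_toSpanSingleton _ _)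
          rwa [add_zero] at this
      rw [this, hL₀, show π (x : Fin s → R) = 0 from x.2, map_zero, AddMonoidHom.zero_apply]
    | zero => rw [map_zero, map_zero]
    | add w w' _ _ hw hw' => rw [map_add, map_add, hw, hw', add_zero]
  let sn := (Hs.sndH a hπ hex hπs n).toAddMonoidHom
  let L : EM.H a n →+ V := sn.liftOfSurjective hsurj ⟨L₀, fun y hy => hker y hy⟩
  have hL : ∀ y, L (Hs.sndH a hπ hex hπs n y) = L₀ y := fun y =>
    AddMonoidHom.liftOfRightInverse_comp_apply sn _ (Function.rightInverse_surjInv hsurj) ⟨L₀, _⟩ y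
  refine ⟨L, fun m ξ => ?_⟩
  obtain ⟨v, rfl⟩ := hπs m
  have : Φ (π v) ξ = Hs.sndH a hπ hex hπs n (ΦF v ξ) := by
    induction v using DirectSum.Decomposition.inductionOn (freePc 𝒜 δ) with
    | zero => simp only [map_zero, LinearMap.zero_apply]
    | add v w hv hw => simp only [map_add, LinearMap.add_apply, hv, hw]
    | @homogeneous g v =>
      suffices h : Φ (π (v : Fin s → R)) = Hs.sndH a hπ hex hπs n ∘ₗ ΦF (v : Fin s → R) from
        LinearMap.congr_fun h ξ
      refine (hΦ g _ (hπ g _ v.2)).unique ?_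
      have := (hsnd.comp (hΦF g v v.2)).congr
        (g := LinearMap.toSpanSingleton R M (π (v : Fin s → R))) (LinearMap.comp_toSpanSingleton _ _)
      rwa [add_zero] at this
  rw [this, hL, hL₀]

end RightExact

end Groth.Misc15.MapH
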