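import Mathlib
import Groth.Agent.Misc15.SegLC.GorBase
import Groth.Agent.Misc15.SegLC.SegModCM
import Groth.Agent.GrMod.Polynomial
import Groth.Agent.GrMod.LES

/-!
Segre products of shifted polynomial rings.
-/

set_option autoImplicit false

universe u

open DirectSum GrLC MvPolynomial
open scoped TensorProduct

attribute [local instance] MvPolynomial.weightedGradedAlgebra

namespace Groth.Misc15.PolySeg

section Shift

variable {k : Type u} [Field k] {R : Type u} [CommRing R] [Algebra k R]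
  {𝒜 : ℤ → Submodule k R} [GradedAlgebra 𝒜]

theorem isStarInj_shiftPc (X : GMod.{u} 𝒜) (g : ℤ) (hX : IsStarInj 𝒜 X.gr) :
    IsStarInj 𝒜 (GMod.of 𝒜 X.carrier (GrothGr.shiftPc X.gr g)).gr := by
  intro A B f hf hfi φ hφ
  obtain ⟨h, hh, he⟩ := hX (GMod.of 𝒜 A.carrier (GrothGr.shiftPc A.gr (-g)))
    (GMod.of 𝒜 B.carrier (GrothGr.shiftPc B.gr (-g))) f (fun j x hx => hf _ x hx) hfi φ
    (fun j x hx => by
      have h := hφ (j - -g) x hx
      have h' : φ x ∈ X.gr (j - -g - g) := h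
      rwa [sub_neg_eq_add, add_sub_cancel_right] at h')
  refine ⟨h, fun j x hx => ?_, he⟩
  exact hh (j - g) x (by
    show x ∈ B.gr (j - g - -g)
    rwa [sub_neg_eq_add, sub_add_cancel])

/-- The shift of a resolution of the ring. -/
noncomputable def shiftRes (I : StarInjRes 𝒜 𝒜) (a : ℤ)
    [DirectSum.Decomposition (GorSeg.shift 𝒜 a)] [SetLike.GradedSMul 𝒜 (GorSeg.shift 𝒜 a)] :
    StarInjRes 𝒜 (GorSeg.shift 𝒜 a) where
  X n := GMod.of 𝒜 (I.X n).carrier (GrothGr.shiftPc (I.X n).gr (-a))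
  d := I.d
  ε := I.ε
  d_grHom n j x hx := I.d_grHom n _ x hx
  ε_grHom j x hx := I.ε_grHom _ x hx
  ε_injective := I.ε_injective
  exact_zero := I.exact_zero
  exact_succ := I.exact_succ
  starInj n := isStarInj_shiftPc (I.X n) (-a) (I.starInj n)

theorem hgr_shiftRes (I : StarInjRes 𝒜 𝒜) (a : ℤ) (m : HomogeneousIdeal 𝒜)
    [DirectSum.Decomposition (GorSeg.shift 𝒜 a)] [SetLike.GradedSMul 𝒜 (GorSeg.shift 𝒜 a)]
    (i : ℕ) (d : ℤ) : (shiftRes I a).Hgr m i d = ⊥ ↔ I.Hgr m i (d + a) = ⊥ := by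
  rw [← sub_neg_eq_add]
  exact ⟨fun h => (AddSubgroup.eq_bot_iff_forall _).2 fun x hx =>
      (AddSubgroup.eq_bot_iff_forall _).1 h x hx,
    fun h => (AddSubgroup.eq_bot_iff_forall _).2 fun x hx =>
      (AddSubgroup.eq_bot_iff_forall _).1 h x hx⟩

end Shift

variable (k : Type u) [Field k] (r : ℕ)

/-- The standard grading. -/
noncomputable abbrev gr : ℤ → Submodule k (MvPolynomial (Fin r) k) :=
  weightedHomogeneousSubmodule k (fun _ : Fin r => (1 : ℤ))

theorem gr_pos : ∀ n : ℤ, n < 0 → gr k r n = ⊥ := fun n hn =>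
  (Submodule.eq_bot_iff _).2 fun x hx => (AddSubgroup.eq_bot_iff_forall _).1
    (GrothGr.agr_weighted_neg k r (fun _ => (1 : ℤ)) (fun _ => one_pos) hn) x hx

theorem gr_zero : gr k r 0 = Submodule.span k {(1 : MvPolynomial (Fin r) k)} := by
  refine le_antisymm (fun p hp => Submodule.mem_span_singleton.2 ⟨coeff 0 p, ?_⟩)
    ((Submodule.span_singleton_le_iff_mem _ _).2 (SetLike.one_mem_graded (gr k r)))
  ext d
  rw [coeff_smul, coeff_one]
  rcases eq_or_ne d 0 with rfl | hd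
  · simp
  · rw [if_neg (Ne.symm hd), smul_zero]
    by_contra hne
    exact hd (GrothGr.eq_zero_of_weight_eq_zero r (fun _ => (1 : ℤ)) (fun _ => one_pos)
      ((mem_weightedHomogeneousSubmodule k (fun _ : Fin r => (1 : ℤ)) 0 p).1 hp (Ne.symm hne)))

theorem gr_ne_bot (h1r : 1 ≤ r) {n : ℤ} (hn : 0 ≤ n) : gr k r n ≠ ⊥ := by
  intro h
  have hX : (X (⟨0, h1r⟩ : Fin r) : MvPolynomial (Fin r) k) ∈ gr k r 1 :=
    (mem_weightedHomogeneousSubmodule k _ _ _).2 (isWeightedHomogeneous_X k _ _)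
  have hp := SetLike.pow_mem_graded (A := gr k r) n.toNat hX
  rw [nsmul_eq_mul, mul_one, Int.toNat_of_nonneg hn, h, Submodule.mem_bot] at hp
  exact pow_ne_zero _ (X_ne_zero _) hp

theorem dim_eq : ringKrullDim (MvPolynomial (Fin r) k) = r := by
  rw [MvPolynomial.ringKrullDim_of_isNoetherianRing, ringKrullDim_eq_zero_of_field, zero_add,
    Nat.card_eq_fintype_card, Fintype.card_fin]

theorem cmAll : SegLC.CMAll (MvPolynomial (Fin r) k) (MvPolynomial (Fin r) k) := by
  have hpos := gr_pos k r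
  have h0 := gr_zero k r
  have hm := SegLC.posIdeal_eq (gr k r)
  haveI := GrothGr.isCohenMacaulayRing_mvPolynomial k r
  have hl := GorSeg.isStarLocal hpos h0 hm
  haveI := GorSeg.isMaximal hpos h0 hm
  haveI : SetLike.GradedSMul (gr k r) (GrothGr.agr (gr k r)) :=
    GrothGr.gradedSMul_of_agr (gr k r) (GrothGr.agr (gr k r))
  refine (SegLC.cmAll_iff hpos h0 (SegLC.clsI (SegLC.posIdeal (gr k r)))
    (GrRegSeq.toIdeal_eq_irr (gr k r) hpos hm) (GrothGr.agr (gr k r))
    ((Module.supportDim_self_eq_ringKrullDim _).trans (dim_eq k r))).2 fun i hi => ?_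
  obtain ⟨e⟩ := GrothGr.nonempty_H_equiv (GrothGr.agr (gr k r)) (GrothGr.agr (gr k r))
    (GrothGr.hagr (gr k r) (SegLC.posIdeal (gr k r)))
    (GrothGr.starRes (GrothGr.agr (gr k r)) (GrothGr.agr (gr k r))) i
  haveI := GrothGr.subsingleton_H_self_of_lt hl (dim_eq k r)
    (GrothGr.starRes (GrothGr.agr (gr k r)) (GrothGr.agr (gr k r))) hi
  exact e.symm.toEquiv.subsingleton

/-- Star-locality for gradings by subspaces. -/
theorem isStarLocal_back {k : Type u} [Field k] {R : Type u} [CommRing R] [Algebra k R]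
    {𝒜 : ℤ → Submodule k R} [GradedAlgebra 𝒜] {m : HomogeneousIdeal 𝒜}
    (h : IsStarLocal (GrothGr.agr 𝒜) (GrothGr.hagr 𝒜 m)) : IsStarLocal 𝒜 m := by
  let back : HomogeneousIdeal (GrothGr.agr 𝒜) → HomogeneousIdeal 𝒜 := fun J =>
    ⟨J.toIdeal, (GrothGr.isHomogeneous_agr_iff 𝒜 _).1 J.isHomogeneous⟩
  have hco : ∀ J : HomogeneousIdeal 𝒜, IsCoatom J ↔ IsCoatom (GrothGr.hagr 𝒜 J) := by
    refine fun J => ⟨fun h => ⟨fun ht => h.1 (HomogeneousIdeal.toIdeal_injective
      (congrArg HomogeneousIdeal.toIdeal ht :)), fun K hK => ?_⟩, fun h => ⟨fun ht => h.1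
      (HomogeneousIdeal.toIdeal_injective (congrArg HomogeneousIdeal.toIdeal ht :)), fun K hK => ?_⟩⟩
    · have h2 := h.2 (back K) (lt_of_le_of_ne (show J.toIdeal ≤ K.toIdeal from hK.le)
        fun he => hK.ne (HomogeneousIdeal.toIdeal_injective (congrArg HomogeneousIdeal.toIdeal he :)))
      exact HomogeneousIdeal.toIdeal_injective (congrArg HomogeneousIdeal.toIdeal h2 :)
    · have h2 := h.2 (GrothGr.hagr 𝒜 K) (lt_of_le_of_ne (show J.toIdeal ≤ K.toIdeal from hK.le)
        fun he => hK.ne (HomogeneousIdeal.toIdeal_injective (congrArg HomogeneousIdeal.toIdeal he :)))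
      exact HomogeneousIdeal.toIdeal_injective (congrArg HomogeneousIdeal.toIdeal h2 :)
  exact ⟨(hco m).2 h.1, fun J hJ => HomogeneousIdeal.toIdeal_injective
    (congrArg HomogeneousIdeal.toIdeal (h.2 _ ((hco J).1 hJ)) :)⟩

/-- The top local cohomology of a polynomial ring lives in degrees at most `-r`. -/
theorem top_iff (h1r : 1 ≤ r) (I : StarInjRes (gr k r) (gr k r)) (d : ℤ) :
    I.Hgr (SegLC.posIdeal (gr k r)) r d = ⊥ ↔ -(r : ℤ) < d := by
  classical
  set 𝒜 := gr k r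
  set m := SegLC.posIdeal 𝒜
  have hpos := gr_pos k r
  have h0 := gr_zero k r
  have hm := SegLC.posIdeal_eq 𝒜
  haveI : IsNoetherianRing (MvPolynomial (Fin r) k) :=
    Algebra.FiniteType.isNoetherianRing k (MvPolynomial (Fin r) k)
  obtain ⟨E, _, _, 𝓔, _, _, e, he⟩ := GorSeg.exists_hull m
  obtain ⟨C, _, _, _, _, 𝒞, _, _, hC⟩ := CanExists.exists_canonical hpos h0 hm I r he
  obtain ⟨f, hf, hfd⟩ := GrothGr.exists_canonical_polynomial k r (fun _ => (1 : ℤ)) (fun _ => one_pos)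
    m (isStarLocal_back (GorSeg.isStarLocal hpos h0 hm)) hm I he hC
  have hsum : (Finset.univ : Finset (Fin r)).sum (fun _ => (1 : ℤ)) = r := by simp
  rw [hsum] at hfd
  haveI : Module.Finite (MvPolynomial (Fin r) k) C := hC.1
  haveI : IsNoetherian (MvPolynomial (Fin r) k) C := isNoetherian_of_isNoetherianRing_of_finite _ C
  letI : Module k E := Module.compHom E (algebraMap k (MvPolynomial (Fin r) k))
  haveI : IsScalarTower k (MvPolynomial (Fin r) k) E :=
    IsScalarTower.of_algebraMap_smul fun _ _ => rfl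
  letI : Module k (I.H m r) := Module.compHom (I.H m r) (algebraMap k (MvPolynomial (Fin r) k))
  haveI : IsScalarTower k (MvPolynomial (Fin r) k) (I.H m r) :=
    IsScalarTower.of_algebraMap_smul fun _ _ => rfl
  obtain ⟨⟨dH⟩, gH⟩ := CanSegre.exists_hgr I m r
  letI := dH; haveI := gH
  obtain ⟨β, hβ⟩ := CanDual.exists_gdual hpos h0 hm he (LinearEquiv.refl _ (I.H m r))
    (ℋ := I.Hgr m r) (fun _ _ => Iff.rfl) hC
  have hd : -d = (-d - r) + r := by ring
  haveI := Groth.GrDualH.finiteDimensional_piece (M := C) (ℳ := 𝒞) (𝒜 := 𝒜) h0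
    (Or.inl inferInstance) (-d)
  obtain ⟨hfH, h2⟩ := CanSegre.finrank_gdual (𝒜 := 𝒜) hβ (-d)
  rw [neg_neg] at h2 hfH
  haveI := hfH
  have hHbot : I.Hgr m r d = ⊥ ↔ Groth.GrDualH.piece 𝒜 (I.Hgr m r) d = ⊥ :=
    ⟨fun h => (Submodule.eq_bot_iff _).2 ((AddSubgroup.eq_bot_iff_forall _).1 h),
      fun h => (AddSubgroup.eq_bot_iff_forall _).2 fun x hx =>
        (Submodule.eq_bot_iff (Groth.GrDualH.piece 𝒜 (I.Hgr m r) d)).1 h x hx⟩
  rw [hHbot, ← Submodule.finrank_eq_zero, ← h2, Submodule.finrank_eq_zero]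
  constructor
  · intro hC0
    by_contra hle
    obtain ⟨x, hx, hx0⟩ := (Submodule.ne_bot_iff _).1 (gr_ne_bot k r h1r (n := -d - r) (by omega))
    have h3 : f x ∈ 𝒞 (-d - r + r) := hfd _ x hx
    rw [← hd] at h3
    exact hx0 (hf.1 (((Submodule.eq_bot_iff _).1 hC0 (f x) h3).trans (map_zero f).symm))
  · intro hlt
    refine (Submodule.eq_bot_iff _).2 fun y hy => ?_
    obtain ⟨t, rfl⟩ := hf.2 y
    have key : Groth.GrDualH.proj 𝒞 (-d) (f t) = 0 := by
      clear hy
      induction t using DirectSum.Decomposition.inductionOn 𝒜 with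
      | zero => simp
      | add u v hu hv => simp only [map_add, hu, hv, add_zero]
      | @homogeneous i u =>
        by_cases hi : i = -d - r
        · rw [(Submodule.eq_bot_iff _).1 (hpos i (by omega)) u u.2, map_zero, map_zero]
        · exact Groth.GrDualH.proj_of_mem_ne (hfd i u u.2) (by omega)
    exact (Groth.GrDualH.proj_of_mem (ℳ := 𝒞) hy).symm.trans key

end Groth.Misc15.PolySeg
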