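import Mathlib
import Groth.Agent.Misc15.SegLC.PolySeg
import Groth.Agent.Misc15.SegLC.GorSegre

/-!
Cohen–Macaulayness and depth of Segre products of shifted polynomial rings.
-/

set_option autoImplicit false

universe u

open DirectSum GrLC MvPolynomial
open scoped TensorProduct
open scoped Groth.Misc15.SegLC

attribute [local instance] MvPolynomial.weightedGradedAlgebra

namespace Groth.Misc15.PolySeg

variable (k : Type u) [Field k] (r : ℕ)

theorem shift_eq_bot (h1r : 1 ≤ r) (a d : ℤ) :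
    GorSeg.shift (gr k r) a d = ⊥ ↔ d + a < 0 := by
  constructor
  · intro h
    by_contra hd
    obtain ⟨x, hx, hx0⟩ := (Submodule.ne_bot_iff _).1 (gr_ne_bot k r h1r (n := d + a) (by omega))
    exact hx0 ((AddSubgroup.eq_bot_iff_forall _).1 h x (GorSeg.mem_shift.2 hx))
  · exact fun h => (AddSubgroup.eq_bot_iff_forall _).2 fun x hx =>
      (Submodule.eq_bot_iff _).1 (gr_pos k r _ h) x (GorSeg.mem_shift.1 hx)

theorem finite_gr (n : ℤ) : FiniteDimensional k (gr k r n) := by
  haveI : IsNoetherianRing (MvPolynomial (Fin r) k) :=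
    Algebra.FiniteType.isNoetherianRing k (MvPolynomial (Fin r) k)
  have h := Groth.GrDualH.finiteDimensional_piece (M := MvPolynomial (Fin r) k) (ℳ := gr k r)
    (𝒜 := gr k r) (gr_zero k r) (Or.inl inferInstance) n
  rwa [show Groth.GrDualH.piece (gr k r) (gr k r) n = gr k r n from Submodule.ext fun _ => Iff.rfl] at h

theorem shift_piece_eq_bot (h1r : 1 ≤ r) (a d : ℤ)
    [DirectSum.Decomposition (GorSeg.shift (gr k r) a)]
    [SetLike.GradedSMul (gr k r) (GorSeg.shift (gr k r) a)] :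
    Module.finrank k (Groth.GrDualH.piece (gr k r) (GorSeg.shift (gr k r) a) d) = 0 ↔ d + a < 0 := by
  haveI := finite_gr k r (d + a)
  rw [GorSeg.finrank_piece_shift, Submodule.finrank_eq_zero]
  exact ⟨fun h => not_le.1 fun hd => gr_ne_bot k r h1r hd h, gr_pos k r _⟩

/-- Facts about a shifted polynomial ring. -/
theorem exists_res (h1r : 1 ≤ r) (a : ℤ) [DirectSum.Decomposition (GorSeg.shift (gr k r) a)]
    [SetLike.GradedSMul (gr k r) (GorSeg.shift (gr k r) a)] :
    ∃ E : StarInjRes (gr k r) (GorSeg.shift (gr k r) a),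
      (∀ i, i ≠ r → ∀ d, SegLC.hPiece E (SegLC.posIdeal (gr k r)) i d = ⊥) ∧
      ∀ d, SegLC.hPiece E (SegLC.posIdeal (gr k r)) r d = ⊥ ↔ -(r : ℤ) < d + a := by
  let E := shiftRes (SegLC.someRes (𝒜 := gr k r)) a
  refine ⟨E, fun i hi d => ?_, fun d => ?_⟩
  · exact SegLC.hPiece_mod_eq_bot (gr_pos k r) (gr_zero k r) (SegLC.posIdeal_eq (gr k r)) E
      ((Module.supportDim_self_eq_ringKrullDim _).trans (dim_eq k r)) (cmAll k r) hi d
  · have h := (hgr_shiftRes (SegLC.someRes (𝒜 := gr k r)) a (SegLC.posIdeal (gr k r)) r d).trans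
      (top_iff k r h1r (SegLC.someRes (𝒜 := gr k r)) (d + a))
    refine Iff.trans ⟨fun h => ?_, fun h => ?_⟩ h
    · exact (AddSubgroup.eq_bot_iff_forall _).2 ((Submodule.eq_bot_iff (SegLC.hPiece E _ r d)).1 h)
    · exact (Submodule.eq_bot_iff _).2 ((AddSubgroup.eq_bot_iff_forall _).1 h)

section Main

variable (s : ℕ) {T : Type u} [CommRing T] [Algebra k T] {𝒯 : ℤ → Submodule k T} [GradedAlgebra 𝒯]
  {ψ : T →ₐ[k] MvPolynomial (Fin r) k ⊗[k] MvPolynomial (Fin s) k}
  (hT : GrSeg.IsSegreRing (gr k r) (gr k s) 𝒯 ψ) {mT : HomogeneousIdeal 𝒯}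
  (hmT : mT.toIdeal = Ideal.span (⋃ n ∈ Set.Ioi (0 : ℤ), (𝒯 n : Set T)))
  {a b : ℤ} {P : Type u} [AddCommGroup P] [Module T P] [Module k P] [IsScalarTower k T P]
  {𝒬 : ℤ → AddSubgroup P} [DirectSum.Decomposition 𝒬]
  {φ : P →ₗ[k] MvPolynomial (Fin r) k ⊗[k] MvPolynomial (Fin s) k}
  (hP : GrSeg.IsSegreMod ψ (GorSeg.shift (gr k r) a) (GorSeg.shift (gr k s) b) 𝒬 φ)
  (h1r : 1 ≤ r) (h2s : 2 ≤ s)

include hT hP h1r h2s in
/-- The Cohen–Macaulay criterion. -/
theorem cm_iff : SegLC.CMAll T P ↔ (a - b < (s : ℤ) ∨ r = 1) ∧ -(r : ℤ) < a - b := by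
  haveI := GorSeg.gradedSMul_shift (𝒜 := gr k r) a
  haveI := GorSeg.gradedSMul_shift (𝒜 := gr k s) b
  obtain ⟨EM, hM0, hMtop⟩ := exists_res k r h1r a
  obtain ⟨EN, hN0, hNtop⟩ := exists_res k s (by omega) b
  have hrd := (Module.supportDim_self_eq_ringKrullDim (MvPolynomial (Fin r) k)).trans (dim_eq k r)
  have hsd := (Module.supportDim_self_eq_ringKrullDim (MvPolynomial (Fin s) k)).trans (dim_eq k s)
  haveI : Nontrivial P := by
    obtain ⟨x, hx, hx0⟩ := (Submodule.ne_bot_iff _).1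
      (gr_ne_bot k r h1r (n := max 0 (a - b)) (le_max_left _ _))
    obtain ⟨y, hy, hy0⟩ := (Submodule.ne_bot_iff _).1
      (gr_ne_bot k s (by omega) (n := max 0 (a - b) - a + b) (by omega))
    have hne : x ⊗ₜ[k] y ≠ 0 := fun h => by
      obtain ⟨f, hf⟩ := Module.Projective.exists_dual_ne_zero k hx0
      have h2 := congrArg (fun z => TensorProduct.lid k _ (TensorProduct.map f LinearMap.id z)) h
      simp only [TensorProduct.map_tmul, TensorProduct.lid_tmul, LinearMap.id_apply, map_zero] at h2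
      exact hy0 ((smul_eq_zero.1 h2).resolve_left hf)
    obtain ⟨p, -, hp⟩ : x ⊗ₜ[k] y ∈ φ '' (𝒬 (max 0 (a - b) - a) : Set P) := by
      rw [hP.image_piece]
      exact Submodule.subset_span
        ⟨x, GorSeg.mem_shift.2 (by rwa [sub_add_cancel]), y, GorSeg.mem_shift.2 hy, rfl⟩
    exact ⟨⟨p, 0, fun h => hne (by rw [← hp, h, map_zero])⟩⟩
  rw [(SegLC.segre_main (gr_pos k r) (gr_zero k r) (SegLC.posIdeal_eq _) (gr_pos k s) (gr_zero k s)
    (SegLC.posIdeal_eq _) hT EM EN hP hrd hsd h1r (by omega) (cmAll k r) (cmAll k s)).2]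
  simp only [hMtop, hNtop, shift_eq_bot k r h1r, shift_eq_bot k s (show 1 ≤ s by omega)]
  constructor
  · rintro ⟨h1, -, h3⟩
    rcases Nat.lt_or_ge r 2 with hr | hr
    · refine ⟨Or.inr (by omega), ?_⟩
      have := h1 h2s (-b)
      omega
    · refine ⟨Or.inl ?_, ?_⟩
      · have := (h3 hr h2s (-a)).1
        omega
      · have := (h3 hr h2s (-b)).2
        omega
  · rintro ⟨h1, h2⟩
    exact ⟨fun _ d => by omega, fun _ d => by omega, fun _ _ d => by constructor <;> omega⟩

include hT hP h1r h2s hmT in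
/-- The depth in the two non Cohen–Macaulay ranges. -/
theorem depth_eq : (a - b ≤ -(r : ℤ) → LocCoh.idealDepth mT.toIdeal P = (r : ℕ∞)) ∧
    (2 ≤ r → (s : ℤ) ≤ a - b → LocCoh.idealDepth mT.toIdeal P = (s : ℕ∞)) := by
  haveI := GorSeg.gradedSMul_shift (𝒜 := gr k r) a
  haveI := GorSeg.gradedSMul_shift (𝒜 := gr k s) b
  obtain ⟨EM, hM0, hMtop⟩ := exists_res k r h1r a
  obtain ⟨EN, hN0, hNtop⟩ := exists_res k s (by omega) b
  haveI : Nontrivial T := SegLC.nontrivial_segre ψ
  haveI : SetLike.GradedSMul 𝒯 𝒬 := SegLC.gradedSMul_segre (𝒜 := gr k r) (ℬ := gr k s) hT hP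
  haveI := SegreCMOne.finiteType (gr k r) (gr k s) 𝒯 ψ hT.1 hT.2 (gr_pos k r) (gr_zero k r)
    (gr_pos k s) (gr_zero k s)
  haveI : IsNoetherianRing T := Algebra.FiniteType.isNoetherianRing k T
  haveI := SegLC.isNoetherian_segre hT hP
  haveI : Module.Finite T P := Module.IsNoetherian.finite T P
  let EP : StarInjRes 𝒯 𝒬 := SegLC.someResMod 𝒬
  have hd := fun d => SegLC.segre_dims (mT := mT) hT hP (gr_pos k r) (gr_zero k r) (gr_pos k s)
    (gr_zero k s) (SegLC.posIdeal_eq _) (SegLC.posIdeal_eq _) hmT EM EN EP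
    (fun d => hM0 0 (by omega) d) (fun d => hN0 0 (by omega) d) d
  have haT := GrRegSeq.toIdeal_eq_irr 𝒯
    (SegreDimOne.t_pos (gr k r) (gr k s) 𝒯 ψ hT.1 hT.2 (gr_pos k r)) hmT
  haveI hfP : ∀ i d, FiniteDimensional k (SegLC.hPiece EP mT i d) := fun i d =>
    SegLC.finiteDimensional_hPiece _ (SegreDimOne.t_zero (gr k r) (gr k s) 𝒯 ψ hT.1 hT.2
      (gr_zero k r) (gr_zero k s)) mT haT EP i d
  haveI hfM : ∀ i d, FiniteDimensional k (SegLC.hPiece EM (SegLC.posIdeal (gr k r)) i d) := fun i d =>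
    SegLC.finiteDimensional_hPiece _ (gr_zero k r) _
      (GrRegSeq.toIdeal_eq_irr (gr k r) (gr_pos k r) (SegLC.posIdeal_eq _)) EM i d
  haveI hfN : ∀ i d, FiniteDimensional k (SegLC.hPiece EN (SegLC.posIdeal (gr k s)) i d) := fun i d =>
    SegLC.finiteDimensional_hPiece _ (gr_zero k s) _
      (GrRegSeq.toIdeal_eq_irr (gr k s) (gr_pos k s) (SegLC.posIdeal_eq _)) EN i d
  set μ := fun d => Module.finrank k (Groth.GrDualH.piece (gr k r) (GorSeg.shift (gr k r) a) d)
  set ν := fun d => Module.finrank k (Groth.GrDualH.piece (gr k s) (GorSeg.shift (gr k s) b) d)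
  set α := fun d q => Module.finrank k (SegLC.hPiece EM (SegLC.posIdeal (gr k r)) q d)
  set β := fun d q => Module.finrank k (SegLC.hPiece EN (SegLC.posIdeal (gr k s)) q d)
  have hα : ∀ d i, i ≠ r → α d i = 0 := fun d i hi => Submodule.finrank_eq_zero.2 (hM0 i hi d)
  have hβ : ∀ d i, i ≠ s → β d i = 0 := fun d i hi => Submodule.finrank_eq_zero.2 (hN0 i hi d)
  have hμ : ∀ d, μ d = 0 ↔ d + a < 0 := fun d => shift_piece_eq_bot k r h1r a d
  have hν : ∀ d, ν d = 0 ↔ d + b < 0 := fun d => shift_piece_eq_bot k s (by omega) b d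
  have hαr : ∀ d, α d r = 0 ↔ -(r : ℤ) < d + a := fun d =>
    Submodule.finrank_eq_zero.trans (hMtop d)
  have hβs : ∀ d, β d s = 0 ↔ -(s : ℤ) < d + b := fun d =>
    Submodule.finrank_eq_zero.trans (hNtop d)
  let h := fun q d => Module.finrank k (SegLC.hPiece EP mT q d)
  have h00 : ∀ d, h 0 d = 0 := fun d => Submodule.finrank_eq_zero.2 (hd d).1
  have h1 : ∀ d, h 1 d = α d 1 * ν d := fun d => by
    have e1 := (hd d).2.2.1
    rw [(hd d).2.1] at e1
    change μ d * ν d + h 1 d = (μ d + α d 1) * (ν d + β d 1) at e1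
    rw [hβ d 1 (by omega), add_zero, add_mul] at e1
    omega
  have hh : ∀ m d, h (m + 2) d = ∑ i ∈ Finset.range (m + 2),
      SegLC.hfun (μ d) (α d) i * SegLC.hfun (ν d) (β d) (m + 1 - i) := fun m d => (hd d).2.2.2 m
  have hfA : ∀ d i, i ≠ 0 → i + 1 ≠ r → SegLC.hfun (μ d) (α d) i = 0 := fun d i h0 hi => by
    obtain ⟨j, rfl⟩ := Nat.exists_eq_succ_of_ne_zero h0
    exact hα d (j + 2) hi
  have hfB : ∀ d i, i ≠ 0 → i + 1 ≠ s → SegLC.hfun (ν d) (β d) i = 0 := fun d i h0 hi => by
    obtain ⟨j, rfl⟩ := Nat.exists_eq_succ_of_ne_zero h0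
    exact hβ d (j + 2) hi
  -- the only two contributions
  have hlow : ∀ q, q < r + s - 1 → ((∀ d, h q d = 0) ↔
      (q = r → ∀ d, α d r = 0 ∨ ν d = 0) ∧ (q = s → 2 ≤ r → ∀ d, μ d = 0 ∨ β d s = 0)) := by
    intro q hq
    match q with
    | 0 => exact ⟨fun _ => ⟨fun h' => absurd h' (by omega), fun h' => absurd h' (by omega)⟩, fun _ => h00⟩
    | 1 =>
      refine ⟨fun hz => ⟨fun h' d => ?_, fun h' => absurd h' (by omega)⟩, fun hz d => ?_⟩
      · subst h'
        exact mul_eq_zero.1 ((h1 d).symm.trans (hz d))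
      · rw [h1, mul_eq_zero]
        by_cases hr1 : 1 = r
        · subst hr1; exact hz.1 rfl d
        · exact Or.inl (hα d 1 hr1)
    | m + 2 =>
      have hA : ∀ d, SegLC.hfun (μ d) (α d) 0 = μ d + α d 1 := fun d => rfl
      have hB : ∀ d, SegLC.hfun (ν d) (β d) 0 = ν d := fun d => by
        show ν d + β d 1 = ν d
        rw [hβ d 1 (by omega), add_zero]
      constructor
      · intro hz
        refine ⟨fun he d => ?_, fun he hr2 d => ?_⟩
        · have := Finset.sum_eq_zero_iff.1 ((hh m d).symm.trans (hz d)) (m + 1)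
            (Finset.mem_range.2 (by omega))
          rw [Nat.sub_self, mul_eq_zero, hB] at this
          subst he
          exact this
        · have := Finset.sum_eq_zero_iff.1 ((hh m d).symm.trans (hz d)) 0
            (Finset.mem_range.2 (by omega))
          rw [Nat.sub_zero, mul_eq_zero, hA, hα d 1 (by omega), add_zero] at this
          subst he
          exact this
      · rintro ⟨hzr, hzs⟩ d
        rw [hh]
        refine Finset.sum_eq_zero fun i hi => ?_
        rw [Finset.mem_range] at hi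
        rw [mul_eq_zero]
        by_cases hi0 : i = 0
        · subst hi0
          rw [Nat.sub_zero]
          by_cases he : m + 2 = s
          · subst he
            rcases Nat.lt_or_ge r 2 with hr2 | hr2
            · exfalso; omega
            · rcases hzs rfl hr2 d with h' | h'
              · exact Or.inl (by have := hα d 1 (by omega); rw [hA]; omega)
              · exact Or.inr h'
          · exact Or.inr (hfB d _ (by omega) (by omega))
        by_cases hir : i + 1 = r
        · by_cases hj : m + 1 - i = 0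
          · rw [hj, hB]
            obtain rfl : i = m + 1 := by omega
            subst hir
            exact hzr rfl d
          · exact Or.inr (hfB d _ hj (by omega))
        · exact Or.inl (hfA d i hi0 hir)
  have hsub : ∀ q, Subsingleton (LocCoh.H mT.toIdeal q P) ↔ ∀ d, h q d = 0 := fun q =>
    (SegLC.subsingleton_H_iff EP mT q).trans
      (forall_congr' fun d => Submodule.finrank_eq_zero.symm)
  have key : ∀ n : ℕ, n < r + s - 1 → (∀ q, q < n → ∀ d, h q d = 0) → (∃ d, h n d ≠ 0) →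
      LocCoh.idealDepth mT.toIdeal P = (n : ℕ∞) := by
    intro n _ hlt hne
    refine le_antisymm ?_ ((Groth.LocCohBase.le_idealDepth_iff_localCohomology mT.toIdeal n P).2
      fun q hq => (hsub q).2 (hlt q hq))
    by_contra hle
    have hle' : ((n + 1 : ℕ) : ℕ∞) ≤ LocCoh.idealDepth mT.toIdeal P :=
      Order.add_one_le_of_lt (not_le.1 hle)
    have := (hsub n).1 ((Groth.LocCohBase.le_idealDepth_iff_localCohomology mT.toIdeal (n + 1) P).1
      hle' n (by omega))
    obtain ⟨d, hd'⟩ := hne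
    exact hd' (this d)
  constructor
  · intro hab
    refine key r (by omega) (fun q hq => (hlow q (by omega)).2 ⟨fun h' => absurd h' (by omega),
      fun _ _ d => ?_⟩) ?_
    · by_cases hd' : μ d = 0
      · exact Or.inl hd'
      · refine Or.inr ((hβs d).2 ?_)
        rw [hμ] at hd'
        omega
    · by_contra! hall
      have := ((hlow r (by omega)).1 hall).1 rfl (-b)
      rw [hαr, hν] at this
      omega
  · intro hr2 hab
    refine key s (by omega) (fun q hq => (hlow q (by omega)).2 ⟨fun _ d => ?_,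
      fun h' => absurd h' (by omega)⟩) ?_
    · rw [hαr, hν]
      omega
    · by_contra! hall
      have := ((hlow s (by omega)).1 hall).2 rfl hr2 (-a)
      rw [hμ, hβs] at this
      omega

end Main

end Groth.Misc15.PolySeg
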