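import Mathlib
import Groth.Agent.Misc15.SegLC.QuotGrading
import Groth.Agent.Misc15.SegLC.SegMod
import Groth.Agent.GrMod.Standard
import Groth.Agent.S18647

/-!
Dimension of the image of a Segre ring in a tensor product of graded quotients.
-/

set_option autoImplicit false

universe u

open scoped TensorProduct
open DirectSum GrLC

namespace Groth.Misc15.SegDimQuot

variable {k : Type u} [Field k]
variable {R : Type u} [CommRing R] [Algebra k R] {𝒜 : ℤ → Submodule k R} [GradedAlgebra 𝒜]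

theorem isHomogeneous_annihilator (𝒜 : ℤ → Submodule k R) [GradedAlgebra 𝒜]
    {M : Type u} [AddCommGroup M] [Module R M] (ℳ : ℤ → AddSubgroup M) [DirectSum.Decomposition ℳ]
    [SetLike.GradedSMul 𝒜 ℳ] : (Module.annihilator R M).IsHomogeneous 𝒜 := by
  letI : Module k M := Module.compHom M (algebraMap k R)
  haveI : IsScalarTower k R M := IsScalarTower.of_algebraMap_smul fun _ _ => rfl
  intro i r hr
  rw [Module.mem_annihilator] at hr ⊢
  intro m
  induction m using DirectSum.Decomposition.inductionOn ℳ with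
  | zero => exact smul_zero _
  | add a b ha hb => rw [smul_add, ha, hb, add_zero]
  | @homogeneous g m =>
    have key : ∀ x : R, Groth.GrDualH.proj ℳ (i + g) (x • (m : M)) =
        (DirectSum.decompose 𝒜 x i : R) • (m : M) := fun x => by
      induction x using DirectSum.Decomposition.inductionOn 𝒜 with
      | zero => simp
      | add a b ha hb => simp only [add_smul, map_add, ha, hb, DirectSum.decompose_add,
          DirectSum.add_apply, Submodule.coe_add]
      | @homogeneous j x =>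
        rw [Groth.GrDualH.proj_smul (𝒜 := 𝒜) x.2]
        by_cases hj : j = i
        · subst hj
          rw [DirectSum.decompose_of_mem_same 𝒜 x.2, add_sub_cancel_left,
            Groth.GrDualH.proj_of_mem (ℳ := ℳ) m.2]
        · rw [DirectSum.decompose_of_mem_ne 𝒜 x.2 hj, zero_smul,
            Groth.GrDualH.proj_of_mem_ne (ℳ := ℳ) m.2 (by omega), smul_zero]
    rw [← key r, hr, map_zero]

theorem quot_pos (hpos : ∀ n : ℤ, n < 0 → 𝒜 n = ⊥) (I : Ideal R) :
    ∀ n : ℤ, n < 0 → QuotGr.quotGrading 𝒜 I n = ⊥ := fun n hn => by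
  rw [QuotGr.quotGrading, hpos n hn, Submodule.map_bot]

theorem quot_zero (h0 : 𝒜 0 = Submodule.span k {(1 : R)}) (I : Ideal R) :
    QuotGr.quotGrading 𝒜 I 0 = Submodule.span k {(1 : R ⧸ I)} := by
  rw [QuotGr.quotGrading, h0, Submodule.map_span, Set.image_singleton]
  rfl

variable {S : Type u} [CommRing S] [Algebra k S] {ℬ : ℤ → Submodule k S} [GradedAlgebra ℬ]
variable {T : Type u} [CommRing T] [Algebra k T] {𝒯 : ℤ → Submodule k T} [GradedAlgebra 𝒯]
variable {ψ : T →ₐ[k] R ⊗[k] S}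

/-- The composite of the Segre embedding with the quotient map. -/
noncomputable def theta (ψ : T →ₐ[k] R ⊗[k] S) (I : Ideal R) (J : Ideal S) :
    T →ₐ[k] (R ⧸ I) ⊗[k] (S ⧸ J) :=
  (Algebra.TensorProduct.map (Ideal.Quotient.mkₐ k I) (Ideal.Quotient.mkₐ k J)).comp ψ

theorem map_theta (hT : GrSeg.IsSegreRing 𝒜 ℬ 𝒯 ψ) (I : Ideal R) (J : Ideal S) (n : ℤ) :
    (𝒯 n).map (theta ψ I J).toLinearMap =
      GrSeg.segrePiece k (QuotGr.quotGrading 𝒜 I) (QuotGr.quotGrading ℬ J) n := by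
  rw [theta, AlgHom.comp_toLinearMap, Submodule.map_comp, hT.2 n, GrSeg.segrePiece, GrSeg.segrePiece,
    Submodule.map_span]
  congr 1
  ext z
  constructor
  · rintro ⟨_, ⟨a, ha, b, hb, rfl⟩, rfl⟩
    exact ⟨_, ⟨a, ha, rfl⟩, _, ⟨b, hb, rfl⟩, rfl⟩
  · rintro ⟨_, ⟨a, ha, rfl⟩, _, ⟨b, hb, rfl⟩, rfl⟩
    exact ⟨a ⊗ₜ[k] b, ⟨a, ha, b, hb, rfl⟩, rfl⟩

theorem isHomogeneous_ker_theta (hT : GrSeg.IsSegreRing 𝒜 ℬ 𝒯 ψ) {I : Ideal R} {J : Ideal S}
    (hI : I.IsHomogeneous 𝒜) (hJ : J.IsHomogeneous ℬ) :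
    (RingHom.ker (theta ψ I J)).IsHomogeneous 𝒯 := by
  letI := QuotGr.quotGradedAlgebra 𝒜 I hI
  letI := QuotGr.quotGradedAlgebra ℬ J hJ
  intro i t ht
  let p : (R ⧸ I) ⊗[k] (S ⧸ J) →ₗ[k] (R ⧸ I) ⊗[k] (S ⧸ J) := TensorProduct.map
    (Groth.GrDualH.projₗ (QuotGr.quotGrading 𝒜 I) (QuotGr.quotGrading 𝒜 I) i)
    (Groth.GrDualH.projₗ (QuotGr.quotGrading ℬ J) (QuotGr.quotGrading ℬ J) i)
  have key : ∀ x : T, p (theta ψ I J x) = theta ψ I J (DirectSum.decompose 𝒯 x i : T) := fun x => by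
    induction x using DirectSum.Decomposition.inductionOn 𝒯 with
    | zero => simp
    | add a b ha hb => simp only [map_add, ha, hb, DirectSum.decompose_add, DirectSum.add_apply,
        Submodule.coe_add]
    | @homogeneous j x =>
      have hx : theta ψ I J x ∈ GrSeg.segrePiece k (QuotGr.quotGrading 𝒜 I) (QuotGr.quotGrading ℬ J) j :=
        map_theta hT I J j ▸ Submodule.mem_map_of_mem x.2
      by_cases hj : j = i
      · subst hj
        rw [DirectSum.decompose_of_mem_same 𝒯 x.2]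
        generalize theta ψ I J (x : T) = w at hx ⊢
        induction hx using Submodule.span_induction with
        | zero => rw [map_zero]
        | add a b _ _ ha hb => rw [map_add, ha, hb]
        | smul c a _ ha => rw [map_smul, ha]
        | mem w hw =>
          obtain ⟨a, ha, b, hb, rfl⟩ := hw
          simp [p, Groth.GrDualH.projₗ, Groth.GrDualH.proj_of_mem ha, Groth.GrDualH.proj_of_mem hb]
      · rw [DirectSum.decompose_of_mem_ne 𝒯 x.2 hj, map_zero]
        generalize theta ψ I J (x : T) = w at hx ⊢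
        induction hx using Submodule.span_induction with
        | zero => rw [map_zero]
        | add a b _ _ ha hb => rw [map_add, ha, hb, add_zero]
        | smul c a _ ha => rw [map_smul, ha, smul_zero]
        | mem w hw =>
          obtain ⟨a, ha, b, hb, rfl⟩ := hw
          simp [p, Groth.GrDualH.projₗ, Groth.GrDualH.proj_of_mem_ne ha hj]
  rw [RingHom.mem_ker] at ht ⊢
  rw [← key t, ht, map_zero]

/-- Dimension of the Segre product of graded quotients. -/
theorem dim_quot [Algebra.FiniteType k R] [Algebra.FiniteType k S]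
    (hposR : ∀ n : ℤ, n < 0 → 𝒜 n = ⊥) (h0R : 𝒜 0 = Submodule.span k {(1 : R)})
    (hposS : ∀ n : ℤ, n < 0 → ℬ n = ⊥) (h0S : ℬ 0 = Submodule.span k {(1 : S)})
    (hT : GrSeg.IsSegreRing 𝒜 ℬ 𝒯 ψ) {I : Ideal R} {J : Ideal S} (hI : I.IsHomogeneous 𝒜)
    (hJ : J.IsHomogeneous ℬ) {a b : ℕ} (ha : ringKrullDim (R ⧸ I) = a)
    (hb : ringKrullDim (S ⧸ J) = b) (h1a : 1 ≤ a) (h1b : 1 ≤ b) :
    ringKrullDim (T ⧸ RingHom.ker (theta ψ I J)) = ((a + b - 1 : ℕ) : WithBot ℕ∞) := by
  letI := QuotGr.quotGradedAlgebra 𝒜 I hI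
  letI := QuotGr.quotGradedAlgebra ℬ J hJ
  letI := QuotGr.quotGradedAlgebra 𝒯 _ (isHomogeneous_ker_theta hT hI hJ)
  haveI : Algebra.FiniteType k (R ⧸ I) :=
    Algebra.FiniteType.of_surjective (Ideal.Quotient.mkₐ k I) (Ideal.Quotient.mkₐ_surjective k I)
  haveI : Algebra.FiniteType k (S ⧸ J) :=
    Algebra.FiniteType.of_surjective (Ideal.Quotient.mkₐ k J) (Ideal.Quotient.mkₐ_surjective k J)
  refine Groth.Agent.S18647.result k (R ⧸ I) (QuotGr.quotGrading 𝒜 I) (quot_pos hposR I)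
    (quot_zero h0R I) (S ⧸ J) (QuotGr.quotGrading ℬ J) (quot_pos hposS J) (quot_zero h0S J)
    (T ⧸ RingHom.ker (theta ψ I J)) (QuotGr.quotGrading 𝒯 _)
    (Ideal.kerLiftAlg (theta ψ I J)) (Ideal.kerLiftAlg_injective _) (fun n => ?_) a b ha hb h1a h1b
  rw [QuotGr.quotGrading, ← Submodule.map_comp]
  exact map_theta hT I J n

end Groth.Misc15.SegDimQuot
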