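import Mathlib
import Groth.Agent.Misc15.SegLC.SegDimQuot
import Groth.Agent.Misc15.SegLC.IrrIdeal
import Groth.Agent.GrMod.Transfer

/-!
Dimension of Segre products of finitely generated graded modules over standard graded algebras.
-/

set_option autoImplicit false

universe u

open scoped TensorProduct
open DirectSum GrLC

namespace Groth.Misc15.SegDimQuot

variable {k : Type u} [Field k]
variable {R : Type u} [CommRing R] [Algebra k R] {𝒜 : ℤ → Submodule k R} [GradedAlgebra 𝒜]
variable {M : Type u} [AddCommGroup M] [Module R M] [Module k M] [IsScalarTower k R M]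
  {ℳ : ℤ → AddSubgroup M} [DirectSum.Decomposition ℳ] [SetLike.GradedSMul 𝒜 ℳ]

/-- Over a standard graded algebra, high pieces are generated by any high enough piece. -/
theorem exists_gen [IsNoetherianRing R] [Module.Finite R M] (hpos : ∀ n : ℤ, n < 0 → 𝒜 n = ⊥)
    (hstd : Ideal.span (⋃ n ∈ Set.Ioi (0 : ℤ), (𝒜 n : Set R)) =
      Ideal.span ((𝒜 1 : Submodule k R) : Set R)) :
    ∃ c₀ lo : ℤ, (∀ g < lo, ∀ m ∈ ℳ g, m = 0) ∧ ∀ c, c₀ ≤ c → ∀ n, c ≤ n → ∀ m ∈ ℳ n,
      m ∈ Submodule.span k {z | ∃ r ∈ 𝒜 (n - c), ∃ w ∈ ℳ c, r • w = z} := by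
  classical
  haveI : IsNoetherian R M := isNoetherian_of_isNoetherianRing_of_finite R M
  obtain ⟨lo, hlo⟩ := Groth.GrDualH.exists_lowerBound (M := M) (ℳ := ℳ) hpos
  obtain ⟨G, hG⟩ := (Module.finite_def.1 inferInstance : (⊤ : Submodule R M).FG)
  obtain ⟨c₀, hc₀⟩ := (G.biUnion fun g => (DirectSum.decompose ℳ g).support).bddAbove
  refine ⟨c₀, lo, hlo, fun c hc n hn m hm => ?_⟩
  suffices H : ∀ z ∈ Submodule.span R (G : Set M), ∀ r : R, Groth.GrDualH.proj ℳ n (r • z) ∈
      Submodule.span k {z | ∃ r ∈ 𝒜 (n - c), ∃ w ∈ ℳ c, r • w = z} by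
    have h := H m (hG ▸ Submodule.mem_top) 1
    rwa [one_smul, Groth.GrDualH.proj_of_mem hm] at h
  intro z hz
  induction hz using Submodule.span_induction with
  | zero => intro r; rw [smul_zero, map_zero]; exact zero_mem _
  | add a b _ _ ha hb => intro r; rw [smul_add, map_add]; exact add_mem (ha r) (hb r)
  | smul s a _ ha => intro r; rw [smul_smul]; exact ha _
  | mem g hg =>
    intro r
    rw [← DirectSum.sum_support_decompose ℳ g, Finset.smul_sum, map_sum]
    refine Submodule.sum_mem _ fun i hi => ?_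
    have hic : i ≤ c := le_trans (hc₀ (Finset.mem_biUnion.2 ⟨g, hg, hi⟩)) hc
    have hgi : (DirectSum.decompose ℳ g i : M) ∈ ℳ i := (DirectSum.decompose ℳ g i).2
    generalize (DirectSum.decompose ℳ g i : M) = w at hgi ⊢
    induction r using DirectSum.Decomposition.inductionOn 𝒜 with
    | zero => rw [zero_smul, map_zero]; exact zero_mem _
    | add a b ha hb => rw [add_smul, map_add]; exact add_mem ha hb
    | @homogeneous j r =>
      by_cases hij : j + i = n
      · have h1 : (r : R) • w ∈ ℳ n := hij ▸ Groth.GrDualH.smul_mem (ℳ := ℳ) r.2 hgi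
        rw [Groth.GrDualH.proj_of_mem h1]
        have h2 : (r : R) ∈ GrothGr.agr 𝒜 ((n - c) + ((c - i).toNat : ℕ)) := by
          show (r : R) ∈ 𝒜 _
          rw [Int.toNat_of_nonneg (by omega), show n - c + (c - i) = j by omega]
          exact r.2
        have h3 := GrothGr.mem_prodClosure (GrothGr.agr 𝒜) hstd (show (0 : ℤ) ≤ n - c by omega) _ h2
        refine AddSubgroup.closure_induction
          (p := fun x _ => x • w ∈ Submodule.span k {z | ∃ r ∈ 𝒜 (n - c), ∃ w ∈ ℳ c, r • w = z})
          (fun x hx => ?_) (by rw [zero_smul]; exact zero_mem _)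
          (fun a b _ _ ha hb => by rw [add_smul]; exact add_mem ha hb)
          (fun a _ ha => by rw [neg_smul]; exact neg_mem ha) h3
        obtain ⟨u, hu, v, hv, rfl⟩ := hx
        have hv' : v • w ∈ ℳ c := by
          have := Groth.GrDualH.smul_mem (ℳ := ℳ) (show v ∈ 𝒜 _ from hv) hgi
          rwa [Int.toNat_of_nonneg (by omega), sub_add_cancel] at this
        exact Submodule.subset_span ⟨u, hu, v • w, hv', (mul_smul u v w).symm⟩
      · rw [Groth.GrDualH.proj_of_mem_ne (Groth.GrDualH.smul_mem (ℳ := ℳ) r.2 hgi) hij]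
        exact zero_mem _

variable {S : Type u} [CommRing S] [Algebra k S] {ℬ : ℤ → Submodule k S} [GradedAlgebra ℬ]
variable {N : Type u} [AddCommGroup N] [Module S N] [Module k N] [IsScalarTower k S N]
  {𝒩 : ℤ → AddSubgroup N} [DirectSum.Decomposition 𝒩] [SetLike.GradedSMul ℬ 𝒩]

/-- A tensor acting as zero on `M ⊗ N` dies modulo the annihilators. -/
theorem map_eq_zero_of_act [Module.Finite R M] [Module.Finite S N] {z : R ⊗[k] S}
    (h : ∀ (m : M) (n : N), GrSeg.act k R S M N z (m ⊗ₜ[k] n) = 0) :
    Algebra.TensorProduct.map (Ideal.Quotient.mkₐ k (Module.annihilator R M))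
      (Ideal.Quotient.mkₐ k (Module.annihilator S N)) z = 0 := by
  classical
  obtain ⟨p, g, hg⟩ := Module.Finite.exists_fin (R := R) (M := M)
  obtain ⟨q, g', hg'⟩ := Module.Finite.exists_fin (R := S) (M := N)
  let F : R →ₗ[R] (Fin p → M) := LinearMap.pi fun i => LinearMap.toSpanSingleton R M (g i)
  let G : S →ₗ[S] (Fin q → N) := LinearMap.pi fun i => LinearMap.toSpanSingleton S N (g' i)
  have hF : LinearMap.ker F = Module.annihilator R M := by
    refine le_antisymm (fun r hr => Module.mem_annihilator.2 fun m => ?_) fun r hr => ?_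
    · have hm : m ∈ Submodule.span R (Set.range g) := hg ▸ Submodule.mem_top
      induction hm using Submodule.span_induction with
      | zero => exact smul_zero r
      | add a b _ _ ha hb => rw [smul_add, ha, hb, add_zero]
      | smul s a _ ha => rw [smul_comm, ha, smul_zero]
      | mem x hx => obtain ⟨i, rfl⟩ := hx; exact congrFun (LinearMap.mem_ker.1 hr) i
    · exact LinearMap.mem_ker.2 (funext fun i => Module.mem_annihilator.1 hr (g i))
  have hG : LinearMap.ker G = Module.annihilator S N := by
    refine le_antisymm (fun r hr => Module.mem_annihilator.2 fun m => ?_) fun r hr => ?_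
    · have hm : m ∈ Submodule.span S (Set.range g') := hg' ▸ Submodule.mem_top
      induction hm using Submodule.span_induction with
      | zero => exact smul_zero r
      | add a b _ _ ha hb => rw [smul_add, ha, hb, add_zero]
      | smul s a _ ha => rw [smul_comm, ha, smul_zero]
      | mem x hx => obtain ⟨i, rfl⟩ := hx; exact congrFun (LinearMap.mem_ker.1 hr) i
    · exact LinearMap.mem_ker.2 (funext fun i => Module.mem_annihilator.1 hr (g' i))
  have hL1 : Function.Injective (Submodule.liftQ (Module.annihilator R M) F hF.ge) :=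
    LinearMap.ker_eq_bot.1 (Submodule.ker_liftQ_eq_bot _ F hF.ge hF.le)
  have hL2 : Function.Injective (Submodule.liftQ (Module.annihilator S N) G hG.ge) :=
    LinearMap.ker_eq_bot.1 (Submodule.ker_liftQ_eq_bot _ G hG.ge hG.le)
  let f1 : (R ⧸ Module.annihilator R M) →ₗ[k] (Fin p → M) :=
    (Submodule.liftQ (Module.annihilator R M) F hF.ge).restrictScalars k
  let f2 : (S ⧸ Module.annihilator S N) →ₗ[k] (Fin q → N) :=
    (Submodule.liftQ (Module.annihilator S N) G hG.ge).restrictScalars k
  have hf1 : Function.Injective f1 := hL1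
  have hf2 : Function.Injective f2 := hL2
  refine TensorProduct.map_injective_of_flat_flat f1 f2 hf1 hf2 ?_
  rw [map_zero]
  have hid : ∀ x : (Fin p → M) ⊗[k] (Fin q → N), (∀ i j, TensorProduct.map
      (LinearMap.proj (R := k) i) (LinearMap.proj (R := k) j) x = 0) → x = 0 := by
    intro x hx
    have h1 : x = ∑ i, ∑ j, TensorProduct.map (LinearMap.single k (fun _ => M) i)
        (LinearMap.single k (fun _ => N) j)
        (TensorProduct.map (LinearMap.proj (R := k) i) (LinearMap.proj (R := k) j) x) := by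
      clear hx
      induction x using TensorProduct.induction_on with
      | zero => simp
      | add a b ha hb => simp only [map_add, Finset.sum_add_distrib, ← ha, ← hb]
      | tmul a b =>
        simp only [TensorProduct.map_tmul, ← TensorProduct.tmul_sum, ← TensorProduct.sum_tmul]
        congr 1
        · exact (Finset.univ_sum_single a).symm
        · exact (Finset.univ_sum_single b).symm
    rw [h1]
    simp [hx]
  refine hid _ fun i j => ?_
  have key : ∀ w : R ⊗[k] S, TensorProduct.map (LinearMap.proj (R := k) i)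
      (LinearMap.proj (R := k) j) (TensorProduct.map f1 f2 (Algebra.TensorProduct.map
        (Ideal.Quotient.mkₐ k (Module.annihilator R M))
        (Ideal.Quotient.mkₐ k (Module.annihilator S N)) w)) =
      GrSeg.act k R S M N w (g i ⊗ₜ[k] g' j) := fun w => by
    induction w using TensorProduct.induction_on with
    | zero => simp
    | add a b ha hb => simp only [map_add, LinearMap.add_apply, ha, hb]
    | tmul a b =>
      rw [Algebra.TensorProduct.map_tmul, TensorProduct.map_tmul, TensorProduct.map_tmul,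
        GrSeg.act_tmul]
      rfl
  rw [key z, h]

variable {T : Type u} [CommRing T] [Algebra k T] {𝒯 : ℤ → Submodule k T} [GradedAlgebra 𝒯]
variable {ψ : T →ₐ[k] R ⊗[k] S}
variable {P : Type u} [AddCommGroup P] [Module T P] [Module k P] [IsScalarTower k T P]
  {𝒬 : ℤ → AddSubgroup P} [DirectSum.Decomposition 𝒬] {φ : P →ₗ[k] M ⊗[k] N}

/-- The annihilator of a Segre product, up to radical. -/
theorem supportDim_segre [Algebra.FiniteType k R] [Algebra.FiniteType k S]
    [Module.Finite R M] [Module.Finite S N]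
    (hposR : ∀ n : ℤ, n < 0 → 𝒜 n = ⊥) (h0R : 𝒜 0 = Submodule.span k {(1 : R)})
    (hposS : ∀ n : ℤ, n < 0 → ℬ n = ⊥) (h0S : ℬ 0 = Submodule.span k {(1 : S)})
    (hT : GrSeg.IsSegreRing 𝒜 ℬ 𝒯 ψ)
    (hstdR : Ideal.span (⋃ n ∈ Set.Ioi (0 : ℤ), (𝒜 n : Set R)) =
      Ideal.span ((𝒜 1 : Submodule k R) : Set R))
    (hstdS : Ideal.span (⋃ n ∈ Set.Ioi (0 : ℤ), (ℬ n : Set S)) =
      Ideal.span ((ℬ 1 : Submodule k S) : Set S))
    (hP : GrSeg.IsSegreMod ψ ℳ 𝒩 𝒬 φ) {a b : ℕ}
    (ha : Module.supportDim R M = a) (hb : Module.supportDim S N = b) (h1a : 1 ≤ a) (h1b : 1 ≤ b) :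
    Module.supportDim T P = ((a + b - 1 : ℕ) : WithBot ℕ∞) := by
  classical
  haveI : IsNoetherianRing R := Algebra.FiniteType.isNoetherianRing k R
  haveI : IsNoetherianRing S := Algebra.FiniteType.isNoetherianRing k S
  haveI : Nontrivial M := (Module.supportDim_ne_bot_iff_nontrivial R M).1 (by rw [ha]; simp)
  haveI : Nontrivial N := (Module.supportDim_ne_bot_iff_nontrivial S N).1 (by rw [hb]; simp)
  haveI : Nontrivial R := Module.nontrivial R M
  haveI : Nontrivial S := Module.nontrivial S N
  haveI : Nontrivial T := SegLC.nontrivial_segre ψ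
  haveI := SegLC.gradedSMul_segre (𝒜 := 𝒜) (ℬ := ℬ) (𝒯 := 𝒯) hT hP
  haveI := SegLC.isNoetherian_segre hT hP
  haveI : Module.Finite T P := Module.IsNoetherian.finite T P
  have hposT := SegreDimOne.t_pos 𝒜 ℬ 𝒯 ψ hT.1 hT.2 hposR
  have h0T := SegreDimOne.t_zero 𝒜 ℬ 𝒯 ψ hT.1 hT.2 h0R h0S
  have hI := isHomogeneous_annihilator 𝒜 ℳ
  have hJ := isHomogeneous_annihilator ℬ 𝒩
  have hdim := dim_quot hposR h0R hposS h0S hT hI hJ
    (by rw [← Module.supportDim_eq_ringKrullDim_quotient_annihilator, ha])
    (by rw [← Module.supportDim_eq_ringKrullDim_quotient_annihilator, hb]) h1a h1b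
  set π := Algebra.TensorProduct.map (Ideal.Quotient.mkₐ k (Module.annihilator R M))
      (Ideal.Quotient.mkₐ k (Module.annihilator S N)) with hπ
  set θ := theta ψ (Module.annihilator R M) (Module.annihilator S N)
  have hθ : ∀ t, θ t = π (ψ t) := fun _ => rfl
  -- elements killing the tensor product kill the Segre product
  have hker : RingHom.ker θ ≤ Module.annihilator T P := by
    intro t ht
    rw [Module.mem_annihilator]
    intro p
    refine hP.injective ?_
    rw [hP.map_smul, map_zero]
    have hz : ψ t ∈ RingHom.ker π := by rw [RingHom.mem_ker, ← hθ]; exact RingHom.mem_ker.1 ht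
    rw [hπ, Algebra.TensorProduct.map_ker _ _ (Ideal.Quotient.mkₐ_surjective k _)
      (Ideal.Quotient.mkₐ_surjective k _)] at hz
    generalize φ p = w
    generalize ψ t = y at hz
    obtain ⟨u, hu, v, hv, rfl⟩ := Submodule.mem_sup.1 hz
    have hu0 : ∀ w, GrSeg.act k R S M N u w = 0 := by
      clear hz
      induction hu using Submodule.span_induction with
      | zero => simp
      | add a b _ _ ha hb => intro w; rw [map_add, LinearMap.add_apply, ha, hb, add_zero]
      | smul c a _ ha => intro w; rw [smul_eq_mul, Segre.act_mul, LinearMap.comp_apply, ha, map_zero]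
      | mem a ha =>
        obtain ⟨r, hr, rfl⟩ := ha
        intro w
        induction w using TensorProduct.induction_on with
        | zero => rw [map_zero]
        | add a b ha hb => rw [map_add, ha, hb, add_zero]
        | tmul m n =>
          rw [Algebra.TensorProduct.includeLeft_apply, GrSeg.act_tmul,
            Module.mem_annihilator.1 (Ideal.Quotient.eq_zero_iff_mem.1 hr) m, TensorProduct.zero_tmul]
    have hv0 : ∀ w, GrSeg.act k R S M N v w = 0 := by
      clear hz
      induction hv using Submodule.span_induction with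
      | zero => simp
      | add a b _ _ ha hb => intro w; rw [map_add, LinearMap.add_apply, ha, hb, add_zero]
      | smul c a _ ha => intro w; rw [smul_eq_mul, Segre.act_mul, LinearMap.comp_apply, ha, map_zero]
      | mem a ha =>
        obtain ⟨r, hr, rfl⟩ := ha
        intro w
        induction w using TensorProduct.induction_on with
        | zero => rw [map_zero]
        | add a b ha hb => rw [map_add, ha, hb, add_zero]
        | tmul m n =>
          rw [Algebra.TensorProduct.includeRight_apply, GrSeg.act_tmul,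
            Module.mem_annihilator.1 (Ideal.Quotient.eq_zero_iff_mem.1 hr) n, TensorProduct.tmul_zero]
    rw [map_add, LinearMap.add_apply, hu0, hv0, add_zero]
  obtain ⟨cM, loM, hloM, hgenM⟩ := exists_gen (M := M) (ℳ := ℳ) hposR hstdR
  obtain ⟨cN, loN, hloN, hgenN⟩ := exists_gen (M := N) (ℳ := 𝒩) hposS hstdS
  -- homogeneous elements of positive degree killing `P`
  have hkill : ∀ i, 0 < i → ∀ t ∈ 𝒯 i, t ∈ Module.annihilator T P → IsNilpotent (θ t) := by
    intro i hi t ht hta
    rw [← mem_nilradical, nilradical_eq_sInf, Submodule.mem_sInf]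
    intro Q (hQ : Ideal.IsPrime Q)
    have h1 : ∀ n, ∀ m ∈ ℳ n, ∀ m' ∈ 𝒩 n,
        GrSeg.act k R S M N (ψ t) (m ⊗ₜ[k] m') = 0 := fun n m hm m' hm' => by
      obtain ⟨p, -, hp⟩ : m ⊗ₜ[k] m' ∈ φ '' (𝒬 n : Set P) := by
        rw [hP.image_piece]; exact Submodule.subset_span ⟨m, hm, m', hm', rfl⟩
      rw [← hp, ← hP.map_smul, Module.mem_annihilator.1 hta p, map_zero]
    let c := max cM cN
    have h2 : ∀ n n', c ≤ n → c ≤ n' → ∀ m ∈ ℳ n, ∀ m' ∈ 𝒩 n',
        GrSeg.act k R S M N (ψ t) (m ⊗ₜ[k] m') = 0 := fun n n' hn hn' m hm m' hm' => by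
      have hm2 := hgenM c (le_max_left _ _) n hn m hm
      have hm3 := hgenN c (le_max_right _ _) n' hn' m' hm'
      clear hm hm'
      induction hm2 using Submodule.span_induction with
      | zero => rw [TensorProduct.zero_tmul, map_zero]
      | add u v _ _ hu hv => rw [TensorProduct.add_tmul, map_add, hu, hv, add_zero]
      | smul d u _ hu => rw [← TensorProduct.smul_tmul', map_smul, hu, smul_zero]
      | mem u hu =>
        obtain ⟨r, -, w, hw, rfl⟩ := hu
        induction hm3 using Submodule.span_induction with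
        | zero => rw [TensorProduct.tmul_zero, map_zero]
        | add u v _ _ hu hv => rw [TensorProduct.tmul_add, map_add, hu, hv, add_zero]
        | smul d u _ hu => rw [TensorProduct.tmul_smul, map_smul, hu, smul_zero]
        | mem u hu =>
          obtain ⟨s, -, w', hw', rfl⟩ := hu
          rw [← GrSeg.act_tmul r s w w', ← LinearMap.comp_apply, ← Segre.act_mul,
            mul_comm, Segre.act_mul, LinearMap.comp_apply, h1 c w hw w' hw', map_zero]
    by_cases hR : ∀ j, 0 < j → ∀ x ∈ 𝒜 j, π (x ⊗ₜ[k] (1 : S)) ∈ Q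
    · rw [hθ]
      have hψ := SegLC.psi_mem hT ht
      generalize ψ t = y at hψ
      induction hψ using Submodule.span_induction with
      | zero => rw [map_zero]; exact zero_mem _
      | add u v _ _ hu hv => rw [map_add]; exact add_mem hu hv
      | smul d u _ hu =>
        rw [map_smul, Algebra.smul_def]
        exact Ideal.mul_mem_left Q _ hu
      | mem w hw =>
        obtain ⟨x, hx, y, -, rfl⟩ := hw
        rw [show x ⊗ₜ[k] y = (x ⊗ₜ[k] (1 : S)) * ((1 : R) ⊗ₜ[k] y) by simp, map_mul]
        exact Ideal.mul_mem_right _ Q (hR i hi x hx)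
    by_cases hS : ∀ j, 0 < j → ∀ y ∈ ℬ j, π ((1 : R) ⊗ₜ[k] y) ∈ Q
    · rw [hθ]
      have hψ := SegLC.psi_mem hT ht
      generalize ψ t = y at hψ
      induction hψ using Submodule.span_induction with
      | zero => rw [map_zero]; exact zero_mem _
      | add u v _ _ hu hv => rw [map_add]; exact add_mem hu hv
      | smul d u _ hu =>
        rw [map_smul, Algebra.smul_def]
        exact Ideal.mul_mem_left Q _ hu
      | mem w hw =>
        obtain ⟨x, -, y, hy, rfl⟩ := hw
        rw [show x ⊗ₜ[k] y = (x ⊗ₜ[k] (1 : S)) * ((1 : R) ⊗ₜ[k] y) by simp, map_mul]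
        exact Ideal.mul_mem_left Q _ (hS i hi y hy)
    push Not at hR hS
    obtain ⟨j, hj, x, hx, hxQ⟩ := hR
    obtain ⟨j', hj', y, hy, hyQ⟩ := hS
    let e := ((c - loM).toNat + (c - loN).toNat)
    have hz : ∀ (m : M) (n : N),
        GrSeg.act k R S M N (ψ t * ((x ^ e) ⊗ₜ[k] (y ^ e))) (m ⊗ₜ[k] n) = 0 := by
      intro m n
      induction m using DirectSum.Decomposition.inductionOn ℳ with
      | zero => rw [TensorProduct.zero_tmul, map_zero]
      | add u v hu hv => rw [TensorProduct.add_tmul, map_add, hu, hv, add_zero]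
      | @homogeneous g m =>
        induction n using DirectSum.Decomposition.inductionOn 𝒩 with
        | zero => rw [TensorProduct.tmul_zero, map_zero]
        | add u v hu hv => rw [TensorProduct.tmul_add, map_add, hu, hv, add_zero]
        | @homogeneous g' n =>
          by_cases hg : g < loM
          · rw [hloM g hg _ m.2, TensorProduct.zero_tmul, map_zero]
          by_cases hg' : g' < loN
          · rw [hloN g' hg' _ n.2, TensorProduct.tmul_zero, map_zero]
          rw [Segre.act_mul, LinearMap.comp_apply, GrSeg.act_tmul]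
          refine h2 _ _ ?_ ?_ _
            (Groth.GrDualH.smul_mem (ℳ := ℳ) (SetLike.pow_mem_graded e hx) m.2) _
            (Groth.GrDualH.smul_mem (ℳ := 𝒩) (SetLike.pow_mem_graded e hy) n.2)
          · rw [nsmul_eq_mul]
            have : (e : ℤ) * 1 ≤ (e : ℤ) * j := mul_le_mul_of_nonneg_left (by omega) (by positivity)
            omega
          · rw [nsmul_eq_mul]
            have : (e : ℤ) * 1 ≤ (e : ℤ) * j' := mul_le_mul_of_nonneg_left (by omega) (by positivity)
            omega
    have h0 : π (ψ t * ((x ^ e) ⊗ₜ[k] (y ^ e))) = 0 := map_eq_zero_of_act hz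
    rw [show (x ^ e) ⊗ₜ[k] (y ^ e) = (x ⊗ₜ[k] (1 : S)) ^ e * ((1 : R) ⊗ₜ[k] y) ^ e by simp, map_mul,
      map_mul, map_pow, map_pow, ← hθ] at h0
    rcases hQ.mem_or_mem (h0 ▸ Q.zero_mem) with h | h
    · exact h
    · rcases hQ.mem_or_mem h with h | h
      · exact absurd (hQ.mem_of_pow_mem e h) hxQ
      · exact absurd (hQ.mem_of_pow_mem e h) hyQ
  -- the unit does not kill `P`
  have hone : (1 : T) ∉ Module.annihilator T P := by
    intro h
    have hall : GrCurve.irr 𝒯 hposT ≤ (RingHom.ker θ).radical := by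
      rw [← GrRegSeq.toIdeal_eq_irr 𝒯 hposT (SegLC.posIdeal_eq 𝒯), SegLC.posIdeal_eq, Ideal.span_le]
      intro t ht
      simp only [Set.mem_iUnion, Set.mem_Ioi] at ht
      obtain ⟨i, hi, ht⟩ := ht
      obtain ⟨m, hm⟩ := hkill i hi t ht ((Ideal.eq_top_iff_one _).2 h ▸ Submodule.mem_top)
      exact ⟨m, by rw [RingHom.mem_ker, map_pow, hm]⟩
    have hle : ringKrullDim (T ⧸ RingHom.ker θ) ≤ 0 := by
      rw [ringKrullDim_quotient]
      haveI hmax := GrCurve.irr_isMaximal 𝒯 hposT h0T
      haveI : Subsingleton (PrimeSpectrum.zeroLocus (R := T) (RingHom.ker θ)) := by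
        refine ⟨fun p q => Subtype.ext (PrimeSpectrum.ext ?_)⟩
        have hp := hmax.eq_of_le p.1.2.ne_top (hall.trans (p.1.2.radical_le_iff.2 p.2))
        have hq := hmax.eq_of_le q.1.2.ne_top (hall.trans (q.1.2.radical_le_iff.2 q.2))
        exact hp.symm.trans hq
      exact Order.krullDim_nonpos_of_subsingleton
    rw [hdim] at hle
    have : a + b - 1 ≤ 0 := by exact_mod_cast hle
    omega
  have hrad : Module.annihilator T P ≤ (RingHom.ker θ).radical := by
    intro t ht
    rw [← DirectSum.sum_support_decompose 𝒯 t]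
    refine Ideal.sum_mem _ fun i _ => ?_
    have hti := isHomogeneous_annihilator 𝒯 𝒬 i ht
    have hmem : (DirectSum.decompose 𝒯 t i : T) ∈ 𝒯 i := (DirectSum.decompose 𝒯 t i).2
    generalize (DirectSum.decompose 𝒯 t i : T) = x at hti hmem ⊢
    rcases lt_trichotomy i 0 with hi | rfl | hi
    · rw [(Submodule.eq_bot_iff _).1 (hposT i hi) x hmem]; exact zero_mem _
    · obtain ⟨d, rfl⟩ := Submodule.mem_span_singleton.1 (h0T ▸ hmem)
      by_cases hd : d = 0
      · rw [hd, zero_smul]; exact zero_mem _
      · refine absurd ?_ hone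
        have := Submodule.smul_of_tower_mem (Module.annihilator T P) d⁻¹ hti
        rwa [smul_smul, inv_mul_cancel₀ hd, one_smul] at this
    · obtain ⟨m, hm⟩ := hkill i hi x hmem hti
      exact ⟨m, by rw [RingHom.mem_ker, map_pow, hm]⟩
  rw [Module.supportDim_eq_ringKrullDim_quotient_annihilator, ← hdim, ringKrullDim_quotient,
    ringKrullDim_quotient]
  have hz : PrimeSpectrum.zeroLocus ((Module.annihilator T P : Ideal T) : Set T) =
      PrimeSpectrum.zeroLocus ((RingHom.ker θ : Ideal T) : Set T) :=
    le_antisymm (PrimeSpectrum.zeroLocus_anti_mono_ideal hker)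
      ((PrimeSpectrum.zeroLocus_radical (RingHom.ker θ)).ge.trans
        (PrimeSpectrum.zeroLocus_anti_mono_ideal hrad))
  rw [hz]

end Groth.Misc15.SegDimQuot
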